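import Cfsg.Agent.SchurBN.TwistD4

/-!
# The weights of the torus of a twisted group, with the table for `³D₄`
-/

set_option autoImplicit false
set_option linter.style.haveILetI false
set_option linter.unusedSectionVars false

namespace CfsgLib.GraphTwist

open Cfsg.Lie CfsgLib.Chevalley
open scoped MatrixGroups

namespace FieldTwist

variable {D : ChevalleyDatum} {τ : Setup D} {K : Type*} [Field K] (Φ : FieldTwist τ K)

/-- The weights of a fixed torus element follow the twist. -/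
theorem chi_σR {c : Fin D.rank → Kˣ} (hc : c ∈ Φ.fixC) (r : Root D) :
    ChevSimple.chi c (τ.σR r) = Φ.fU (ChevSimple.chi c r) := by
  have hf : torC D c ∈ Φ.fix := Φ.H₀_le_fix ⟨c, hc, rfl⟩
  have h := congrArg Φ.Ψ (ChevSimple.torC_conj_X τ.good.good c r (1 : K))
  rw [map_mul, map_mul, map_inv, Φ.mem_fix.1 hf, Ψ_X, Ψ_X, map_one, mul_one,
    ChevSimple.torC_conj_X τ.good.good, mul_one] at h
  have h' := X_injective τ.good.good _ h
  have hsgn : ((τ.cfg.S.sgn r : K)) ≠ 0 := by
    intro h0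
    have := X_injective τ.good.good (τ.σR r) (a₁ := (τ.cfg.S.sgn r : K) * Φ.f 1) (a₂ := 0)
    have h1 : Φ.Ψ (X τ.good.good r (1 : K)) = Φ.Ψ 1 := by
      rw [map_one, Ψ_X, h0, zero_mul, X_zero]
    exact one_ne_zero (X_injective τ.good.good r ((Φ.Ψ.injective h1).trans (X_zero _ _).symm))
  rw [mul_comm (τ.cfg.S.sgn r : K)] at h'
  exact Units.ext (mul_right_cancel₀ hsgn h')

theorem chi_adm {c : Fin D.rank → Kˣ} (hc : c ∈ Φ.fixC) (r : Root D) :
    Φ.Adm r (ChevSimple.chi c r : K) := fun h => by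
  have := congrArg Units.val (Φ.chi_σR hc r)
  rw [h, coe_fU] at this
  exact this.symm

/-- With a faithful torus, the weights of the fundamental orbits are arbitrary. -/
theorem exists_fixC_chi [Finite K]
    (hker : Nat.card {c : Fin D.rank → Kˣ //
      c ∈ Φ.fixC ∧ ∀ i, ChevSimple.chi c (pRoot τ.good i) = 1} = 1)
    (v : ∀ o : Fin τ.cfg.m, {a : Kˣ // Φ.AdmU (τ.spR o) a}) :
    ∃ c ∈ Φ.fixC, ∀ o, ChevSimple.chi c (τ.spR o) = (v o : Kˣ) := by
  let F : ↥Φ.fixC → ∀ o : Fin τ.cfg.m, {a : Kˣ // Φ.AdmU (τ.spR o) a} :=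
    fun c o => ⟨ChevSimple.chi c.1 (τ.spR o), Φ.admU_iff.2 (Φ.chi_adm c.2 _)⟩
  have hmul : ∀ (c d : Fin D.rank → Kˣ) r,
      ChevSimple.chi (c * d) r = ChevSimple.chi c r * ChevSimple.chi d r := fun c d r => by
    simp only [ChevSimple.chi, Pi.mul_apply, mul_zpow, Finset.prod_mul_distrib]
  have hinj : Function.Injective F := by
    intro c d h
    have h1 : ∀ i, ChevSimple.chi (c.1 * d.1⁻¹) (pRoot τ.good i) = 1 := by
      intro i
      obtain ⟨o, ho⟩ := τ.exists_mem_nlist i
      obtain ⟨j, -, rfl⟩ := List.mem_map.1 ho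
      have hcd : c.1 * d.1⁻¹ ∈ Φ.fixC := mul_mem c.2 (inv_mem d.2)
      have hj : ∀ n : ℕ, ∀ r, ChevSimple.chi (c.1 * d.1⁻¹) r = 1 →
          ChevSimple.chi (c.1 * d.1⁻¹) ((τ.σR ^ n) r) = 1 := by
        intro n
        induction n with
        | zero => exact fun r h => h
        | succ n ih =>
          intro r h
          rw [pow_succ', Equiv.Perm.mul_apply, Φ.chi_σR hcd, ih r h]
          exact map_one _
      have h0 : ChevSimple.chi (c.1 * d.1⁻¹) (τ.spR o) = 1 := by
        have hd : ChevSimple.chi d.1⁻¹ (τ.spR o) = (ChevSimple.chi d.1 (τ.spR o))⁻¹ := by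
          simp only [ChevSimple.chi, Pi.inv_apply, inv_zpow, Finset.prod_inv_distrib]
        rw [hmul, hd, mul_inv_eq_one]
        exact congrArg Subtype.val (congrFun h o)
      have := hj j _ h0
      rwa [τ.σR_pow_pRoot] at this
    haveI := (Nat.card_eq_one_iff_unique.1 hker).1
    have h2 : (⟨c.1 * d.1⁻¹, mul_mem c.2 (inv_mem d.2), h1⟩ :
        {c : Fin D.rank → Kˣ // c ∈ Φ.fixC ∧ ∀ i, ChevSimple.chi c (pRoot τ.good i) = 1}) =
        ⟨1, one_mem _, fun i => by simp [ChevSimple.chi]⟩ := Subsingleton.elim _ _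
    exact Subtype.ext (mul_inv_eq_one.1 (congrArg Subtype.val h2))
  haveI : Finite (∀ o : Fin τ.cfg.m, {a : Kˣ // Φ.AdmU (τ.spR o) a}) := inferInstance
  have hb : Function.Bijective F :=
    hinj.bijective_of_nat_card_le (le_of_eq (by rw [Φ.natCard_fixC, Nat.card_pi]))
  obtain ⟨c, hc⟩ := hb.2 v
  exact ⟨c.1, c.2, fun o => congrArg Subtype.val (congrFun hc o)⟩

theorem chi_eq_prod (c : Fin D.rank → Kˣ) (r : Root D) (e : Fin D.rank → ℤ)
    (h : ∀ k : Fin D.rank, D.cartan k r = ∑ i : Fin D.rank, e i * D.cartan k (pRoot τ.good i : Root D)) :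
    ChevSimple.chi c r = ∏ i, ChevSimple.chi c (pRoot τ.good i) ^ e i := by
  simp only [ChevSimple.chi, ← Finset.prod_zpow, ← zpow_mul]
  rw [Finset.prod_comm]
  refine Finset.prod_congr rfl fun k _ => ?_
  rw [h k]
  exact (map_sum (zmultiplesHom (Additive Kˣ) (Additive.ofMul (c k)))
    (fun i => e i * D.cartan k (pRoot τ.good i : Root D)) Finset.univ).trans
      (Finset.sum_congr rfl fun i _ => by rw [mul_comm]; rfl)

end FieldTwist

/-- Coefficients of the six representatives on the fundamental roots. -/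
def repCoef : ℕ → Fin 4 → ℤ
  | 0 => ![0, 0, 0, 1]
  | 1 => ![0, 1, 0, 0]
  | 2 => ![0, 1, 0, 1]
  | 3 => ![0, 1, 1, 1]
  | 4 => ![1, 1, 1, 1]
  | _ => ![1, 2, 1, 1]

/-- Pins the generated equation lemmas of `repCoef` to this module, so that importers share one copy. -/
theorem repCoef_eqs_here : True := by
  have h1 := @repCoef.eq_1
  have h6 := @repCoef.eq_6
  trivial

theorem repCoef_spec : ∀ (i : Fin setupD4.norb) (k : Fin chevD4.rank),
    chevD4.cartan k (setupD4.rep i : Root chevD4) =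
      ∑ j : Fin chevD4.rank, repCoef i j * chevD4.cartan k (pRoot setupD4.good j : Root chevD4) := by
  decide +kernel

variable {K : Type*} [Field K]

/-- The weight of a representative. -/
theorem chi_rep (Φ : FieldTwist setupD4 K) {c : Fin chevD4.rank → Kˣ} (hc : c ∈ Φ.fixC)
    (i : Fin setupD4.norb) (X Y : Kˣ) (hX : ChevSimple.chi c (setupD4.spR (0 : Fin 2)) = X)
    (hY : ChevSimple.chi c (setupD4.spR (1 : Fin 2)) = Y) :
    ChevSimple.chi c (setupD4.rep i) =
      X ^ repCoef i 0 * Y ^ repCoef i 1 * Φ.fU X ^ repCoef i 2 * Φ.fU (Φ.fU X) ^ repCoef i 3 := by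
  rw [FieldTwist.chi_eq_prod (τ := setupD4) c _ _ (repCoef_spec i)]
  have h0 : pRoot setupD4.good (nodeD4 0) = setupD4.spR (0 : Fin 2) := by decide +kernel
  have h1 : pRoot setupD4.good (nodeD4 1) = setupD4.spR (1 : Fin 2) := by decide +kernel
  have h2 : pRoot setupD4.good (nodeD4 2) = setupD4.σR (setupD4.spR (0 : Fin 2)) := by
    decide +kernel
  have h3 : pRoot setupD4.good (nodeD4 3) =
      setupD4.σR (setupD4.σR (setupD4.spR (0 : Fin 2))) := by decide +kernel
  refine (Fin.prod_univ_four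
    (fun j : Fin 4 => ChevSimple.chi c (pRoot setupD4.good (nodeD4 j)) ^ repCoef i j)).trans ?_
  simp only [h0, h1, h2, h3, Φ.chi_σR hc, hX, hY]

end CfsgLib.GraphTwist
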