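import Cfsg.Agent.SchurBN.PPart
import Cfsg.Agent.SchurBN.TwistWeights

/-!
# An equivariant section over the unipotent group of a twisted group
-/

set_option autoImplicit false
set_option linter.style.haveILetI false
set_option linter.unusedSectionVars false

namespace CfsgLib.GraphTwist

open Cfsg.Lie CfsgLib.Chevalley CfsgLib.SchurBN
open scoped MatrixGroups commutatorElement

namespace Setup

variable {D : ChevalleyDatum} (τ : Setup D) {K : Type*} [Field K]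

/-- The commutator of two positive root elements lies beyond the first. -/
theorem comm_X_mem_uT {r s : Root D} (hr : half D ≤ (r : ℕ)) (hs : half D ≤ (s : ℕ)) {i : ℕ}
    (hi : i ≤ τ.cfg.orbPos r) (v t : K) :
    (X τ.good.good r t)⁻¹ * (X τ.good.good s v * X τ.good.good r t * (X τ.good.good s v)⁻¹) ∈
      τ.uT K (i + 1) := by
  rcases eq_or_ne s r with rfl | hne
  · rw [X_mul, X_inv, X_inv, X_mul, X_mul, show -t + (v + t + -v) = 0 by ring, X_zero]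
    exact one_mem _
  have hne' : s ≠ r.rev := by
    intro e
    rw [e, Fin.val_rev] at hs
    have := τ.good.good.two_half
    omega
  rw [X_comm τ.good.toGoodComm r s hne hne' t v,
    show ∀ p q W : GL D.Idx K, p⁻¹ * (p * q * W * q⁻¹) = q * W * q⁻¹ from fun p q W => by group]
  exact τ.conj_mem_uT hs v (i + 1) (τ.commRhs_mem_uT hr hs hi t v)

end Setup

namespace FieldTwist

variable {D : ChevalleyDatum} {τ : Setup D} {K : Type*} [Field K] (Φ : FieldTwist τ K)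

theorem oX_comm_mem_uT {r s : Root D} (hr : half D ≤ (r : ℕ)) (hs : half D ≤ (s : ℕ)) (x y : K) :
    (Φ.oX r y)⁻¹ * (Φ.oX s x * Φ.oX r y * (Φ.oX s x)⁻¹) ∈ τ.uT K (τ.cfg.orbPos r + 1) := by
  let U : Subgroup (GL D.Idx K) := D.posUnipotent K
  haveI hn : ((τ.uT K (τ.cfg.orbPos r + 1)).subgroupOf U).Normal :=
    Subgroup.normal_subgroupOf_of_le_normalizer (τ.pos_le_normalizer_uT _)
  let q := QuotientGroup.mk' ((τ.uT K (τ.cfg.orbPos r + 1)).subgroupOf U)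
  have hU : ∀ {a : Root D}, half D ≤ (a : ℕ) → ∀ t : K, X τ.good.good a t ∈ U := fun {a} ha t => by
    show _ ∈ D.posUnipotent K
    rw [posUnipotent_eq_rootGen τ.good.good]
    exact X_mem_rootGen _ ha t
  have hpair : ∀ (a : Root D) (ha : half D ≤ (a : ℕ)) (b : Root D) (hb : half D ≤ (b : ℕ)),
      a ∈ τ.orb r → ∀ t u : K,
        Commute (q ⟨_, hU ha t⟩) (q ⟨_, hU hb u⟩) := by
    intro a ha b hb hmem t u
    have h1 := τ.comm_X_mem_uT ha hb (i := τ.cfg.orbPos r) (τ.orbPos_orb hr hmem).ge u t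
    have h2 : q ((⟨_, hU ha t⟩ : ↥U)⁻¹ *
        ((⟨_, hU hb u⟩ : ↥U) * ⟨_, hU ha t⟩ * (⟨_, hU hb u⟩ : ↥U)⁻¹)) = 1 :=
      (QuotientGroup.eq_one_iff _).2 h1
    rw [map_mul, map_mul, map_mul, map_inv, map_inv, inv_mul_eq_one, eq_mul_inv_iff_mul_eq] at h2
    exact h2
  have hxU : Φ.oX s x ∈ U := Φ.oX_mem_pos hs x
  have hyU : Φ.oX r y ∈ U := Φ.oX_mem_pos hr y
  let lift : ∀ (a : Root D), half D ≤ (a : ℕ) → K → List ℕ → List ↥U := fun a ha t L =>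
    L.map fun j => ⟨X τ.good.good ((τ.σR ^ j) a) (Φ.tw j a t),
      hU ((τ.σR_pow_pos j a).2 ha) _⟩
  have he : ∀ (a : Root D) (ha : half D ≤ (a : ℕ)) (t : K) (h : Φ.oX a t ∈ U),
      (⟨Φ.oX a t, h⟩ : ↥U) = (lift a ha t (List.range (τ.osize a))).prod := by
    intro a ha t h
    apply Subtype.ext
    rw [show ((lift a ha t (List.range (τ.osize a))).prod : GL D.Idx K) =
      ((lift a ha t (List.range (τ.osize a))).map U.subtype).prod from map_list_prod U.subtype _,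
      List.map_map]
    exact congrArg List.prod (List.map_congr_left fun j _ => Φ.Ψ_pow_X j a t)
  have hc : Commute (q ⟨_, hyU⟩) (q ⟨_, hxU⟩) := by
    rw [he r hr y hyU, he s hs x hxU, map_list_prod, map_list_prod]
    refine Commute.list_prod_left _ _ fun a ha => Commute.list_prod_right _ _ fun b hb => ?_
    simp only [lift, List.map_map, List.mem_map, Function.comp_apply] at ha hb
    obtain ⟨i, -, rfl⟩ := ha
    obtain ⟨j, -, rfl⟩ := hb
    exact hpair _ ((τ.σR_pow_pos i r).2 hr) _ ((τ.σR_pow_pos j s).2 hs)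
      (τ.mem_orb_iff.2 ⟨i, rfl⟩) _ _
  have h3 : q ((⟨_, hyU⟩ : ↥U)⁻¹ * (⟨_, hxU⟩ * ⟨_, hyU⟩ * (⟨_, hxU⟩ : ↥U)⁻¹)) = 1 := by
    rw [map_mul, map_mul, map_mul, map_inv, map_inv, inv_mul_eq_one, eq_mul_inv_iff_mul_eq]
    exact hc
  exact Subgroup.mem_subgroupOf.1 ((QuotientGroup.eq_one_iff _).1 h3)

variable {Γ : Type*} [Group Γ] {π : Γ →* GL D.Idx K}

/-- An orbit root group as a root map. -/
def rootMap (π : Γ →* GL D.Idx K) (r : Root D)
    (hr : ∀ t, Φ.Adm r t → Φ.oX r t ∈ π.range) :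
    RootMap π (Φ.H₀ : Set (GL D.Idx K)) (Φ.admField r) where
  a t := Φ.oX r (t : K)
  a_add s t := (Φ.oX_mul r _ _).symm
  lift t := hr _ t.2
  weight := by
    rintro _ ⟨c, hc, rfl⟩
    exact ⟨⟨_, Φ.chi_adm hc r⟩, fun t => Φ.torC_conj_oX hc r _⟩

theorem torC_conj_rootMap {r : Root D} (hr : ∀ t, Φ.Adm r t → Φ.oX r t ∈ π.range)
    {c : Fin D.rank → Kˣ} (hc : c ∈ Φ.fixC) (x : Φ.admField r) :
    torC D c * (Φ.rootMap π r hr).a x * (torC D c)⁻¹ =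
      (Φ.rootMap π r hr).a (⟨_, Φ.chi_adm hc r⟩ * x) :=
  Φ.torC_conj_oX hc r _

theorem H₀_comm : ∀ h ∈ (Φ.H₀ : Set (GL D.Idx K)), ∀ k ∈ (Φ.H₀ : Set (GL D.Idx K)),
    Commute h k := by
  rintro _ ⟨c, -, rfl⟩ _ ⟨d, -, rfl⟩
  show torHom D K c * torHom D K d = torHom D K d * torHom D K c
  rw [← map_mul, ← map_mul, mul_comm]

variable [Finite K]

theorem conj_mem_fix {g h : GL D.Idx K} (hg : g ∈ Φ.fix) (hh : h ∈ Φ.fix) :
    g * h * g⁻¹ ∈ Φ.fix :=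
  mul_mem (mul_mem hg hh) (inv_mem hg)

theorem H₀_conj_u1 {h u : GL D.Idx K} (hh : h ∈ Φ.H₀) {i : ℕ} (hu : u ∈ Φ.u1 i) :
    h * u * h⁻¹ ∈ Φ.u1 i := by
  obtain ⟨c, hc, rfl⟩ := hh
  refine ⟨?_, Φ.conj_mem_fix (Φ.H₀_le_fix ⟨c, hc, rfl⟩) hu.2⟩
  refine (rootGen_le τ.good.good (K := (τ.uT K i).comap
    (MulAut.conj (torHom D K c)).toMonoidHom) fun r hr t => ?_) hu.1
  show torC D c * X τ.good.good r t * (torC D c)⁻¹ ∈ τ.uT K i
  rw [ChevSimple.torC_conj_X τ.good.good]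
  exact X_mem_rootGen _ hr _

theorem oX_rep_mem_u1 (j : Fin τ.norb) {x : K} (hx : Φ.Adm (τ.rep j) x) :
    Φ.oX (τ.rep j) x ∈ Φ.u1 (j : ℕ) :=
  ⟨rootGen_mono _ (τ.orb_subset_tail (τ.rep_pos _)
    (τ.orbPos_eq (i := j) (τ.self_mem_orb _)).ge) (Φ.oX_mem_rootGen _ _), Φ.oX_mem_fix hx⟩

/-- The section over the unipotent group. -/
theorem exists_sect (hc : π.ker ≤ Subgroup.center Γ) (hrange : Φ.tG ≤ π.range)
    (hsep : ∀ i j : Fin τ.norb, i < j → ∃ c ∈ Φ.fixC,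
      (ChevSimple.chi c (τ.rep i) = 1 ∧ ChevSimple.chi c (τ.rep j) ≠ 1) ∨
      (ChevSimple.chi c (τ.rep i) ≠ 1 ∧ ChevSimple.chi c (τ.rep j) = 1))
    (hfpf : ∀ i : Fin τ.norb, ∃ c ∈ Φ.fixC, ChevSimple.chi c (τ.rep i) ≠ 1)
    (hab : ∀ (i : Fin τ.norb) (g g' : Γ) (x y : Φ.admField (τ.rep i)),
      π g = Φ.oX (τ.rep i) (x : K) → π g' = Φ.oX (τ.rep i) (y : K) → Commute g g') :
    Nonempty (Sect π (Φ.H₀ : Set (GL D.Idx K)) Φ.U1) := by
  rw [show Φ.U1 = Φ.u1 0 by rw [u1, τ.uT_zero]]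
  suffices H : ∀ n i, i + n = τ.norb → Nonempty (Sect π (Φ.H₀ : Set (GL D.Idx K)) (Φ.u1 i)) from
    H τ.norb 0 (Nat.zero_add _)
  intro n
  induction n with
  | zero =>
    intro i hi
    have hone : ∀ u ∈ Φ.u1 i, u = 1 := fun u hu =>
      Subgroup.mem_bot.1 (τ.uT_norb (K := K) ▸ (show i = τ.norb by omega) ▸ hu.1)
    refine ⟨⟨fun _ => 1, fun u hu => ?_, fun u _ v _ => (one_mul 1).symm, fun k _ u _ => ?_⟩⟩
    · rw [map_one, hone u hu]
    · rw [mul_one, mul_inv_cancel]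
  | succ n ih =>
    intro i hi
    obtain ⟨S⟩ := ih (i + 1) (by omega)
    let ii : Fin τ.norb := ⟨i, by omega⟩
    have hlift : ∀ (j : Fin τ.norb) (t : K), Φ.Adm (τ.rep j) t → Φ.oX (τ.rep j) t ∈ π.range :=
      fun j t ht => hrange (Φ.U1_le_tG ⟨Φ.oX_mem_pos (τ.rep_pos j) t, Φ.oX_mem_fix ht⟩)
    let A := Φ.rootMap π (τ.rep ii) (hlift ii)
    obtain ⟨c, hcf, hc1⟩ := hfpf ii
    have hμ0 : (⟨_, Φ.chi_adm hcf (τ.rep ii)⟩ : Φ.admField (τ.rep ii)) ≠ 1 := fun h =>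
      hc1 (Units.ext (congrArg Subtype.val h))
    obtain ⟨ã, hã, hadd, heq⟩ := exists_rootLift hc Φ.H₀_comm A (hab ii)
      (h₀ := torC D c) ⟨c, hcf, rfl⟩ (hrange (Φ.H₀_le_tG ⟨c, hcf, rfl⟩))
      (Φ.torC_conj_rootMap (hlift ii) hcf) hμ0
    have hposA : ∀ x, A.a x ∈ Φ.u1 i := fun x => Φ.oX_rep_mem_u1 ii x.2
    have hnorm : ∀ x, ∀ u ∈ Φ.u1 (i + 1), A.a x * u * (A.a x)⁻¹ ∈ Φ.u1 (i + 1) := fun x u hu =>
      ⟨(Subgroup.mem_normalizer_iff.1
        (τ.pos_le_normalizer_uT (i + 1) (Φ.oX_mem_pos (τ.rep_pos ii) _)) u).1 hu.1,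
        Φ.conj_mem_fix (Φ.oX_mem_fix x.2) hu.2⟩
    have hact : ∀ m j, j + m = τ.norb → i < j → Φ.u1 j ≤ S.actSubgroup A ã hnorm := by
      intro m
      induction m with
      | zero =>
        intro j hj _ u hu
        have : u = 1 := Subgroup.mem_bot.1 (τ.uT_norb (K := K) ▸ (show j = τ.norb by omega) ▸ hu.1)
        rw [this]
        exact one_mem _
      | succ m ihm =>
        intro j hj hij u hu
        let jj : Fin τ.norb := ⟨j, by omega⟩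
        have hnext := ihm (j + 1) (by omega) (by omega)
        obtain ⟨y, hy, b, hb, rfl⟩ := Φ.exists_split_u1 jj hu
        refine mul_mem ?_ (hnext hb)
        let B := Φ.rootMap π (τ.rep jj) (hlift jj)
        have hBP : ∀ z, B.a z ∈ Φ.u1 (i + 1) := fun z =>
          ⟨τ.uT_anti (show i + 1 ≤ j by omega) (Φ.oX_rep_mem_u1 jj z.2).1, Φ.oX_mem_fix z.2⟩
        obtain ⟨d, hd, hdd⟩ := hsep ii jj (show i < j from hij)
        refine S.act_of_sep hc A hã hadd heq hnorm B hBP (fun x z => hnext ⟨?_, ?_⟩)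
          (h := torC D d) ⟨d, hd, rfl⟩ (hrange (Φ.H₀_le_tG ⟨d, hd, rfl⟩))
          (Φ.torC_conj_rootMap (hlift ii) hd) (Φ.torC_conj_rootMap (hlift jj) hd) ?_ ⟨y, hy⟩
        · have := Φ.oX_comm_mem_uT (τ.rep_pos jj) (τ.rep_pos ii) (x : K) (z : K)
          rwa [τ.orbPos_eq (i := jj) (τ.self_mem_orb _)] at this
        · exact (mul_mem (inv_mem (Φ.oX_mem_fix z.2))
            (Φ.conj_mem_fix (Φ.oX_mem_fix x.2) (Φ.oX_mem_fix z.2)) :
              (Φ.oX (τ.rep jj) z)⁻¹ * (Φ.oX (τ.rep ii) x * Φ.oX (τ.rep jj) z *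
                (Φ.oX (τ.rep ii) x)⁻¹) ∈ Φ.fix)
        · rcases hdd with ⟨h1, h2⟩ | ⟨h1, h2⟩
          · exact Or.inl ⟨Subtype.ext (congrArg Units.val h1),
              fun h => h2 (Units.ext (congrArg Subtype.val h))⟩
          · exact Or.inr ⟨fun h => h1 (Units.ext (congrArg Subtype.val h)),
              Subtype.ext (congrArg Units.val h2)⟩
    refine (S.extend A hã hadd heq hnorm (fun x u hu => ?_)
      (fun h hh u hu => Φ.H₀_conj_u1 hh hu) (fun g hg => ?_) fun x hx => ?_).elim fun S' _ => ⟨S'⟩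
    · obtain ⟨m, hm⟩ : ∃ m, i + 1 + m = τ.norb := ⟨τ.norb - (i + 1), by omega⟩
      exact (hact m (i + 1) hm (Nat.lt_succ_self i) hu).2 x
    · obtain ⟨x, hx, b, hb, rfl⟩ := Φ.exists_split_u1 ii hg
      exact ⟨⟨x, hx⟩, b, hb, rfl⟩
    · have h1 := τ.orb_inf_tail ii (Φ.oX_mem_rootGen _ _) hx.1
      exact Subtype.ext (Φ.oX_injective (τ.rep_pos ii) (h1.trans (Φ.oX_zero _).symm))

end FieldTwist

end CfsgLib.GraphTwist
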