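import Cfsg.Agent.SchurBN.TwistD4P

/-!
# The Schur multiplier of `³D₄(q)`
-/

set_option autoImplicit false
set_option linter.style.haveILetI false
set_option linter.unusedSectionVars false

namespace CfsgLib.GraphTwist

open Cfsg.Lie CfsgLib.Chevalley CfsgLib.SchurBN
open scoped MatrixGroups

universe u

variable {K : Type u} [Field K] [Fintype K] {p : ℕ} [hp : Fact p.Prime] [CharP K p]

/-- The characteristic divides `q`. -/
theorem dvd_q_D4 {q : ℕ} (hK : Nat.card K = q ^ 3) : p ∣ q := by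
  refine hp.out.dvd_of_dvd_pow (n := 3) ?_
  obtain ⟨n, -, hn⟩ := FiniteField.card K p
  rw [← hK, Nat.card_eq_fintype_card, hn]
  exact dvd_pow_self _ n.ne_zero

/-- The unipotent group has index prime to the characteristic. -/
theorem coprime_index_U1_D4 (Φ : FieldTwist setupD4 K) {q : ℕ}
    (hfix : Nat.card {x : K // Φ.f x = x} = q) (hK : Nat.card K = q ^ setupD4.cfg.k) (hq : 2 ≤ q)
    (htG : Nat.card ↥Φ.tG = q ^ 12 * (q ^ 2 - 1) * (q ^ 6 - 1) * (q ^ 8 + q ^ 4 + 1)) :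
    p.Coprime (Φ.U1.subgroupOf Φ.tG).index := by
  have hU : Nat.card (Φ.U1.subgroupOf Φ.tG) = q ^ 12 := by
    rw [Nat.card_congr (Subgroup.subgroupOfEquivOfLe Φ.U1_le_tG).toEquiv]
    exact Φ.natCard_u1 hfix hK
  have h := (Φ.U1.subgroupOf Φ.tG).card_mul_index
  rw [hU, htG, mul_assoc, mul_assoc] at h
  rw [Nat.eq_of_mul_eq_mul_left (pow_pos (by omega) 12) h]
  have hd := dvd_q_D4 (p := p) hK
  have key : ∀ n, 1 ≤ n → p.Coprime (q ^ n - 1) := fun n hn => by
    rw [hp.out.coprime_iff_not_dvd]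
    intro e
    have h1 : p ∣ q ^ n - 1 + 1 := by
      rw [Nat.sub_add_cancel (Nat.one_le_pow _ _ (by omega))]
      exact hd.trans (dvd_pow_self q (by omega))
    exact hp.out.not_dvd_one ((Nat.dvd_add_right e).1 h1)
  refine (key 2 (by norm_num)).mul_right ((key 6 (by norm_num)).mul_right ?_)
  rw [hp.out.coprime_iff_not_dvd]
  intro e
  refine hp.out.not_dvd_one ((Nat.dvd_add_right ?_).1 e)
  exact dvd_add (hd.trans (dvd_pow_self q (by norm_num))) (hd.trans (dvd_pow_self q (by norm_num)))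

/-- `³D₄(q)` has trivial Schur multiplier, given the part at the characteristic for `q = 2`. -/
theorem hasCyclicSchurMultiplier_twistedD4 {q : ℕ} (hq : IsPrimePow q)
    (hK : Fintype.card K = q ^ 3)
    (htwo : q = 2 → ∀ (Φ : FieldTwist setupD4 K), (∀ x, Φ.f x = x ^ q) →
      Nat.card {x : K // Φ.f x = x} = q → Nat.card K = q ^ setupD4.cfg.k →
      ∀ (Γ : Type u) [Group Γ] [Finite Γ] (σ : Γ →* ↥Φ.tG), Cfsg.IsStemExtension σ →
        (∀ z ∈ σ.ker, z ^ p = 1) → p.Coprime (Φ.U1.subgroupOf Φ.tG).index → σ.ker = ⊥) :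
    Cfsg.HasCyclicSchurMultiplier ↥(Cfsg.Lie.twistedD4 K q) 1 := by
  obtain ⟨Φ, e, hf, hfix, hK', -⟩ := twistedD4_eq_tG hq hK
  have hcard := natCard_twistedD4 hq hK
  rw [e] at hcard ⊢
  haveI : Finite ↥Φ.tG := Nat.finite_of_card_ne_zero (by
    rw [hcard]
    have h2 : 1 < q ^ 2 := Nat.one_lt_pow two_ne_zero hq.one_lt
    have h6 : 1 < q ^ 6 := Nat.one_lt_pow (by norm_num) hq.one_lt
    have : 0 < q := hq.one_lt.le
    have : 0 < q ^ 12 * (q ^ 2 - 1) * (q ^ 6 - 1) := by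
      have := pow_pos this 12
      have : 0 < q ^ 2 - 1 := by omega
      have : 0 < q ^ 6 - 1 := by omega
      positivity
    positivity)
  refine CfsgLib.Schur.hasCyclicSchurMultiplier_one _ fun l hl _ Γ _ _ σ hσ hexp => ?_
  by_cases hlp : l = p
  · subst hlp
    have hidx := coprime_index_U1_D4 (p := l) Φ hfix hK' hq.two_le hcard
    rcases Nat.lt_or_ge q 3 with h | h
    · exact htwo (by have := hq.two_le; omega) Φ hf hfix hK' Γ σ hσ hexp hidx
    · exact ker_eq_bot_D4_char Φ hf hfix hK' h σ hσ hexp hidx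
  · refine ker_eq_bot_D4 (p := p) Φ hfix hK' σ hσ ?_
    rw [hp.out.coprime_iff_not_dvd]
    intro hd
    obtain ⟨z, hz⟩ := exists_prime_orderOf_dvd_card' p hd
    have hz1 : z ^ l = 1 := Subtype.ext (hexp z z.2)
    have hdl := orderOf_dvd_of_pow_eq_one hz1
    rw [hz] at hdl
    exact hlp ((Nat.prime_dvd_prime_iff_eq hp.out hl).1 hdl).symm

end CfsgLib.GraphTwist
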