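import Cfsg.Agent.SchurBN.TwistSect
import Cfsg.Agent.GraphTwist.Perfect
import Cfsg.Agent.Schur.Basic

/-!
# Stem extensions of `³D₄(q)`, `q ≥ 3`: the part at the characteristic
-/

set_option autoImplicit false
set_option linter.style.haveILetI false
set_option linter.unusedSectionVars false
set_option maxRecDepth 8000

namespace CfsgLib.GraphTwist

open Cfsg.Lie CfsgLib.Chevalley CfsgLib.SchurBN
open scoped MatrixGroups commutatorElement

universe u

theorem osize_rep_D4 : ∀ i : Fin setupD4.norb,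
    setupD4.osize (setupD4.rep i) = if i.1 = 1 ∨ 4 ≤ i.1 then 1 else 3 := by decide +kernel

/-- The long roots giving a long root by commutation, with their representatives. -/
def triD4 : ℕ → (Root chevD4 × Root chevD4) × (Fin setupD4.norb × Fin setupD4.norb)
  | 1 => ((⟨1, by decide +kernel⟩, ⟨23, by decide +kernel⟩),
      (⟨4, by decide +kernel⟩, ⟨5, by decide +kernel⟩))
  | 4 => ((⟨23, by decide +kernel⟩, ⟨9, by decide +kernel⟩),
      (⟨5, by decide +kernel⟩, ⟨1, by decide +kernel⟩))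
  | _ => ((⟨14, by decide +kernel⟩, ⟨22, by decide +kernel⟩),
      (⟨1, by decide +kernel⟩, ⟨4, by decide +kernel⟩))

theorem long_triples_D4 : ∀ i : Fin setupD4.norb, i.1 = 1 ∨ 4 ≤ i.1 →
    ((triD4 i).2.1.1 = 1 ∨ 4 ≤ (triD4 i).2.1.1) ∧ ((triD4 i).2.2.1 = 1 ∨ 4 ≤ (triD4 i).2.2.1) ∧
      (triD4 i).2.1 ≠ i ∧ (triD4 i).2.2 ≠ i ∧
      ((triD4 i).1.1 = setupD4.rep (triD4 i).2.1 ∨
        (triD4 i).1.1 = (setupD4.rep (triD4 i).2.1).rev) ∧
      ((triD4 i).1.2 = setupD4.rep (triD4 i).2.2 ∨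
        (triD4 i).1.2 = (setupD4.rep (triD4 i).2.2).rev) ∧
      (triD4 i).1.2 ≠ (triD4 i).1.1 ∧ (triD4 i).1.2 ≠ (triD4 i).1.1.rev ∧
      (triD4 i).1.1 ≠ setupD4.rep i ∧ (triD4 i).1.1 ≠ (setupD4.rep i).rev ∧
      (triD4 i).1.2 ≠ setupD4.rep i ∧ (triD4 i).1.2 ≠ (setupD4.rep i).rev ∧
      chevD4.commTerms (setupD4.rep i) (triD4 i).1.1 = [] ∧
      chevD4.commTerms (setupD4.rep i) (triD4 i).1.2 = [] ∧
      (chevD4.commTerms (triD4 i).1.1 (triD4 i).1.2 = [((setupD4.rep i : ℕ), 1, 1, 1)] ∨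
        chevD4.commTerms (triD4 i).1.1 (triD4 i).1.2 = [((setupD4.rep i : ℕ), -1, 1, 1)]) := by
  decide +kernel

variable {K : Type u} [Field K]

theorem chi_rev {D : ChevalleyDatum} (hD : Good D) (c : Fin D.rank → Kˣ) (r : Root D) :
    ChevSimple.chi c r.rev = (ChevSimple.chi c r)⁻¹ := by
  simp only [ChevSimple.chi, ← Finset.prod_inv_distrib]
  refine Finset.prod_congr rfl fun k _ => ?_
  rw [Setup.rev_val, hD.cartan_opp k.2 r.2, zpow_neg]

namespace FieldTwist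

variable [Finite K] (Φ : FieldTwist setupD4 K)

theorem fU3 (x : Kˣ) : Φ.fU (Φ.fU (Φ.fU x)) = x := Units.ext (Φ.periodic (x : K))

theorem fU_norm (x : Kˣ) :
    Φ.fU (x * Φ.fU x * Φ.fU (Φ.fU x)) = x * Φ.fU x * Φ.fU (Φ.fU x) := by
  rw [Φ.fU_mul, Φ.fU_mul, Φ.fU3, mul_comm _ x, mul_assoc]

/-- A torus element with given values on the two orbits of nodes. -/
theorem exists_wt (X Y : Kˣ) (hY : Φ.fU Y = Y) :
    ∃ c ∈ Φ.fixC, ∀ i : Fin setupD4.norb, ChevSimple.chi c (setupD4.rep i) =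
      X ^ repCoef i 0 * Y ^ repCoef i 1 * Φ.fU X ^ repCoef i 2 *
        Φ.fU (Φ.fU X) ^ repCoef i 3 := by
  have hσ : ∀ o : Fin 2, setupD4.σR (setupD4.spR o) = setupD4.spR o → o = 1 := by
    decide +kernel
  have hadm : ∀ o : Fin 2, Φ.AdmU (setupD4.spR o) ((![X, Y] : Fin 2 → Kˣ) o) := fun o h => by
    rw [hσ o h]; exact hY
  obtain ⟨c, hc, hv⟩ := Φ.exists_fixC_chi (kerD4_card Φ) fun o : Fin 2 => ⟨_, hadm o⟩
  exact ⟨c, hc, fun i => chi_rep Φ hc i X Y (hv (0 : Fin 2)) (hv (1 : Fin 2))⟩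

variable {q : ℕ}

/-- The torus elements used: a scalar of norm one, one of norm `≠ 1`, a fixed scalar `≠ 1`. -/
theorem exists_scalars (hf : ∀ x, Φ.f x = x ^ q) (hfix : Nat.card {x : K // Φ.f x = x} = q)
    (hK : Nat.card K = q ^ setupD4.cfg.k) (hq : 3 ≤ q) :
    (∃ x : Kˣ, x ≠ 1 ∧ x * Φ.fU x * Φ.fU (Φ.fU x) = 1) ∧
      (∃ x : Kˣ, x * Φ.fU x * Φ.fU (Φ.fU x) ≠ 1) ∧ ∃ y : Kˣ, y ≠ 1 ∧ Φ.fU y = y := by
  classical
  letI := Fintype.ofFinite K
  have hK' : Nat.card K = q ^ 3 := hK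
  have h3 : q * 3 ≤ q ^ 3 := Nat.mul_le_mul_left q (by
    calc 3 ≤ q := hq
      _ ≤ q * q := Nat.le_mul_self q) |>.trans_eq (by ring)
  refine ⟨?_, ?_, ?_⟩
  · obtain ⟨z, hz⟩ : ∃ z : K, Φ.f z ≠ z := by
      by_contra h
      push Not at h
      rw [Nat.card_congr (Equiv.subtypeUnivEquiv h)] at hfix
      omega
    have hz0 : z ≠ 0 := fun e => hz (by rw [e, map_zero])
    let u := Units.mk0 z hz0
    refine ⟨u * (Φ.fU u)⁻¹, fun e => hz ?_, ?_⟩
    · exact (congrArg Units.val (mul_inv_eq_one.1 e)).symm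
    · have hinv : ∀ a : Kˣ, Φ.fU a⁻¹ = (Φ.fU a)⁻¹ := fun a => map_inv _ a
      simp only [Φ.fU_mul, hinv, Φ.fU3]
      simp only [mul_comm, mul_assoc, mul_left_comm, inv_mul_cancel_left, inv_mul_cancel,
        mul_inv_cancel, mul_inv_cancel_left, mul_one, one_mul]
  · by_contra h
    push Not at h
    obtain ⟨g, hg⟩ := IsCyclic.exists_generator (α := Kˣ)
    have e : g ^ (1 + q + q * q) = 1 := by
      have hfU : ∀ a : Kˣ, Φ.fU a = a ^ q := fun a => Units.ext (by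
        rw [coe_fU, hf, Units.val_pow_eq_pow_val])
      have := h g
      rw [hfU, hfU, ← pow_mul] at this
      rw [pow_add, pow_add, pow_one]
      exact this
    have hord := Nat.le_of_dvd (by positivity) (orderOf_dvd_of_pow_eq_one e)
    rw [orderOf_eq_card_of_forall_mem_zpowers hg, Nat.card_units, hK'] at hord
    have : 2 * (1 + q + q * q) + 1 ≤ q ^ 3 := by nlinarith
    omega
  · haveI : Finite {x : K // Φ.f x = x} := inferInstance
    by_contra h
    push Not at h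
    have hle : Nat.card {x : K // Φ.f x = x} ≤ 2 := by
      let S : Finset K := {0, 1}
      refine le_trans (Nat.card_le_card_of_injective (β := S) (fun x => ⟨x.1, ?_⟩)
        fun a b e => Subtype.ext (congrArg (fun s : S => (s : K)) e)) ?_
      · simp only [S, Finset.mem_insert, Finset.mem_singleton]
        by_cases hx : x.1 = 0
        · exact Or.inl hx
        · by_contra hne
          exact h (Units.mk0 x.1 hx) (fun e => hne (Or.inr (congrArg Units.val e)))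
            (Units.ext x.2)
      · rw [Nat.card_eq_fintype_card, Fintype.card_coe]
        exact Finset.card_le_two
    omega

/-- The weights of two representatives are separated. -/
theorem sep_D4 (hf : ∀ x, Φ.f x = x ^ q) (hfix : Nat.card {x : K // Φ.f x = x} = q)
    (hK : Nat.card K = q ^ setupD4.cfg.k) (hq : 3 ≤ q) :
    (∀ i j : Fin setupD4.norb, i ≠ j → ∃ c ∈ Φ.fixC,
      (ChevSimple.chi c (setupD4.rep i) = 1 ∧ ChevSimple.chi c (setupD4.rep j) ≠ 1) ∨
      (ChevSimple.chi c (setupD4.rep i) ≠ 1 ∧ ChevSimple.chi c (setupD4.rep j) = 1)) ∧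
    ∀ i : Fin setupD4.norb, ∃ c ∈ Φ.fixC, ChevSimple.chi c (setupD4.rep i) ≠ 1 := by
  obtain ⟨⟨x1, hx1, hN1⟩, ⟨x2, hN2⟩, ⟨y, hy1, hy⟩⟩ := Φ.exists_scalars hf hfix hK hq
  have hy2 : Φ.fU y⁻¹ = y⁻¹ := by rw [show Φ.fU y⁻¹ = (Φ.fU y)⁻¹ from map_inv _ y, hy]
  obtain ⟨A, hA, wA⟩ := Φ.exists_wt x1 1 (map_one _)
  obtain ⟨B, hB, wB⟩ := Φ.exists_wt 1 y hy
  obtain ⟨C, hC, wC⟩ := Φ.exists_wt y y⁻¹ hy2
  obtain ⟨D, hD, wD⟩ := Φ.exists_wt x2 1 (map_one _)
  set N := x2 * Φ.fU x2 * Φ.fU (Φ.fU x2) with hN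
  obtain ⟨E, hE, wE⟩ := Φ.exists_wt x2 N⁻¹ (by
    rw [show Φ.fU N⁻¹ = (Φ.fU N)⁻¹ from map_inv _ N, hN, Φ.fU_norm])
  have hN2' : ¬ x2 * Φ.fU x2 * Φ.fU (Φ.fU x2) = 1 := by rw [← hN]; exact hN2
  have hmc : ∀ a b c d : Kˣ, a * d * b * c = a * b * c * d := fun a b c d => by ac_rfl
  have h1 : Φ.fU 1 = 1 := map_one _
  have hf2 : Φ.fU (Φ.fU x1) ≠ 1 := fun e => hx1 (by rw [← Φ.fU3 x1, e, h1])
  have hN1' : Φ.fU x1 * Φ.fU (Φ.fU x1) ≠ 1 := fun e => hx1 (by rwa [mul_assoc, e, mul_one] at hN1)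
  -- the tables
  have a : ∀ i : Fin setupD4.norb, ChevSimple.chi A (setupD4.rep i) ≠ 1 ↔ ¬(i.1 = 1 ∨ 4 ≤ i.1) := by
    intro i; rw [wA]; fin_cases i <;> simp [repCoef, hf2, hN1', hN1, ← mul_assoc]
  have b0 : ChevSimple.chi B (setupD4.rep ⟨0, by decide⟩) = 1 := by rw [wB]; simp [repCoef, h1]
  have b : ∀ i : Fin setupD4.norb, i.1 = 1 ∨ i.1 = 2 ∨ i.1 = 3 →
      ChevSimple.chi B (setupD4.rep i) ≠ 1 := by
    intro i; rw [wB]; fin_cases i <;> simp [repCoef, h1, hy1]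
  have c2 : ChevSimple.chi C (setupD4.rep ⟨2, by decide⟩) = 1 := by
    rw [wC]; simp [repCoef, hy]
  have c3 : ChevSimple.chi C (setupD4.rep ⟨3, by decide⟩) ≠ 1 := by
    rw [wC]; simp [repCoef, hy, hy1]
  have d1 : ChevSimple.chi D (setupD4.rep ⟨1, by decide⟩) = 1 := by
    rw [wD]; simp [repCoef]
  have d : ∀ i : Fin setupD4.norb, 4 ≤ i.1 → ChevSimple.chi D (setupD4.rep i) ≠ 1 := by
    intro i; rw [wD]; fin_cases i <;> simp [repCoef, hN2']
  have e4 : ChevSimple.chi E (setupD4.rep ⟨4, by decide⟩) = 1 := by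
    rw [wE]
    show x2 ^ (1 : ℤ) * N⁻¹ ^ (1 : ℤ) * Φ.fU x2 ^ (1 : ℤ) * Φ.fU (Φ.fU x2) ^ (1 : ℤ) = 1
    rw [zpow_one, zpow_one, zpow_one, zpow_one, hmc, ← hN, mul_inv_cancel]
  have e5 : ChevSimple.chi E (setupD4.rep ⟨5, by decide⟩) ≠ 1 := by
    rw [wE]
    show x2 ^ (1 : ℤ) * N⁻¹ ^ (2 : ℤ) * Φ.fU x2 ^ (1 : ℤ) * Φ.fU (Φ.fU x2) ^ (1 : ℤ) ≠ 1
    rw [zpow_one, zpow_one, zpow_one, hmc, ← hN, zpow_two, mul_inv_cancel_left]
    exact fun e => hN2 (inv_eq_one.1 e)
  have key : ∀ i j : Fin setupD4.norb, i.1 < j.1 → ∃ c ∈ Φ.fixC,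
      (ChevSimple.chi c (setupD4.rep i) = 1 ∧ ChevSimple.chi c (setupD4.rep j) ≠ 1) ∨
      (ChevSimple.chi c (setupD4.rep i) ≠ 1 ∧ ChevSimple.chi c (setupD4.rep j) = 1) := by
    intro i j hij
    by_cases hi : i.1 = 1 ∨ 4 ≤ i.1
    · by_cases hj : j.1 = 1 ∨ 4 ≤ j.1
      · rcases hi with hi | hi
        · exact ⟨D, hD, Or.inl ⟨(Fin.ext hi : i = ⟨1, by decide⟩) ▸ d1, d j (by omega)⟩⟩
        · have hn : setupD4.norb = 6 := rfl
          refine ⟨E, hE, Or.inl ⟨?_, ?_⟩⟩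
          · rw [show i = ⟨4, by decide⟩ from Fin.ext (by have := j.2; show i.1 = 4; omega)]
            exact e4
          · rw [show j = ⟨5, by decide⟩ from Fin.ext (by have := j.2; show j.1 = 5; omega)]
            exact e5
      · exact ⟨A, hA, Or.inl ⟨not_not.1 (mt (a i).1 (not_not.2 hi)), (a j).2 hj⟩⟩
    · by_cases hj : j.1 = 1 ∨ 4 ≤ j.1
      · exact ⟨A, hA, Or.inr ⟨(a i).2 hi, not_not.1 (mt (a j).1 (not_not.2 hj))⟩⟩
      · by_cases h0 : i.1 = 0
        · exact ⟨B, hB, Or.inl ⟨(Fin.ext h0 : i = ⟨0, by decide⟩) ▸ b0, b j (by omega)⟩⟩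
        · refine ⟨C, hC, Or.inl ⟨?_, ?_⟩⟩
          · rw [show i = ⟨2, by decide⟩ from Fin.ext (by show i.1 = 2; omega)]
            exact c2
          · rw [show j = ⟨3, by decide⟩ from Fin.ext (by show j.1 = 3; omega)]
            exact c3
  refine ⟨fun i j hne => ?_, fun i => ?_⟩
  · rcases Nat.lt_or_ge i.1 j.1 with h | h
    · exact key i j h
    · obtain ⟨c, hc, hcc⟩ := key j i (lt_of_le_of_ne h fun e => hne (Fin.ext e.symm))
      exact ⟨c, hc, hcc.symm.imp And.symm And.symm⟩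
  · by_cases hi : i.1 = 1 ∨ 4 ≤ i.1
    · rcases hi with hi | hi
      · exact ⟨B, hB, b i (Or.inl hi)⟩
      · exact ⟨D, hD, d i hi⟩
    · exact ⟨A, hA, (a i).2 hi⟩

variable {Γ : Type*} [Group Γ] {π : Γ →* GL chevD4.Idx K}

/-- A short root group has all scalars. -/
theorem exists_wt_short (i : Fin setupD4.norb) (hi : ¬(i.1 = 1 ∨ 4 ≤ i.1)) (μ : Kˣ) :
    ∃ c ∈ Φ.fixC, ChevSimple.chi c (setupD4.rep i) = μ := by
  by_cases h3 : i.1 = 3
  · obtain ⟨c, hc, h⟩ := Φ.exists_wt μ⁻¹ (μ * Φ.fU μ * Φ.fU (Φ.fU μ)) (Φ.fU_norm μ)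
    refine ⟨c, hc, ?_⟩
    rw [h, h3]
    simp [repCoef, show ∀ a : Kˣ, Φ.fU a⁻¹ = (Φ.fU a)⁻¹ from fun a => map_inv _ a,
      mul_comm, mul_left_comm, mul_assoc]
  · obtain ⟨c, hc, h⟩ := Φ.exists_wt (Φ.fU μ) 1 (map_one _)
    refine ⟨c, hc, ?_⟩
    rw [h]
    have : i.1 = 0 ∨ i.1 = 2 := by omega
    rcases this with e | e <;> rw [e] <;> simp [repCoef, Φ.fU3]

/-- Lifts of one root group commute. -/
theorem hab_D4 (hc : π.ker ≤ Subgroup.center Γ) (hrange : Φ.tG ≤ π.range)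
    (hf : ∀ x, Φ.f x = x ^ q) (hfix : Nat.card {x : K // Φ.f x = x} = q)
    (hK : Nat.card K = q ^ setupD4.cfg.k) (hq : 3 ≤ q)
    (i : Fin setupD4.norb) (g g' : Γ) (x y : Φ.admField (setupD4.rep i))
    (hg : π g = Φ.oX (setupD4.rep i) (x : K)) (hg' : π g' = Φ.oX (setupD4.rep i) (y : K)) :
    Commute g g' := by
  classical
  letI := Fintype.ofFinite K
  have hlift : ∀ (j : Fin setupD4.norb) (t : K), Φ.Adm (setupD4.rep j) t →
      Φ.oX (setupD4.rep j) t ∈ π.range := fun j t ht =>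
    hrange (Φ.U1_le_tG ⟨Φ.oX_mem_pos (setupD4.rep_pos j) t, Φ.oX_mem_fix ht⟩)
  by_cases hi : i.1 = 1 ∨ 4 ≤ i.1
  · obtain ⟨hj, hk, hji, hki, haj, hbk, hab, hab', hia, hia', hib, hib', hna, hnb, hterm⟩ :=
      long_triples_D4 i hi
    set a : Root chevD4 := (triD4 i).1.1
    set b : Root chevD4 := (triD4 i).1.2
    set j : Fin setupD4.norb := (triD4 i).2.1
    set k : Fin setupD4.norb := (triD4 i).2.2
    have hσrep : ∀ l : Fin setupD4.norb, l.1 = 1 ∨ 4 ≤ l.1 →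
        setupD4.σR (setupD4.rep l) = setupD4.rep l := fun l hl => by
      have := osize_rep_D4 l
      rw [if_pos hl, setupD4.osize_eq] at this
      by_contra h
      rw [if_neg h] at this
      exact absurd this (by decide)
    have hσ : ∀ (l : Fin setupD4.norb) (r : Root chevD4), l.1 = 1 ∨ 4 ≤ l.1 →
        (r = setupD4.rep l ∨ r = (setupD4.rep l).rev) → setupD4.σR r = r := by
      rintro l r hl (rfl | rfl)
      · exact hσrep l hl
      · rw [setupD4.σR_rev, hσrep l hl]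
    have hoX : ∀ r : Root chevD4, setupD4.σR r = r → ∀ t : K,
        Φ.oX r t = X setupD4.good.good r t := fun r hr t => by
      rw [oX, setupD4.osize_eq, if_pos hr]
      simp
    have hσa := hσ j a hj haj
    have hσb := hσ k b hk hbk
    have hσi := hσrep i hi
    have hmem : ∀ r : Root chevD4, setupD4.σR r = r → ∀ t, Φ.Adm r t → Φ.oX r t ∈ π.range :=
      fun r hr t ht => hrange (by rw [hoX r hr]; exact Φ.X_fixed_mem setupD4_faithful hr (ht hr))
    -- commuting with a second root group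
    have hcom : ∀ (l : Fin setupD4.norb) (r : Root chevD4), l ≠ i →
        (r = setupD4.rep l ∨ r = (setupD4.rep l).rev) → ∀ (hr : setupD4.σR r = r),
        r ≠ setupD4.rep i → r ≠ (setupD4.rep i).rev → chevD4.commTerms (setupD4.rep i) r = [] →
        ∀ (gr : Γ) (t : Φ.admField r), π gr = Φ.oX r (t : K) → Commute g' gr := by
      intro l r hli hlr hr hne hne' hnil gr t hgr
      obtain ⟨c, hcf, hs⟩ := (Φ.sep_D4 hf hfix hK hq).1 i l hli.symm
      have hinv : ChevSimple.chi c r = 1 ↔ ChevSimple.chi c (setupD4.rep l) = 1 := by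
        rcases hlr with rfl | rfl
        · exact Iff.rfl
        · rw [chi_rev setupD4.good.good, inv_eq_one]
      refine commute_of_sep hc (Φ.rootMap π (setupD4.rep i) (hlift i)) (Φ.rootMap π r (hmem r hr))
        (fun s u => ?_) (h := torC chevD4 c) ⟨c, hcf, rfl⟩
        (hrange (Φ.H₀_le_tG ⟨c, hcf, rfl⟩)) (Φ.torC_conj_rootMap (hlift i) hcf)
        (Φ.torC_conj_rootMap (hmem r hr) hcf) ?_ hg' hgr
      · show Commute (Φ.oX _ _) (Φ.oX _ _)
        rw [hoX _ hσi, hoX r hr]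
        have := X_comm setupD4.good.toGoodComm (setupD4.rep i) r hne hne' (s : K) (u : K)
        rw [commRhs, hnil] at this
        simpa [wordGL, Commute, SemiconjBy] using this.symm
      · rcases hs with ⟨h1, h2⟩ | ⟨h1, h2⟩
        · exact Or.inl ⟨Subtype.ext (congrArg Units.val h1),
            fun h => h2 (hinv.1 (Units.ext (congrArg Subtype.val h)))⟩
        · exact Or.inr ⟨fun h => h1 (Units.ext (congrArg Subtype.val h)),
            Subtype.ext (congrArg Units.val (hinv.2 h2))⟩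
    obtain ⟨C, hCC, hterms⟩ : ∃ C : ℤ, C * C = 1 ∧
        chevD4.commTerms a b = [((setupD4.rep i : ℕ), C, 1, 1)] := by
      rcases hterm with h | h
      · exact ⟨1, rfl, h⟩
      · exact ⟨-1, rfl, h⟩
    set t : K := -((C : K) * x) with ht
    have hft : Φ.f t = t := by rw [ht, map_neg, map_mul, map_intCast, x.2 hσi]
    have h1 := X_comm setupD4.good.toGoodComm a b hab hab' t (1 : K)
    have h2 : commRhs setupD4.good.good a b t (1 : K) = Φ.oX (setupD4.rep i) (x : K) := by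
      rw [commRhs, hterms, wordGL, hoX _ hσi]
      simp only [List.map_cons, List.map_nil, List.prod_cons, List.prod_nil, mul_one, pow_one,
        dif_pos (setupD4.rep i).2]
      congr 1
      rw [ht, neg_neg, ← mul_assoc, ← Int.cast_mul, hCC, Int.cast_one, one_mul]
    obtain ⟨gb, hgb⟩ := hmem b hσb (-1) fun _ => by rw [map_neg, map_one]
    obtain ⟨ga, hga⟩ := hmem a hσa (-t) fun _ => by rw [map_neg, hft]
    refine commute_self_of_commutator hc (g1 := gb) (g2 := ga) ?_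
      (hcom k b hki hbk hσb hib hib' hnb gb ⟨-1, fun _ => by rw [map_neg, map_one]⟩ hgb)
      (hcom j a hji haj hσa hia hia' hna ga ⟨-t, fun _ => by rw [map_neg, hft]⟩ hga)
    rw [hg, ← h2, hgb, hga, hoX b hσb, hoX a hσa, ← X_inv, ← X_inv, commutatorElement_def]
    calc commRhs setupD4.good.good a b t (1 : K)
        = (X setupD4.good.good a t * X setupD4.good.good b 1)⁻¹ *
            (X setupD4.good.good a t * X setupD4.good.good b 1 *
              commRhs setupD4.good.good a b t (1 : K)) := by group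
      _ = _ := by rw [← h1]; group
  · -- a short root: all scalars occur
    have hσne : setupD4.σR (setupD4.rep i) ≠ setupD4.rep i := fun h => by
      have := osize_rep_D4 i
      rw [if_neg hi, setupD4.osize_eq, if_pos h] at this
      exact absurd this (by decide)
    obtain ⟨c, hc0, hc1, hne⟩ : ∃ c : K, c ≠ 0 ∧ c + 1 ≠ 0 ∧ c ^ 2 + c + 1 ≠ 0 := by
      classical
      by_contra h
      push Not at h
      let P : Polynomial K := Polynomial.X * (Polynomial.X + 1) *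
        (Polynomial.X ^ 2 + Polynomial.X + 1)
      have hP : P.Monic := (Polynomial.monic_X.mul (Polynomial.monic_X_add_C 1)).mul
        (by monicity!)
      have hdeg : P.natDegree ≤ 4 := by
        refine Polynomial.natDegree_mul_le.trans ?_
        have e1 : (Polynomial.X * (Polynomial.X + 1) : Polynomial K).natDegree ≤ 2 := by
          compute_degree
        have e2 : (Polynomial.X ^ 2 + Polynomial.X + 1 : Polynomial K).natDegree ≤ 2 := by
          compute_degree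
        omega
      have hsub : (Finset.univ : Finset K) ⊆ P.roots.toFinset := fun z _ => by
        rw [Multiset.mem_toFinset, Polynomial.mem_roots hP.ne_zero]
        by_cases h0 : z = 0
        · simp [P, h0]
        · by_cases h1 : z + 1 = 0
          · simp [P, h1]
          · simp [P, h z h0 h1]
      have := (Finset.card_le_card hsub).trans
        ((Multiset.toFinset_card_le _).trans ((Polynomial.card_roots' P).trans hdeg))
      rw [Finset.card_univ, ← Nat.card_eq_fintype_card,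
        show Nat.card K = q ^ 3 from hK] at this
      have : 3 ^ 3 ≤ q ^ 3 := Nat.pow_le_pow_left hq 3
      omega
    let c' : Φ.admField (setupD4.rep i) := ⟨c, fun h => absurd h hσne⟩
    refine commute_self_of_full hc (Φ.rootMap π (setupD4.rep i) (hlift i)) (fun μ hμ => ?_)
      (c := c') (fun e => hc0 (congrArg Subtype.val e)) (fun e => hc1 (congrArg Subtype.val e))
      (fun e => ?_) hg hg'
    · obtain ⟨d, hd, hdμ⟩ := Φ.exists_wt_short i hi
        (Units.mk0 (μ : K) fun e => hμ (Subtype.ext e))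
      refine ⟨torC chevD4 d, ⟨d, hd, rfl⟩, hrange (Φ.H₀_le_tG ⟨d, hd, rfl⟩), fun z => ?_⟩
      rw [Φ.torC_conj_rootMap (hlift i) hd]
      congr 2
      exact Subtype.ext (congrArg Units.val hdμ)
    · have e' : c + 1 = c / (c + 1) := congrArg Subtype.val e
      rw [eq_div_iff hc1] at e'
      exact hne (by linear_combination e')

end FieldTwist

/-- An equivariant section over the unipotent group kills a kernel of exponent `p`. -/
theorem ker_eq_bot_of_sect [Finite K] {p : ℕ} (Φ : FieldTwist setupD4 K)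
    {Γ : Type u} [Group Γ] [Finite Γ] (σ : Γ →* ↥Φ.tG) (hσ : Cfsg.IsStemExtension σ)
    (hexp : ∀ z ∈ σ.ker, z ^ p = 1) (hidx : p.Coprime (Φ.U1.subgroupOf Φ.tG).index)
    (S : Sect (Φ.tG.subtype.comp σ) (Φ.H₀ : Set (GL chevD4.Idx K)) Φ.U1) :
    σ.ker = ⊥ := by
  let π : Γ →* GL chevD4.Idx K := Φ.tG.subtype.comp σ
  have hker : π.ker = σ.ker := MonoidHom.ker_comp_of_injective σ Φ.tG.subtype
    (Subgroup.subtype_injective _)
  have hc : π.ker ≤ Subgroup.center Γ := hker ▸ hσ.2.1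
  rw [eq_bot_iff]
  intro z hz
  have h1 : z ∈ ⁅(Φ.U1.subgroupOf Φ.tG).comap σ, (Φ.U1.subgroupOf Φ.tG).comap σ⁆ := by
    refine CfsgLib.Schur.mem_commutator_of_index_coprime _ (hσ.2.1 hz) (hσ.2.2 hz) ?_
    rw [Subgroup.index_comap_of_surjective _ hσ.1]
    exact Nat.Coprime.coprime_dvd_left (orderOf_dvd_of_pow_eq_one (hexp z hz)) hidx
  let T : Subgroup Γ :=
    { carrier := {x | π x ∈ Φ.U1 ∧ x = S.s (π x)}
      one_mem' := ⟨by rw [map_one]; exact one_mem _, by rw [map_one, S.s_one]⟩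
      mul_mem' := fun {a b} ha hb => ⟨by rw [map_mul]; exact mul_mem ha.1 hb.1, by
        rw [map_mul, S.s_mul _ ha.1 _ hb.1, ← ha.2, ← hb.2]⟩
      inv_mem' := fun {a} ha => ⟨by rw [map_inv]; exact inv_mem ha.1, by
        refine (eq_inv_of_mul_eq_one_left ?_).symm
        conv_lhs => arg 2; rw [ha.2]
        rw [← S.s_mul _ (by rw [map_inv]; exact inv_mem ha.1) _ ha.1, map_inv, inv_mul_cancel,
          S.s_one]⟩ }
  have h2 : ⁅(Φ.U1.subgroupOf Φ.tG).comap σ, (Φ.U1.subgroupOf Φ.tG).comap σ⁆ ≤ T := by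
    rw [Subgroup.commutator_le]
    intro a ha b hb
    have hmemT : ∀ u ∈ Φ.U1, S.s u ∈ T := fun u hu => ⟨by rw [S.map_s u hu]; exact hu,
      by rw [S.map_s u hu]⟩
    rw [CfsgLib.SchurBound.commutator_congr π hc (x := a) (x' := S.s (π a)) (y := b)
      (y' := S.s (π b)) (S.map_s (π a) ha).symm (S.map_s (π b) hb).symm]
    rw [commutatorElement_def]
    exact mul_mem (mul_mem (mul_mem (hmemT _ ha) (hmemT _ hb)) (inv_mem (hmemT _ ha)))
      (inv_mem (hmemT _ hb))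
  obtain ⟨-, h3⟩ := h2 h1
  rw [Subgroup.mem_bot, h3, show π z = 1 from MonoidHom.mem_ker.1 (by rw [hker]; exact hz), S.s_one]


/-- A stem extension of `³D₄(q)`, `q ≥ 3`, whose kernel is a `p`-group is trivial. -/
theorem ker_eq_bot_D4_char [Finite K] {p : ℕ} [hp : Fact p.Prime] [CharP K p]
    (Φ : FieldTwist setupD4 K) {q : ℕ} (hf : ∀ x, Φ.f x = x ^ q)
    (hfix : Nat.card {x : K // Φ.f x = x} = q) (hK : Nat.card K = q ^ setupD4.cfg.k) (hq : 3 ≤ q)
    {Γ : Type u} [Group Γ] [Finite Γ] (σ : Γ →* ↥Φ.tG) (hσ : Cfsg.IsStemExtension σ)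
    (hexp : ∀ z ∈ σ.ker, z ^ p = 1) (hidx : p.Coprime (Φ.U1.subgroupOf Φ.tG).index) :
    σ.ker = ⊥ := by
  let π : Γ →* GL chevD4.Idx K := Φ.tG.subtype.comp σ
  have hker : π.ker = σ.ker := MonoidHom.ker_comp_of_injective σ Φ.tG.subtype
    (Subgroup.subtype_injective _)
  have hc : π.ker ≤ Subgroup.center Γ := hker ▸ hσ.2.1
  have hrange : Φ.tG ≤ π.range := fun g hg => by
    obtain ⟨x, hx⟩ := hσ.1 ⟨g, hg⟩
    exact ⟨x, congrArg Subtype.val hx⟩
  obtain ⟨hsep, hfpf⟩ := Φ.sep_D4 hf hfix hK hq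
  obtain ⟨S⟩ := Φ.exists_sect hc hrange (fun i j hij => hsep i j hij.ne) hfpf
    (Φ.hab_D4 hc hrange hf hfix hK hq)
  exact ker_eq_bot_of_sect Φ σ hσ hexp hidx S

end CfsgLib.GraphTwist
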