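import Cfsg.Agent.SchurBN.PLift
import Cfsg.Agent.Chevalley.RankOne
import Cfsg.Agent.Linear.Perfect

/-!
# Homomorphisms from `SL(2, F)` lift through central extensions of order prime to the characteristic
-/

set_option autoImplicit false
set_option linter.style.haveILetI false
set_option linter.unusedSectionVars false

namespace CfsgLib.SchurBN

open scoped MatrixGroups
open CfsgLib.Chevalley
open CfsgLib.Chevalley.RankOneRel (uMat vMat wMat uMat_val vMat_val wMat_val)

variable {F : Type*} [Field F]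

theorem uMat_add (s t : F) : uMat F (s + t) = uMat F s * uMat F t := by
  apply Subtype.ext; apply Matrix.ext; intro i j
  fin_cases i <;> fin_cases j <;> simp [uMat_val, Matrix.mul_apply, Fin.sum_univ_two, add_comm]

theorem vMat_add (s t : F) : vMat F (s + t) = vMat F s * vMat F t := by
  apply Subtype.ext; apply Matrix.ext; intro i j
  fin_cases i <;> fin_cases j <;> simp [vMat_val, Matrix.mul_apply, Fin.sum_univ_two, add_comm]

theorem isPEl_uMat (p : ℕ) [CharP F p] (t : F) : IsPEl p (uMat F t) := by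
  refine ⟨1, ?_⟩
  have h : ∀ n : ℕ, uMat F t ^ n = uMat F (n * t) := by
    intro n
    induction n with
    | zero =>
      apply Subtype.ext
      simp [uMat_val, Matrix.one_fin_two]
    | succ n ih => rw [pow_succ, ih, ← uMat_add]; push_cast; ring_nf
  rw [pow_one, h, CharP.cast_eq_zero, zero_mul]
  exact Subtype.ext (by simp [uMat_val, Matrix.one_fin_two])

theorem wMat_eq : wMat F = uMat F 1 * vMat F (-1) * uMat F 1 := by
  apply Subtype.ext; apply Matrix.ext; intro i j
  fin_cases i <;> fin_cases j <;>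
    simp [uMat_val, vMat_val, wMat_val, Matrix.mul_apply, Fin.sum_univ_two]

theorem vMat_conj (t : F) : wMat F * uMat F t * (wMat F)⁻¹ = vMat F (-t) := by
  rw [mul_inv_eq_iff_eq_mul]
  apply Subtype.ext; apply Matrix.ext; intro i j
  fin_cases i <;> fin_cases j <;>
    simp [uMat_val, vMat_val, wMat_val, Matrix.mul_apply, Fin.sum_univ_two]

theorem isPEl_vMat (p : ℕ) [CharP F p] (t : F) : IsPEl p (vMat F t) := by
  rw [← neg_neg t, ← vMat_conj]
  exact (isPEl_uMat p _).conj _

/-- A subgroup with the elementary elements is everything. -/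
theorem sl2_top_of_mem {S : Subgroup (SL(2, F))} (hu : ∀ t, uMat F t ∈ S)
    (hv : ∀ t, vMat F t ∈ S) : S = ⊤ := by
  rw [eq_top_iff]
  intro g _
  have : Submonoid.closure (Set.range (uMat F) ∪ {wMat F}) ≤ S.toSubmonoid := by
    refine Submonoid.closure_le.2 ?_
    rintro _ (⟨t, rfl⟩ | rfl)
    · exact hu t
    · show wMat F ∈ S
      rw [wMat_eq]; exact mul_mem (mul_mem (hu 1) (hv _)) (hu 1)
  exact this (RankOneRel.closure_eq_top (F := F) ▸ Submonoid.mem_top g)

/-- Two homomorphisms agreeing on the elementary elements are equal. -/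
theorem sl2_hom_ext {H : Type*} [Group H] {f g : SL(2, F) →* H}
    (hu : ∀ t, f (uMat F t) = g (uMat F t)) (hv : ∀ t, f (vMat F t) = g (vMat F t)) : f = g := by
  refine MonoidHom.ext fun x => ?_
  have := sl2_top_of_mem (S := f.eqLocus g) hu hv
  exact (this ▸ Subgroup.mem_top x : x ∈ f.eqLocus g)

variable [Fintype F] {p : ℕ} [Fact p.Prime] [CharP F p]

/-- A stem extension of `SL(2, F)` with kernel of order prime to `p` is trivial. -/
theorem stem_card_eq_one.{u} {F : Type u} [Field F] [Fintype F] [CharP F p] {S : Type u} [Group S]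
    [Finite S] (σ : S →* SL(2, F)) (hσ : Cfsg.IsStemExtension σ)
    (hcop : p.Coprime (Nat.card σ.ker)) : σ.ker = ⊥ := by
  refine Subgroup.eq_bot_of_card_eq _ ?_
  by_contra hne
  obtain ⟨ℓ, hℓ, hdvd⟩ := Nat.exists_prime_and_dvd hne
  haveI := Fact.mk hℓ
  have hℓp : ℓ ≠ p := by
    rintro rfl
    exact hℓ.coprime_iff_not_dvd.1 hcop hdvd
  exact CfsgLib.Schur.not_dvd_card_ker_of_exponent_p (fun Γ _ _ τ hτ hexp =>
    CfsgLib.SL2Mult.ker_eq_bot_of_ne_char p hℓp
      (CfsgLib.Schur.prime_dvd_card_of_dvd_card_ker σ hσ hdvd) τ hτ hexp) σ hσ hdvd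

/-- Homomorphisms from `SL(2, F)` lift. -/
theorem exists_lift_sl2.{u} {F : Type u} [Field F] [Fintype F] [CharP F p] {Γ G : Type u} [Group Γ]
    [Finite Γ] [Group G] {π : Γ →* G} (hπ : PrimeToP π p) (φ : SL(2, F) →* G)
    (hφ : φ.range ≤ π.range) : ∃ ψ : SL(2, F) →* Γ, π.comp ψ = φ := by
  classical
  let E : Subgroup (SL(2, F) × Γ) :=
    (φ.comp (MonoidHom.fst (SL(2, F)) Γ)).eqLocus (π.comp (MonoidHom.snd (SL(2, F)) Γ))
  have hmem : ∀ e : SL(2, F) × Γ, e ∈ E ↔ φ e.1 = π e.2 := fun e => Iff.rfl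
  let pr : ↥E →* SL(2, F) := (MonoidHom.fst _ _).comp E.subtype
  have hsurj : ∀ g, ∃ e : ↥E, pr e = g := fun g => by
    obtain ⟨y, hy⟩ := hφ ⟨g, rfl⟩
    exact ⟨⟨(g, y), (hmem _).2 hy.symm⟩, rfl⟩
  let S : Subgroup ↥E := Subgroup.closure {e | IsPEl p e}
  let σ : ↥S →* SL(2, F) := pr.comp S.subtype
  have hkerπ : ∀ e : ↥E, pr e = 1 → π (e : SL(2, F) × Γ).2 = 1 := fun e he => by
    have := (hmem _).1 e.2
    rw [show (e : SL(2, F) × Γ).1 = 1 from he, map_one] at this
    exact this.symm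
  have hE : PrimeToP pr p := by
    refine ⟨fun e he => Subgroup.mem_center_iff.2 fun b => Subtype.ext (Prod.ext ?_ ?_), ?_⟩
    · show (b : SL(2, F) × Γ).1 * (e : SL(2, F) × Γ).1 = _ * _
      rw [show (e : SL(2, F) × Γ).1 = 1 from he, mul_one, one_mul]
    · exact Subgroup.mem_center_iff.1 (hπ.central (hkerπ e he)) _
    · let f : ↥pr.ker →* ↥π.ker :=
        { toFun := fun e => ⟨((e : ↥E) : SL(2, F) × Γ).2, hkerπ _ e.2⟩
          map_one' := rfl
          map_mul' := fun _ _ => rfl }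
      refine Nat.Coprime.coprime_dvd_right (Subgroup.card_dvd_of_injective f ?_) hπ.coprime
      intro a b hab
      refine Subtype.ext (Subtype.ext (Prod.ext ?_ (congrArg Subtype.val hab)))
      exact (show pr (a : ↥E) = pr (b : ↥E) from a.2.trans b.2.symm)
  have hin : ∀ g, IsPEl p g → g ∈ σ.range := fun g hg => by
    obtain ⟨e, he, hp⟩ := hE.exists_pLift (MonoidHom.mem_range.2 (hsurj g)) hg
    exact ⟨⟨e, Subgroup.subset_closure hp⟩, he⟩
  have hσsurj : Function.Surjective σ := MonoidHom.range_eq_top.1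
    (sl2_top_of_mem (fun t => hin _ (isPEl_uMat p t)) (fun t => hin _ (isPEl_vMat p t)))
  have hcop : p.Coprime (Nat.card σ.ker) := by
    refine Nat.Coprime.coprime_dvd_right ?_ hE.coprime
    let f : ↥σ.ker →* ↥pr.ker :=
      { toFun := fun s => ⟨((s : ↥S) : ↥E), s.2⟩
        map_one' := rfl
        map_mul' := fun _ _ => rfl }
    exact Subgroup.card_dvd_of_injective f fun a b hab =>
      Subtype.ext (Subtype.ext (congrArg Subtype.val hab :))
  have hPS : ∀ s : ↥S, IsPEl p (Abelianization.of s) := by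
    rintro ⟨s, hs⟩
    induction hs using Subgroup.closure_induction with
    | mem x hx =>
      obtain ⟨k, hk⟩ := hx
      refine IsPEl.map ⟨k, Subtype.ext ?_⟩ _
      simpa using hk
    | one => exact ⟨0, by rw [show (⟨1, _⟩ : ↥S) = 1 from rfl, map_one, one_pow]⟩
    | mul x y hx hy ihx ihy =>
      rw [show (⟨x * y, _⟩ : ↥S) = ⟨x, hx⟩ * ⟨y, hy⟩ from rfl, map_mul]
      obtain ⟨a, ha⟩ := ihx
      obtain ⟨b, hb⟩ := ihy
      refine ⟨a + b, ?_⟩
      rw [mul_pow, pow_add, pow_mul, ha, one_pow, one_mul, mul_comm, pow_mul, hb, one_pow]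
    | inv x hx ihx =>
      rw [show (⟨x⁻¹, _⟩ : ↥S) = ⟨x, hx⟩⁻¹ from rfl, map_inv]
      obtain ⟨a, ha⟩ := ihx
      exact ⟨a, by rw [inv_pow, ha, inv_one]⟩
  have hstem : Cfsg.IsStemExtension σ := by
    refine ⟨hσsurj, fun s hs => Subgroup.mem_center_iff.2 fun b => Subtype.ext
      (Subgroup.mem_center_iff.1 (hE.central (show pr (s : ↥E) = 1 from hs)) _), fun s hs => ?_⟩
    have h1 : orderOf (Abelianization.of s) = 1 := by
      obtain ⟨k, hk⟩ := hPS s
      exact Nat.eq_one_of_dvd_coprimes (hcop.pow_left k) (orderOf_dvd_of_pow_eq_one hk)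
        ((orderOf_map_dvd _ s).trans
          ((Subgroup.orderOf_mk (a := s) hs).symm ▸ orderOf_dvd_natCard (⟨s, hs⟩ : σ.ker)))
    exact (QuotientGroup.eq_one_iff _).1 (orderOf_eq_one_iff.1 h1)
  have hbot : σ.ker = ⊥ := stem_card_eq_one σ hstem hcop
  let e : ↥S ≃* SL(2, F) := MulEquiv.ofBijective σ ⟨(MonoidHom.ker_eq_bot_iff σ).1 hbot, hσsurj⟩
  refine ⟨((MonoidHom.snd _ _).comp (E.subtype.comp S.subtype)).comp e.symm.toMonoidHom,
    MonoidHom.ext fun g => ?_⟩
  have h1 : σ (e.symm g) = g := e.apply_symm_apply g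
  have h2 := (hmem _).1 ((e.symm g : ↥S) : ↥E).2
  rw [show (((e.symm g : ↥S) : ↥E) : SL(2, F) × Γ).1 = g from h1] at h2
  exact h2.symm

end CfsgLib.SchurBN
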