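import Cfsg.Agent.GraphTwist.FamilyE6
import Cfsg.Agent.SteinbergPres.CenterData
import Cfsg.Agent.SchurTheory.Basic

/-!
# A central extension of `²E₆(q)` with kernel of order three

The preimage of the twisted group in the presented group of `E₆` has a central commutator of order
three when `3 ∣ q + 1`.
-/

set_option autoImplicit false
set_option linter.style.haveILetI false
set_option linter.unusedSectionVars false

namespace CfsgLib.GraphTwist

open Cfsg.Lie CfsgLib.Chevalley CfsgLib.SteinbergPres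
open scoped MatrixGroups commutatorElement

universe u

variable {K : Type u} [Field K]

/-- The commutator of torus and monomial lifts of two orthogonal nodes. -/
theorem hb_nb_commutator {D : ChevalleyDatum} (hP : GoodPres D) {i j : Fin D.rank}
    (hii : D.cartan i (pRoot hP.toGoodWeyl i : Root D) = 2)
    (hjj : D.cartan j (pRoot hP.toGoodWeyl j : Root D) = 2)
    (hij : D.cartan i (pRoot hP.toGoodWeyl j : Root D) = 0)
    (hji : D.cartan j (pRoot hP.toGoodWeyl i : Root D) = 0) (a b : Kˣ) :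
    ⁅hb hP.toGoodWeyl i a * hb hP.toGoodWeyl j b, nb hP.toGoodWeyl i 1 * nb hP.toGoodWeyl j 1⁆ =
      hb hP.toGoodWeyl i (a ^ 2) * hb hP.toGoodWeyl j (b ^ 2) := by
  have hW := hP.toGoodWeyl
  set x := hb hP.toGoodWeyl i a with hx
  set y := hb hP.toGoodWeyl j b with hy
  set m := nb (K := K) hP.toGoodWeyl i 1 with hm
  set n := nb (K := K) hP.toGoodWeyl j 1 with hn
  have e1 : x * y * m * (x * y)⁻¹ = hb hP.toGoodWeyl i (a ^ 2) * m := by
    rw [show x * y * m * (x * y)⁻¹ = x * (y * m * y⁻¹) * x⁻¹ by group, hy, hm, hb_conj_nb hP, hji,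
      zpow_zero, one_mul, hx, hb_conj_nb hP, hii, mul_one, ← nb_eq_hb_mul]
    norm_cast
  have e2 : x * y * n * (x * y)⁻¹ = hb hP.toGoodWeyl j (b ^ 2) * n := by
    rw [show x * y * n * (x * y)⁻¹ = x * (y * n * y⁻¹) * x⁻¹ by group, hy, hn, hb_conj_nb hP, hjj,
      mul_one, hx, hb_conj_nb hP, hij, zpow_zero, one_mul, ← nb_eq_hb_mul]
    norm_cast
  have e3 : m * hb hP.toGoodWeyl j (b ^ 2) = hb hP.toGoodWeyl j (b ^ 2) * m := by
    have := hb_conj_nb hP j i (b ^ 2) (1 : Kˣ)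
    rw [hji, zpow_zero, one_mul, mul_inv_eq_iff_eq_mul] at this
    exact this.symm
  rw [commutatorElement_def,
    show x * y * (m * n) * (x * y)⁻¹ * (m * n)⁻¹ =
      (x * y * m * (x * y)⁻¹) * (x * y * n * (x * y)⁻¹) * n⁻¹ * m⁻¹ by group,
    e1, e2, ← mul_assoc, mul_inv_cancel_right, mul_assoc (hb hP.toGoodWeyl i (a ^ 2)) m, e3,
    ← mul_assoc, mul_inv_cancel_right]

theorem pairs_E6 :
    chevE6.cartan (nodeE6 0) (pRoot setupE6.good (nodeE6 0) : Root chevE6) = 2 ∧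
    chevE6.cartan (nodeE6 5) (pRoot setupE6.good (nodeE6 5) : Root chevE6) = 2 ∧
    chevE6.cartan (nodeE6 2) (pRoot setupE6.good (nodeE6 2) : Root chevE6) = 2 ∧
    chevE6.cartan (nodeE6 4) (pRoot setupE6.good (nodeE6 4) : Root chevE6) = 2 ∧
    chevE6.cartan (nodeE6 0) (pRoot setupE6.good (nodeE6 5) : Root chevE6) = 0 ∧
    chevE6.cartan (nodeE6 5) (pRoot setupE6.good (nodeE6 0) : Root chevE6) = 0 ∧
    chevE6.cartan (nodeE6 2) (pRoot setupE6.good (nodeE6 4) : Root chevE6) = 0 ∧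
    chevE6.cartan (nodeE6 4) (pRoot setupE6.good (nodeE6 2) : Root chevE6) = 0 ∧
    setupE6.nlist (0 : Fin 4) = [nodeE6 0, nodeE6 5] ∧
    setupE6.nlist (1 : Fin 4) = [nodeE6 2, nodeE6 4] := by
  decide +kernel

variable [Fintype K]

/-- For `3 ∣ q + 1` the multiplier of `²E₆(q)` has order divisible by three. -/
theorem three_dvd_mult_E6 (Φ : FieldTwist setupE6 K) {q : ℕ} (hf : ∀ x, Φ.f x = x ^ q)
    (hK : Fintype.card K = q ^ 2) (h3 : 3 ∣ q + 1) :
    3 ∣ Nat.card (CfsgLib.SchurTheory.mult ↥Φ.tG) := by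
  classical
  haveI : Fact (Nat.Prime 3) := ⟨by norm_num⟩
  have hE6 : chevE6 ∈ [chevG2, chevB2, chevD4, chevF4, chevE6, chevE7, chevE8] := by simp
  have hP : GoodPres chevE6 := goodPres_of_mem hE6
  obtain ⟨C, M, R, hR⟩ := exists_rootGood_of_mem hE6
  obtain ⟨f, hfX⟩ := exists_hom (K := K) hP.toGoodWeyl
  -- an element of order three
  obtain ⟨w, hw⟩ : ∃ w : Kˣ, orderOf w = 3 := by
    refine exists_prime_orderOf_dvd_card' 3 ?_
    rw [Nat.card_units, Nat.card_eq_fintype_card, hK,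
      show q ^ 2 - 1 = (q + 1) * (q - 1) by simpa using Nat.sq_sub_sq q 1]
    exact h3.mul_right _
  have hw3 : w ^ 3 = 1 := hw ▸ pow_orderOf_eq_one w
  have hw1 : w ≠ 1 := fun h => by simp [h] at hw
  obtain ⟨m, hm⟩ := h3
  have hwq1 : w ^ (q + 1) = 1 := by rw [hm, pow_mul, hw3, one_pow]
  have hwq : w ^ q = w ^ 2 := by
    refine mul_right_cancel (b := w) ?_
    rw [← pow_succ, hwq1, ← pow_succ, hw3]
  have hwq2 : (w ^ 2) ^ q = w := by
    rw [← pow_mul, mul_comm, pow_mul, hwq, ← pow_mul, pow_succ, hw3, one_mul]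
  have hfU : ∀ b : Kˣ, Φ.fU b = b ^ q := fun b =>
    Units.ext (by rw [Φ.coe_fU, hf, Units.val_pow_eq_pow_val])
  -- the preimage of the twisted group
  let H : Subgroup (chevE6.SteinbergGroup K) := Φ.tG.comap f
  let g : ↥H →* ↥Φ.tG := (f.comp H.subtype).codRestrict Φ.tG fun x => x.2
  have hg : Function.Surjective g := fun y => by
    obtain ⟨x, hx⟩ : (y : GL chevE6.Idx K) ∈ f.range := by
      rw [range_eq_group hP.toGoodWeyl hfX]; exact Φ.tG_le_group y.2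
    exact ⟨⟨x, by show f x ∈ Φ.tG; rw [hx]; exact y.2⟩, Subtype.ext hx⟩
  have hgker : ∀ x : ↥H, g x = 1 ↔ f x = 1 := fun x => Subtype.ext_iff
  have hgc : g.ker ≤ Subgroup.center ↥H := fun x hx => by
    rw [Subgroup.mem_center_iff]
    intro y
    exact Subtype.ext (Subgroup.mem_center_iff.1
      (ker_le_center hP hR hfX ((hgker x).1 hx)) y)
  obtain ⟨c00, c55, c22, c44, c05, c50, c24, c42, n0, n1⟩ := pairs_E6
  obtain ⟨-, p0, p1, p2, p3, p4, p5⟩ := cartanE6_eq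
  -- commutators of lifts
  have hn : ∀ (o : Fin setupE6.cfg.m) (i j : Fin chevE6.rank), setupE6.nlist o = [i, j] →
      nb hP.toGoodWeyl i 1 * nb hP.toGoodWeyl j 1 ∈ H := fun o i j e => by
    show f _ ∈ Φ.tG
    have e' : Φ.nO o = nR setupE6.good i * nR setupE6.good j := by
      rw [Φ.nO_eq, e]; simp
    have : ∀ k : Fin chevE6.rank, f (nb hP.toGoodWeyl k 1) = nR setupE6.good k := fun k => by
      rw [nb, map_mul, map_mul, hfX, hfX, nR, Units.val_one, inv_one, Units.val_one]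
    rw [map_mul, this, this, ← e']
    exact Φ.nO_mem_tG o
  have hh : ∀ (i j : Fin chevE6.rank) (a b : Kˣ),
      (Pi.mulSingle i a * Pi.mulSingle j b : Fin chevE6.rank → Kˣ) ∈ Φ.fixC →
      hb hP.toGoodWeyl i a * hb hP.toGoodWeyl j b ∈ H := fun i j a b hc => by
    show f _ ∈ Φ.tG
    rw [← hbTor_single hP, ← hbTor_single hP, ← map_mul, map_hbTor hP hfX]
    exact Φ.H₀_le_tG ⟨_, hc, rfl⟩
  have hfix0 : (Pi.mulSingle (nodeE6 0) (w ^ 2) * Pi.mulSingle (nodeE6 5) w :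
      Fin chevE6.rank → Kˣ) ∈ Φ.fixC := Φ.mem_fixC.2 fun i => by
    obtain ⟨i, rfl⟩ : ∃ j, nodeE6 j = i := ⟨i, rfl⟩
    have e : ∀ k : Fin 6, (Pi.mulSingle (nodeE6 0) (w ^ 2) * Pi.mulSingle (nodeE6 5) w :
        Fin chevE6.rank → Kˣ) (nodeE6 k) = (![w ^ 2, 1, 1, 1, 1, w] : Fin 6 → Kˣ) k := fun k => by
      show (Pi.mulSingle (0 : Fin 6) (w ^ 2) * Pi.mulSingle (5 : Fin 6) w : Fin 6 → Kˣ) k = _
      fin_cases k <;> simp [Pi.mulSingle_apply]
    rw [hfU, e i]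
    fin_cases i
    · exact ((congrArg _ p0).trans (e 5)).trans hwq2.symm
    · exact ((congrArg _ p1).trans (e 1)).trans (one_pow q).symm
    · exact ((congrArg _ p2).trans (e 4)).trans (one_pow q).symm
    · exact ((congrArg _ p3).trans (e 3)).trans (one_pow q).symm
    · exact ((congrArg _ p4).trans (e 2)).trans (one_pow q).symm
    · exact ((congrArg _ p5).trans (e 0)).trans hwq.symm
  have hfix1 : (Pi.mulSingle (nodeE6 2) w * Pi.mulSingle (nodeE6 4) (w ^ 2) :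
      Fin chevE6.rank → Kˣ) ∈ Φ.fixC := Φ.mem_fixC.2 fun i => by
    obtain ⟨i, rfl⟩ : ∃ j, nodeE6 j = i := ⟨i, rfl⟩
    have e : ∀ k : Fin 6, (Pi.mulSingle (nodeE6 2) w * Pi.mulSingle (nodeE6 4) (w ^ 2) :
        Fin chevE6.rank → Kˣ) (nodeE6 k) = (![1, 1, w, 1, w ^ 2, 1] : Fin 6 → Kˣ) k := fun k => by
      show (Pi.mulSingle (2 : Fin 6) w * Pi.mulSingle (4 : Fin 6) (w ^ 2) : Fin 6 → Kˣ) k = _
      fin_cases k <;> simp [Pi.mulSingle_apply]
    rw [hfU, e i]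
    fin_cases i
    · exact ((congrArg _ p0).trans (e 5)).trans (one_pow q).symm
    · exact ((congrArg _ p1).trans (e 1)).trans (one_pow q).symm
    · exact ((congrArg _ p2).trans (e 4)).trans hwq.symm
    · exact ((congrArg _ p3).trans (e 3)).trans (one_pow q).symm
    · exact ((congrArg _ p4).trans (e 2)).trans hwq2.symm
    · exact ((congrArg _ p5).trans (e 0)).trans (one_pow q).symm
  set z : chevE6.SteinbergGroup K :=
    ⁅hb hP.toGoodWeyl (nodeE6 0) (w ^ 2) * hb hP.toGoodWeyl (nodeE6 5) w,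
      nb hP.toGoodWeyl (nodeE6 0) 1 * nb hP.toGoodWeyl (nodeE6 5) 1⁆ *
    ⁅hb hP.toGoodWeyl (nodeE6 2) w * hb hP.toGoodWeyl (nodeE6 4) (w ^ 2),
      nb hP.toGoodWeyl (nodeE6 2) 1 * nb hP.toGoodWeyl (nodeE6 4) 1⁆ with hz
  let a0 : ↥H := ⟨_, hh _ _ _ _ hfix0⟩
  let b0 : ↥H := ⟨_, hn (0 : Fin 4) _ _ n0⟩
  let a1 : ↥H := ⟨_, hh _ _ _ _ hfix1⟩
  let b1 : ↥H := ⟨_, hn (1 : Fin 4) _ _ n1⟩
  let zH : ↥H := ⁅a0, b0⁆ * ⁅a1, b1⁆
  have hzH : (zH : chevE6.SteinbergGroup K) = z := rfl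
  -- its value
  have hw4 : (w ^ 2) ^ 2 = w := by rw [← pow_mul, pow_succ, hw3, one_mul]
  have hzv : z = hbTor hP (kerVec w) := by
    rw [hz, hb_nb_commutator hP c00 c55 c05 c50, hb_nb_commutator hP c22 c44 c24 c42, hw4]
    simp only [← hbTor_single hP, ← map_mul]
    congr 1
    show ((Pi.mulSingle (0 : Fin 6) w * Pi.mulSingle (5 : Fin 6) (w ^ 2)) *
      (Pi.mulSingle (2 : Fin 6) (w ^ 2) * Pi.mulSingle (4 : Fin 6) w) : Fin 6 → Kˣ) =
        ![w, 1, w ^ 2, 1, w, w ^ 2]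
    funext k
    fin_cases k <;> simp [Pi.mulSingle_apply]
  obtain ⟨-, hchi⟩ := kerVec_spec Φ hf hw3 hwq1
  have hz1 : f z = 1 := by
    rw [hzv, map_hbTor hP hfX]
    refine (ChevTorus.torC_eq_one_iff hP.toGoodWeyl _).2 (MonoidHom.mem_ker.2 (funext fun i => ?_))
    exact hchi i
  have hinj : Function.Injective (hbTor (K := K) hP) :=
    hbTor_injective_of_sub (D' := chevE7) hP (goodWeyl_of_mem (by simp)) chkSub_E6 (by decide)
      subInv_E7
  have hzne : z ≠ 1 := fun e => hw1 (by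
    have := congrFun (hinj ((hzv.symm.trans e).trans (map_one _).symm)) (nodeE6 0)
    exact this)
  have hz3 : z ^ 3 = 1 := by
    rw [hzv, ← map_pow, show kerVec w ^ 3 = 1 from ?_, map_one]
    funext k
    obtain ⟨k, rfl⟩ : ∃ j, nodeE6 j = k := ⟨k, rfl⟩
    show ((![w, 1, w ^ 2, 1, w, w ^ 2] : Fin 6 → Kˣ) k) ^ 3 = 1
    fin_cases k <;> simp [hw3, ← pow_mul, pow_mul' w 2 3]
  have hmem : zH ∈ g.ker ⊓ commutator ↥H := ⟨MonoidHom.mem_ker.2 ((hgker zH).2 (hzH ▸ hz1)),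
    mul_mem (Subgroup.commutator_mem_commutator (Subgroup.mem_top _) (Subgroup.mem_top _))
      (Subgroup.commutator_mem_commutator (Subgroup.mem_top _) (Subgroup.mem_top _))⟩
  haveI : Finite ↥Φ.tG := inferInstance
  refine dvd_trans ?_ (CfsgLib.SchurTheory.card_ker_inf_dvd g hg hgc)
  have hord : orderOf zH = 3 :=
    orderOf_eq_prime (Subtype.ext (by rw [Subgroup.coe_pow, hzH, hz3]; rfl))
      fun e => hzne (hzH ▸ congrArg Subtype.val e)
  rw [← hord]
  exact Subgroup.orderOf_dvd_natCard _ hmem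

end CfsgLib.GraphTwist
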