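import Cfsg.Agent.SchurBN.TwistSect
import Cfsg.Agent.GraphTwist.OrderE6
import Cfsg.Agent.GraphTwist.Perfect
import Cfsg.Agent.Schur.Basic

/-!
# Stem extensions of `²E₆(q)`, `q ≥ 3`: the part at the characteristic
-/

set_option autoImplicit false
set_option linter.style.haveILetI false
set_option linter.unusedSectionVars false
set_option maxRecDepth 16000

namespace CfsgLib.GraphTwist

open Cfsg.Lie CfsgLib.Chevalley CfsgLib.SchurBN
open scoped MatrixGroups commutatorElement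

universe u

/-- The symmetry on the nodes, as a table. -/
def nodeSwapE6 (k : Fin 6) : Fin 6 := (![5, 1, 4, 3, 2, 0] : Fin 6 → Fin 6) k

/-- A weight of the exponent vector. -/
def wtE6 (P : Fin 6 → ℤ) (r : Root chevE6) : ℤ := ∑ k : Fin 6, P k * chevE6.cartan k r

/-- The exponent vectors of the separating torus elements. -/
def sepVecE6 : Fin 6 → Fin 6 → ℤ :=
  ![![-1, 0, 0, 0, -1, 0], ![-1, 0, -1, 0, 1, 0], ![-1, 0, -1, -1, 0, 1],
    ![-1, -1, 0, -1, -1, 0], ![-1, -1, -2, -2, -2, -1], ![0, 0, 0, -1, 0, 0]]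

/-- The pair of weights of the twisted exponent vector. -/
def wt2E6 (P : Fin 6 → ℤ) (r : Root chevE6) : ℤ × ℤ :=
  (wtE6 P r, wtE6 (fun k => P (nodeSwapE6 k)) r)

/-- A pair of weights which is nontrivial for every `q ≥ 3`. -/
def nzE6 (w : ℤ × ℤ) : Bool :=
  decide (w ≠ (0, 0)) && decide (w.1.natAbs + 3 * w.2.natAbs < 8) &&
    (decide (w.2 = 0) || decide (w.1.natAbs < 3))

theorem sepVecE6_spec : ∀ i j : Fin setupE6.norb, i < j → ∃ v : Fin 6,
    (wt2E6 (sepVecE6 v) (setupE6.rep i) = (0, 0) ∧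
      nzE6 (wt2E6 (sepVecE6 v) (setupE6.rep j)) = true) ∨
    (nzE6 (wt2E6 (sepVecE6 v) (setupE6.rep i)) = true ∧
      wt2E6 (sepVecE6 v) (setupE6.rep j) = (0, 0)) := by
  decide +kernel

theorem fpfVecE6_spec : ∀ i : Fin setupE6.norb, ∃ v : Fin 6,
    nzE6 (wt2E6 (sepVecE6 v) (setupE6.rep i)) = true := by
  decide +kernel

/-- The long representatives. -/
def isLongE6 (i : ℕ) : Bool := [2, 3, 6, 8, 12, 14, 15, 17, 19, 21, 22, 23].contains i

theorem osize_rep_E6 : ∀ i : Fin setupE6.norb,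
    setupE6.osize (setupE6.rep i) = if isLongE6 i then 1 else 2 := by decide +kernel

/-- The exponent vectors giving all scalars on the short representatives. -/
def fullVecE6 : ℕ → Fin 6 → ℤ
  | 0 => ![0, 0, 0, 0, -1, 0]
  | 1 => ![0, 0, 0, 0, 0, -1]
  | 4 => ![0, 0, 0, 0, 0, 1]
  | 5 => ![0, 0, 0, 0, 0, -1]
  | 7 => ![0, 0, -1, 0, 0, 0]
  | 9 => ![0, 0, 0, 0, 0, -1]
  | 10 => ![0, 0, 1, 0, 0, 0]
  | 11 => ![0, 0, -1, 0, 0, 0]
  | 13 => ![0, 0, 1, 0, 0, 0]
  | 16 => ![0, 0, 0, 0, -1, 0]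
  | 18 => ![-1, 0, 0, 0, 0, 0]
  | 20 => ![1, 0, 0, 0, 0, 0]
  | _ => 0

theorem fullVecE6_spec : ∀ i : Fin setupE6.norb, isLongE6 i = false →
    wt2E6 (fullVecE6 i) (setupE6.rep i) = (1, 0) := by
  decide +kernel

/-- The long roots giving a long root by commutation, with their representatives. -/
def triE6 : ℕ → (Root chevE6 × Root chevE6) × (Fin setupE6.norb × Fin setupE6.norb)
  | 3 => ((⟨32, by decide +kernel⟩, ⟨47, by decide +kernel⟩),
      (⟨2, by decide +kernel⟩, ⟨6, by decide +kernel⟩))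
  | 6 => ((⟨39, by decide +kernel⟩, ⟨46, by decide +kernel⟩),
      (⟨2, by decide +kernel⟩, ⟨3, by decide +kernel⟩))
  | 8 => ((⟨25, by decide +kernel⟩, ⟨51, by decide +kernel⟩),
      (⟨3, by decide +kernel⟩, ⟨12, by decide +kernel⟩))
  | 12 => ((⟨32, by decide +kernel⟩, ⟨53, by decide +kernel⟩),
      (⟨2, by decide +kernel⟩, ⟨14, by decide +kernel⟩))
  | 14 => ((⟨39, by decide +kernel⟩, ⟨51, by decide +kernel⟩),
      (⟨2, by decide +kernel⟩, ⟨12, by decide +kernel⟩))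
  | 15 => ((⟨25, by decide +kernel⟩, ⟨63, by decide +kernel⟩),
      (⟨3, by decide +kernel⟩, ⟨17, by decide +kernel⟩))
  | 17 => ((⟨32, by decide +kernel⟩, ⟨65, by decide +kernel⟩),
      (⟨2, by decide +kernel⟩, ⟨19, by decide +kernel⟩))
  | 19 => ((⟨39, by decide +kernel⟩, ⟨63, by decide +kernel⟩),
      (⟨2, by decide +kernel⟩, ⟨17, by decide +kernel⟩))
  | 21 => ((⟨32, by decide +kernel⟩, ⟨70, by decide +kernel⟩),
      (⟨2, by decide +kernel⟩, ⟨22, by decide +kernel⟩))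
  | 22 => ((⟨39, by decide +kernel⟩, ⟨69, by decide +kernel⟩),
      (⟨2, by decide +kernel⟩, ⟨21, by decide +kernel⟩))
  | 23 => ((⟨46, by decide +kernel⟩, ⟨70, by decide +kernel⟩),
      (⟨3, by decide +kernel⟩, ⟨22, by decide +kernel⟩))
  | _ => ((⟨25, by decide +kernel⟩, ⟨47, by decide +kernel⟩),
      (⟨3, by decide +kernel⟩, ⟨6, by decide +kernel⟩))

theorem long_triples_E6 : ∀ i : Fin setupE6.norb, isLongE6 i = true →
    isLongE6 (triE6 i).2.1 = true ∧ isLongE6 (triE6 i).2.2 = true ∧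
      (triE6 i).2.1 ≠ i ∧ (triE6 i).2.2 ≠ i ∧
      ((triE6 i).1.1 = setupE6.rep (triE6 i).2.1 ∨
        (triE6 i).1.1 = (setupE6.rep (triE6 i).2.1).rev) ∧
      ((triE6 i).1.2 = setupE6.rep (triE6 i).2.2 ∨
        (triE6 i).1.2 = (setupE6.rep (triE6 i).2.2).rev) ∧
      (triE6 i).1.2 ≠ (triE6 i).1.1 ∧ (triE6 i).1.2 ≠ (triE6 i).1.1.rev ∧
      (triE6 i).1.1 ≠ setupE6.rep i ∧ (triE6 i).1.1 ≠ (setupE6.rep i).rev ∧
      (triE6 i).1.2 ≠ setupE6.rep i ∧ (triE6 i).1.2 ≠ (setupE6.rep i).rev ∧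
      chevE6.commTerms (setupE6.rep i) (triE6 i).1.1 = [] ∧
      chevE6.commTerms (setupE6.rep i) (triE6 i).1.2 = [] ∧
      (chevE6.commTerms (triE6 i).1.1 (triE6 i).1.2 = [((setupE6.rep i : ℕ), 1, 1, 1)] ∨
        chevE6.commTerms (triE6 i).1.1 (triE6 i).1.2 = [((setupE6.rep i : ℕ), -1, 1, 1)]) := by
  decide +kernel

theorem nodeSwapE6_spec : ∀ i : Fin 6,
    setupE6.πR (nodeE6 i) = nodeE6 (nodeSwapE6 i) ∧ nodeSwapE6 (nodeSwapE6 i) = i := by
  decide +kernel

/-- The weights are additive in exponents. -/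
theorem chi_rev_of_good {D : ChevalleyDatum} (hD : Good D) {K : Type u} [Field K]
    (c : Fin D.rank → Kˣ) (r : Root D) :
    ChevSimple.chi c r.rev = (ChevSimple.chi c r)⁻¹ := by
  simp only [ChevSimple.chi, ← Finset.prod_inv_distrib]
  refine Finset.prod_congr rfl fun k _ => ?_
  rw [Setup.rev_val, hD.cartan_opp k.2 r.2, zpow_neg]

variable {K : Type u} [Field K] [Fintype K]

namespace FieldTwist

variable (Φ : FieldTwist setupE6 K) {q : ℕ} (hf : ∀ x, Φ.f x = x ^ q)
  (hK : Fintype.card K = q ^ 2) (hq : 3 ≤ q)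
include hf hK hq

/-- A torus element with prescribed exponents. -/
theorem exists_expE6 (P : Fin 6 → ℤ) (u : Kˣ) :
    ∃ c ∈ Φ.fixC, ∀ r : Root chevE6, ChevSimple.chi c r =
      u ^ (wt2E6 P r).1 * (u ^ q) ^ (wt2E6 P r).2 := by
  have hfU : ∀ b : Kˣ, Φ.fU b = b ^ q := fun b =>
    Units.ext (by rw [Φ.coe_fU, hf, Units.val_pow_eq_pow_val])
  have hqq : ∀ b : Kˣ, (b ^ q) ^ q = b := fun b => by
    have h := pow_card_eq_one' (x := b) (G := Kˣ)
    rw [Nat.card_units, Nat.card_eq_fintype_card, hK] at h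
    have e : q * q = q ^ 2 - 1 + 1 := by
      rw [Nat.sub_add_cancel (Nat.one_le_pow _ _ (by omega)), pow_two]
    rw [← pow_mul, e, pow_succ, h, one_mul]
  let c : Fin chevE6.rank → Kˣ :=
    fun k : Fin 6 => u ^ P k * (u ^ q) ^ P (nodeSwapE6 k)
  refine ⟨c, Φ.mem_fixC.2 fun i => ?_, fun r => ?_⟩
  · obtain ⟨i, rfl⟩ : ∃ j, nodeE6 j = i := ⟨i, rfl⟩
    rw [(nodeSwapE6_spec i).1]
    show u ^ P (nodeSwapE6 i) * (u ^ q) ^ P (nodeSwapE6 (nodeSwapE6 i)) =
      Φ.fU (u ^ P i * (u ^ q) ^ P (nodeSwapE6 i))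
    rw [(nodeSwapE6_spec i).2, hfU, mul_pow]
    have e : ∀ (b : Kˣ) (n : ℤ), (b ^ n) ^ q = (b ^ q) ^ n := fun b n => by
      rw [← zpow_natCast, ← zpow_mul, mul_comm, zpow_mul, zpow_natCast]
    rw [e, e, hqq, mul_comm]
  · have hsum : ∀ (b : Kˣ) (Q : Fin 6 → ℤ),
        b ^ wtE6 Q r = ∏ k : Fin 6, (b ^ Q k) ^ chevE6.cartan k r := fun b Q => by
      simp only [← zpow_mul, wtE6]
      exact map_sum (zmultiplesHom (Additive Kˣ) (Additive.ofMul b))
        (fun k : Fin 6 => Q k * chevE6.cartan k r) Finset.univ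
    show (∏ k : Fin 6, c k ^ chevE6.cartan k r) = _
    rw [wt2E6, hsum u P, hsum (u ^ q) fun k => P (nodeSwapE6 k), ← Finset.prod_mul_distrib]
    exact Finset.prod_congr rfl fun k _ => mul_zpow _ _ _

/-- A nontrivial pair of exponents moves a generator. -/
theorem nzE6_spec {g : Kˣ} (hg : orderOf g = q ^ 2 - 1) {w : ℤ × ℤ} (hw : nzE6 w = true) :
    g ^ w.1 * (g ^ q) ^ w.2 ≠ 1 := by
  obtain ⟨A, B⟩ := w
  simp only [nzE6, Bool.and_eq_true, Bool.or_eq_true, decide_eq_true_eq, ne_eq,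
    Prod.mk.injEq] at hw
  obtain ⟨⟨h0, h8⟩, h3⟩ := hw
  intro e
  rw [← zpow_natCast, ← zpow_mul, ← zpow_add, ← orderOf_dvd_iff_zpow_eq_one, hg] at e
  have hB : B.natAbs ≤ 2 := by omega
  have hbound : (B.natAbs * q : ℕ) + A.natAbs < q ^ 2 - 1 := by
    have : q * B.natAbs + A.natAbs + 2 ≤ q ^ 2 := by nlinarith
    rw [mul_comm]
    omega
  have hz : A + (q : ℤ) * B = 0 := by
    refine Int.eq_zero_of_dvd_of_natAbs_lt_natAbs e ?_
    rw [Int.natAbs_natCast]
    refine lt_of_le_of_lt (Int.natAbs_add_le _ _) ?_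
    rw [Int.natAbs_mul, Int.natAbs_natCast, mul_comm q]
    omega
  rcases h3 with h | h
  · subst h
    rw [mul_zero, add_zero] at hz
    exact h0 ⟨hz, rfl⟩
  · by_cases hB0 : B = 0
    · subst hB0
      rw [mul_zero, add_zero] at hz
      exact h0 ⟨hz, rfl⟩
    · have hA : A = -((q : ℤ) * B) := by omega
      rw [hA, Int.natAbs_neg, Int.natAbs_mul, Int.natAbs_natCast] at h
      have : 1 ≤ B.natAbs := Int.natAbs_pos.2 hB0
      have : q * 1 ≤ q * B.natAbs := Nat.mul_le_mul_left q this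
      omega

/-- The weights of two representatives are separated. -/
theorem sep_E6 :
    (∀ i j : Fin setupE6.norb, i ≠ j → ∃ c ∈ Φ.fixC,
      (ChevSimple.chi c (setupE6.rep i) = 1 ∧ ChevSimple.chi c (setupE6.rep j) ≠ 1) ∨
      (ChevSimple.chi c (setupE6.rep i) ≠ 1 ∧ ChevSimple.chi c (setupE6.rep j) = 1)) ∧
    ∀ i : Fin setupE6.norb, ∃ c ∈ Φ.fixC, ChevSimple.chi c (setupE6.rep i) ≠ 1 := by
  obtain ⟨g, hg⟩ := IsCyclic.exists_generator (α := Kˣ)
  have hord : orderOf g = q ^ 2 - 1 := by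
    rw [orderOf_eq_card_of_forall_mem_zpowers hg, Nat.card_units, Nat.card_eq_fintype_card, hK]
  have key : ∀ i j : Fin setupE6.norb, i < j → ∃ c ∈ Φ.fixC,
      (ChevSimple.chi c (setupE6.rep i) = 1 ∧ ChevSimple.chi c (setupE6.rep j) ≠ 1) ∨
      (ChevSimple.chi c (setupE6.rep i) ≠ 1 ∧ ChevSimple.chi c (setupE6.rep j) = 1) := by
    intro i j hij
    obtain ⟨v, hv⟩ := sepVecE6_spec i j hij
    obtain ⟨c, hc, hχ⟩ := Φ.exists_expE6 hf hK hq (sepVecE6 v) g
    refine ⟨c, hc, ?_⟩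
    rw [hχ, hχ]
    rcases hv with ⟨h1, h2⟩ | ⟨h1, h2⟩
    · exact Or.inl ⟨by rw [h1, zpow_zero, zpow_zero, one_mul],
        Φ.nzE6_spec hf hK hq hord h2⟩
    · exact Or.inr ⟨Φ.nzE6_spec hf hK hq hord h1,
        by rw [h2, zpow_zero, zpow_zero, one_mul]⟩
  refine ⟨fun i j hne => ?_, fun i => ?_⟩
  · rcases lt_or_gt_of_ne hne with h | h
    · exact key i j h
    · obtain ⟨c, hc, hcc⟩ := key j i h
      exact ⟨c, hc, hcc.symm.imp And.symm And.symm⟩
  · obtain ⟨v, hv⟩ := fpfVecE6_spec i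
    obtain ⟨c, hc, hχ⟩ := Φ.exists_expE6 hf hK hq (sepVecE6 v) g
    exact ⟨c, hc, by rw [hχ]; exact Φ.nzE6_spec hf hK hq hord hv⟩

variable {Γ : Type u} [Group Γ] {π : Γ →* GL chevE6.Idx K}

/-- Lifts of one root group commute. -/
theorem hab_E6 (hc : π.ker ≤ Subgroup.center Γ) (hrange : Φ.tG ≤ π.range)
    (i : Fin setupE6.norb) (g g' : Γ) (x y : Φ.admField (setupE6.rep i))
    (hg : π g = Φ.oX (setupE6.rep i) (x : K)) (hg' : π g' = Φ.oX (setupE6.rep i) (y : K)) :
    Commute g g' := by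
  classical
  have hlift : ∀ (j : Fin setupE6.norb) (t : K), Φ.Adm (setupE6.rep j) t →
      Φ.oX (setupE6.rep j) t ∈ π.range := fun j t ht =>
    hrange (Φ.U1_le_tG ⟨Φ.oX_mem_pos (setupE6.rep_pos j) t, Φ.oX_mem_fix ht⟩)
  have hk2 : setupE6.cfg.k ≠ 1 := by decide +kernel
  by_cases hi : isLongE6 i = true
  · obtain ⟨hj, hk, hji, hki, haj, hbk, hab2, hab2', hia, hia', hib, hib', hna, hnb, hterm⟩ :=
      long_triples_E6 i hi
    set a : Root chevE6 := (triE6 i).1.1
    set b : Root chevE6 := (triE6 i).1.2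
    set j : Fin setupE6.norb := (triE6 i).2.1
    set k : Fin setupE6.norb := (triE6 i).2.2
    have hσrep : ∀ l : Fin setupE6.norb, isLongE6 l = true →
        setupE6.σR (setupE6.rep l) = setupE6.rep l := fun l hl => by
      have := osize_rep_E6 l
      rw [if_pos hl, setupE6.osize_eq] at this
      by_contra h
      rw [if_neg h] at this
      exact hk2 this
    have hσ : ∀ (l : Fin setupE6.norb) (r : Root chevE6), isLongE6 l = true →
        (r = setupE6.rep l ∨ r = (setupE6.rep l).rev) → setupE6.σR r = r := by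
      rintro l r hl (rfl | rfl)
      · exact hσrep l hl
      · rw [setupE6.σR_rev, hσrep l hl]
    have hoX : ∀ r : Root chevE6, setupE6.σR r = r → ∀ t : K,
        Φ.oX r t = X setupE6.good.good r t := fun r hr t => by
      rw [oX, setupE6.osize_eq, if_pos hr]
      simp
    have hσa := hσ j a hj haj
    have hσb := hσ k b hk hbk
    have hσi := hσrep i hi
    have hmem : ∀ r : Root chevE6, setupE6.σR r = r → ∀ t, Φ.Adm r t → Φ.oX r t ∈ π.range :=
      fun r hr t ht => hrange (by rw [hoX r hr]; exact Φ.X_fixed_mem setupE6_faithful hr (ht hr))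
    -- commuting with a second root group
    have hcom : ∀ (l : Fin setupE6.norb) (r : Root chevE6), l ≠ i →
        (r = setupE6.rep l ∨ r = (setupE6.rep l).rev) → ∀ (hr : setupE6.σR r = r),
        r ≠ setupE6.rep i → r ≠ (setupE6.rep i).rev → chevE6.commTerms (setupE6.rep i) r = [] →
        ∀ (gr : Γ) (t : Φ.admField r), π gr = Φ.oX r (t : K) → Commute g' gr := by
      intro l r hli hlr hr hne hne' hnil gr t hgr
      obtain ⟨c, hcf, hs⟩ := (Φ.sep_E6 hf hK hq).1 i l hli.symm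
      have hinv : ChevSimple.chi c r = 1 ↔ ChevSimple.chi c (setupE6.rep l) = 1 := by
        rcases hlr with rfl | rfl
        · exact Iff.rfl
        · rw [chi_rev_of_good setupE6.good.good, inv_eq_one]
      refine commute_of_sep hc (Φ.rootMap π (setupE6.rep i) (hlift i)) (Φ.rootMap π r (hmem r hr))
        (fun s u => ?_) (h := torC chevE6 c) ⟨c, hcf, rfl⟩
        (hrange (Φ.H₀_le_tG ⟨c, hcf, rfl⟩)) (Φ.torC_conj_rootMap (hlift i) hcf)
        (Φ.torC_conj_rootMap (hmem r hr) hcf) ?_ hg' hgr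
      · show Commute (Φ.oX _ _) (Φ.oX _ _)
        rw [hoX _ hσi, hoX r hr]
        have := X_comm setupE6.good.toGoodComm (setupE6.rep i) r hne hne' (s : K) (u : K)
        rw [commRhs, hnil] at this
        simpa [wordGL, Commute, SemiconjBy] using this.symm
      · rcases hs with ⟨h1, h2⟩ | ⟨h1, h2⟩
        · exact Or.inl ⟨Subtype.ext (congrArg Units.val h1),
            fun h => h2 (hinv.1 (Units.ext (congrArg Subtype.val h)))⟩
        · exact Or.inr ⟨fun h => h1 (Units.ext (congrArg Subtype.val h)),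
            Subtype.ext (congrArg Units.val (hinv.2 h2))⟩
    obtain ⟨C, hCC, hterms⟩ : ∃ C : ℤ, C * C = 1 ∧
        chevE6.commTerms a b = [((setupE6.rep i : ℕ), C, 1, 1)] := by
      rcases hterm with h | h
      · exact ⟨1, rfl, h⟩
      · exact ⟨-1, rfl, h⟩
    set t : K := -((C : K) * x) with ht
    have hft : Φ.f t = t := by rw [ht, map_neg, map_mul, map_intCast, x.2 hσi]
    have h1 := X_comm setupE6.good.toGoodComm a b hab2 hab2' t (1 : K)
    have h2 : commRhs setupE6.good.good a b t (1 : K) = Φ.oX (setupE6.rep i) (x : K) := by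
      rw [commRhs, hterms, wordGL, hoX _ hσi]
      simp only [List.map_cons, List.map_nil, List.prod_cons, List.prod_nil, mul_one, pow_one,
        dif_pos (setupE6.rep i).2]
      congr 1
      rw [ht, neg_neg, ← mul_assoc, ← Int.cast_mul, hCC, Int.cast_one, one_mul]
    obtain ⟨gb, hgb⟩ := hmem b hσb (-1) fun _ => by rw [map_neg, map_one]
    obtain ⟨ga, hga⟩ := hmem a hσa (-t) fun _ => by rw [map_neg, hft]
    refine commute_self_of_commutator hc (g1 := gb) (g2 := ga) ?_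
      (hcom k b hki hbk hσb hib hib' hnb gb ⟨-1, fun _ => by rw [map_neg, map_one]⟩ hgb)
      (hcom j a hji haj hσa hia hia' hna ga ⟨-t, fun _ => by rw [map_neg, hft]⟩ hga)
    rw [hg, ← h2, hgb, hga, hoX b hσb, hoX a hσa, ← X_inv, ← X_inv, commutatorElement_def]
    calc commRhs setupE6.good.good a b t (1 : K)
        = (X setupE6.good.good a t * X setupE6.good.good b 1)⁻¹ *
            (X setupE6.good.good a t * X setupE6.good.good b 1 *
              commRhs setupE6.good.good a b t (1 : K)) := by group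
      _ = _ := by rw [← h1]; group
  · -- a short root: all scalars occur
    rw [Bool.not_eq_true] at hi
    have hσne : setupE6.σR (setupE6.rep i) ≠ setupE6.rep i := fun h => by
      have := osize_rep_E6 i
      rw [hi, setupE6.osize_eq, if_pos h] at this
      exact absurd this (by decide)
    obtain ⟨c, hc0, hc1, hne⟩ : ∃ c : K, c ≠ 0 ∧ c + 1 ≠ 0 ∧ c ^ 2 + c + 1 ≠ 0 := by
      by_contra h
      push Not at h
      let P : Polynomial K := Polynomial.X * (Polynomial.X + 1) *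
        (Polynomial.X ^ 2 + Polynomial.X + 1)
      have hP : P.Monic := (Polynomial.monic_X.mul (Polynomial.monic_X_add_C 1)).mul
        (by monicity!)
      have hdeg : P.natDegree ≤ 4 := by
        refine Polynomial.natDegree_mul_le.trans ?_
        have e1 : (Polynomial.X * (Polynomial.X + 1) : Polynomial K).natDegree ≤ 2 := by
          compute_degree
        have e2 : (Polynomial.X ^ 2 + Polynomial.X + 1 : Polynomial K).natDegree ≤ 2 := by
          compute_degree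
        omega
      have hsub : (Finset.univ : Finset K) ⊆ P.roots.toFinset := fun z _ => by
        rw [Multiset.mem_toFinset, Polynomial.mem_roots hP.ne_zero]
        by_cases h0 : z = 0
        · simp [P, h0]
        · by_cases h1 : z + 1 = 0
          · simp [P, h1]
          · simp [P, h z h0 h1]
      have := (Finset.card_le_card hsub).trans
        ((Multiset.toFinset_card_le _).trans ((Polynomial.card_roots' P).trans hdeg))
      rw [Finset.card_univ, hK] at this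
      nlinarith
    let c' : Φ.admField (setupE6.rep i) := ⟨c, fun h => absurd h hσne⟩
    refine commute_self_of_full hc (Φ.rootMap π (setupE6.rep i) (hlift i)) (fun μ hμ => ?_)
      (c := c') (fun e => hc0 (congrArg Subtype.val e)) (fun e => hc1 (congrArg Subtype.val e))
      (fun e => ?_) hg hg'
    · obtain ⟨d, hd, hdμ⟩ := Φ.exists_expE6 hf hK hq (fullVecE6 i)
        (Units.mk0 (μ : K) fun e => hμ (Subtype.ext e))
      have hdμ' := hdμ (setupE6.rep i)
      rw [fullVecE6_spec i hi, zpow_one, zpow_zero, mul_one] at hdμ'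
      refine ⟨torC chevE6 d, ⟨d, hd, rfl⟩, hrange (Φ.H₀_le_tG ⟨d, hd, rfl⟩), fun z => ?_⟩
      rw [Φ.torC_conj_rootMap (hlift i) hd]
      congr 2
      exact Subtype.ext (congrArg Units.val hdμ')
    · have e' : c + 1 = c / (c + 1) := congrArg Subtype.val e
      rw [eq_div_iff hc1] at e'
      exact hne (by linear_combination e')

end FieldTwist

/-- A stem extension of `²E₆(q)`, `q ≥ 3`, whose kernel is a `p`-group is trivial. -/
theorem ker_eq_bot_E6_char {p : ℕ} [hp : Fact p.Prime] [CharP K p]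
    (Φ : FieldTwist setupE6 K) {q : ℕ} (hf : ∀ x, Φ.f x = x ^ q)
    (hK : Fintype.card K = q ^ 2) (hq : 3 ≤ q)
    {Γ : Type u} [Group Γ] [Finite Γ] (σ : Γ →* ↥Φ.tG) (hσ : Cfsg.IsStemExtension σ)
    (hexp : ∀ z ∈ σ.ker, z ^ p = 1) (hidx : p.Coprime (Φ.U1.subgroupOf Φ.tG).index) :
    σ.ker = ⊥ := by
  let π : Γ →* GL chevE6.Idx K := Φ.tG.subtype.comp σ
  have hker : π.ker = σ.ker := MonoidHom.ker_comp_of_injective σ Φ.tG.subtype
    (Subgroup.subtype_injective _)
  have hc : π.ker ≤ Subgroup.center Γ := hker ▸ hσ.2.1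
  have hrange : Φ.tG ≤ π.range := fun g hg => by
    obtain ⟨x, hx⟩ := hσ.1 ⟨g, hg⟩
    exact ⟨x, congrArg Subtype.val hx⟩
  obtain ⟨hsep, hfpf⟩ := Φ.sep_E6 hf hK hq
  obtain ⟨S⟩ := Φ.exists_sect hc hrange (fun i j hij => hsep i j hij.ne) hfpf
    (Φ.hab_E6 hf hK hq hc hrange)
  rw [eq_bot_iff]
  intro z hz
  have h1 : z ∈ ⁅(Φ.U1.subgroupOf Φ.tG).comap σ, (Φ.U1.subgroupOf Φ.tG).comap σ⁆ := by
    refine CfsgLib.Schur.mem_commutator_of_index_coprime _ (hσ.2.1 hz) (hσ.2.2 hz) ?_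
    rw [Subgroup.index_comap_of_surjective _ hσ.1]
    exact Nat.Coprime.coprime_dvd_left (orderOf_dvd_of_pow_eq_one (hexp z hz)) hidx
  let T : Subgroup Γ :=
    { carrier := {x | π x ∈ Φ.U1 ∧ x = S.s (π x)}
      one_mem' := ⟨by rw [map_one]; exact one_mem _, by rw [map_one, S.s_one]⟩
      mul_mem' := fun {a b} ha hb => ⟨by rw [map_mul]; exact mul_mem ha.1 hb.1, by
        rw [map_mul, S.s_mul _ ha.1 _ hb.1, ← ha.2, ← hb.2]⟩
      inv_mem' := fun {a} ha => ⟨by rw [map_inv]; exact inv_mem ha.1, by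
        refine (eq_inv_of_mul_eq_one_left ?_).symm
        conv_lhs => arg 2; rw [ha.2]
        rw [← S.s_mul _ (by rw [map_inv]; exact inv_mem ha.1) _ ha.1, map_inv, inv_mul_cancel,
          S.s_one]⟩ }
  have h2 : ⁅(Φ.U1.subgroupOf Φ.tG).comap σ, (Φ.U1.subgroupOf Φ.tG).comap σ⁆ ≤ T := by
    rw [Subgroup.commutator_le]
    intro a ha b hb
    have hmemT : ∀ u ∈ Φ.U1, S.s u ∈ T := fun u hu => ⟨by rw [S.map_s u hu]; exact hu,
      by rw [S.map_s u hu]⟩
    rw [CfsgLib.SchurBound.commutator_congr π hc (x := a) (x' := S.s (π a)) (y := b)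
      (y' := S.s (π b)) (S.map_s (π a) ha).symm (S.map_s (π b) hb).symm]
    rw [commutatorElement_def]
    exact mul_mem (mul_mem (mul_mem (hmemT _ ha) (hmemT _ hb)) (inv_mem (hmemT _ ha)))
      (inv_mem (hmemT _ hb))
  obtain ⟨-, h3⟩ := h2 h1
  rw [Subgroup.mem_bot, h3, show π z = 1 from MonoidHom.mem_ker.1 (by rw [hker]; exact hz), S.s_one]

end CfsgLib.GraphTwist
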