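import Cfsg.Agent.SchurBN.TwistE6
import Cfsg.Agent.SchurBN.TwistE6P
import Cfsg.Agent.SchurBN.E6Cover

/-!
# The Schur multiplier of `²E₆(q)`, `q ≥ 3`
-/

set_option autoImplicit false
set_option linter.style.haveILetI false
set_option linter.unusedSectionVars false

namespace CfsgLib.GraphTwist

open Cfsg.Lie CfsgLib.Chevalley
open scoped MatrixGroups

universe u

variable {K : Type u} [Field K] [Fintype K]

/-- The unipotent group has index prime to the characteristic. -/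
theorem coprime_index_U1_E6 {p : ℕ} [hp : Fact p.Prime] [CharP K p] (Φ : FieldTwist setupE6 K)
    {q : ℕ} (hfix : Nat.card {x : K // Φ.f x = x} = q) (hK : Fintype.card K = q ^ 2)
    (hq : 2 ≤ q)
    (htG : Nat.gcd 3 (q + 1) * Nat.card ↥Φ.tG =
      q ^ 36 * (q ^ 2 - 1) * (q ^ 5 + 1) * (q ^ 6 - 1) * (q ^ 8 - 1) * (q ^ 9 + 1) *
        (q ^ 12 - 1)) :
    p.Coprime (Φ.U1.subgroupOf Φ.tG).index := by
  have hK' : Nat.card K = q ^ setupE6.cfg.k := (Nat.card_eq_fintype_card).trans hK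
  have hU : Nat.card (Φ.U1.subgroupOf Φ.tG) = q ^ 36 := by
    rw [Nat.card_congr (Subgroup.subgroupOfEquivOfLe Φ.U1_le_tG).toEquiv]
    exact Φ.natCard_u1 hfix hK'
  have h := (Φ.U1.subgroupOf Φ.tG).card_mul_index
  rw [hU] at h
  rw [← h, mul_left_comm] at htG
  simp only [mul_assoc] at htG
  have h' := Nat.eq_of_mul_eq_mul_left (pow_pos (by omega) 36) htG
  refine Nat.Coprime.coprime_dvd_right (Dvd.intro_left _ h') ?_
  have hd : p ∣ q := by
    refine hp.out.dvd_of_dvd_pow (n := 2) ?_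
    obtain ⟨n, -, hn⟩ := FiniteField.card K p
    rw [← hK, hn]
    exact dvd_pow_self _ n.ne_zero
  have key : ∀ n, n ≠ 0 → p.Coprime (q ^ n - 1) := fun n hn => by
    rw [hp.out.coprime_iff_not_dvd]
    intro e
    have h1 : p ∣ q ^ n - 1 + 1 := by
      rw [Nat.sub_add_cancel (Nat.one_le_pow _ _ (by omega))]
      exact hd.trans (dvd_pow_self q hn)
    exact hp.out.not_dvd_one ((Nat.dvd_add_right e).1 h1)
  have key' : ∀ n, n ≠ 0 → p.Coprime (q ^ n + 1) := fun n hn => by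
    rw [hp.out.coprime_iff_not_dvd]
    intro e
    exact hp.out.not_dvd_one ((Nat.dvd_add_right (hd.trans (dvd_pow_self q hn))).1 e)
  exact (key 2 (by norm_num)).mul_right ((key' 5 (by norm_num)).mul_right
    ((key 6 (by norm_num)).mul_right ((key 8 (by norm_num)).mul_right
      ((key' 9 (by norm_num)).mul_right (key 12 (by norm_num))))))

theorem hasCyclicSchurMultiplier_twistedE6 {q : ℕ} (hq : IsPrimePow q)
    (hK : Fintype.card K = q ^ 2) (h2 : q ≠ 2) :
    Cfsg.HasCyclicSchurMultiplier ↥(Cfsg.Lie.twistedE6 K q) (Nat.gcd 3 (q + 1)) := by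
  have hq3 : 3 ≤ q := by have := hq.two_le; omega
  obtain ⟨Φ, e, hf, hfix, -, -⟩ := twistedE6_eq_tG hq hK
  have hcard := natCard_twistedE6 hq hK
  rw [e] at hcard ⊢
  haveI : Finite ↥Φ.tG := inferInstance
  obtain ⟨p, hCp⟩ := CharP.exists K
  haveI : Fact p.Prime := ⟨CharP.char_is_prime K p⟩
  have hidx := coprime_index_U1_E6 (p := p) Φ hfix hK (by omega) hcard
  obtain ⟨Γ, _, _, σ, hσ, ⟨emul⟩⟩ := CfsgLib.SchurTheory.exists_cover ↥Φ.tG
  have hnd : ¬ p ∣ Nat.card σ.ker :=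
    CfsgLib.Schur.not_dvd_card_ker_of_exponent_p
      (fun Γ' _ _ σ' hσ' hexp => ker_eq_bot_E6_char Φ hf hK hq3 σ' hσ' hexp hidx) σ hσ
  have hle := card_ker_le_E6 (p := p) Φ hf hfix hK (by omega) σ hσ
    ((Fact.out : p.Prime).coprime_iff_not_dvd.2 hnd)
  rw [Nat.card_congr emul.toEquiv] at hle
  haveI : Finite (CfsgLib.SchurTheory.mult ↥Φ.tG) := inferInstance
  have hpos : 0 < Nat.card (CfsgLib.SchurTheory.mult ↥Φ.tG) := Nat.card_pos
  have hg : 0 < Nat.gcd 3 (q + 1) := Nat.gcd_pos_of_pos_left _ (by norm_num)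
  haveI : NeZero (Nat.gcd 3 (q + 1)) := ⟨hg.ne'⟩
  have hcardM : Nat.card (CfsgLib.SchurTheory.mult ↥Φ.tG) = Nat.gcd 3 (q + 1) := by
    refine le_antisymm hle ?_
    rcases (Nat.dvd_prime (by norm_num : Nat.Prime 3)).1 (Nat.gcd_dvd_left 3 (q + 1)) with h | h
    · omega
    · rw [h]
      exact Nat.le_of_dvd hpos
        (three_dvd_mult_E6 Φ hf hK (h ▸ Nat.gcd_dvd_right 3 (q + 1)))
  refine CfsgLib.SchurTheory.hasCyclicSchurMultiplier_iff.2 ⟨?_, hcardM⟩
  rcases (Nat.dvd_prime (by norm_num : Nat.Prime 3)).1 (Nat.gcd_dvd_left 3 (q + 1)) with h | h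
  · haveI := (Nat.card_eq_one_iff_unique.1 (hcardM.trans h)).1
    infer_instance
  · haveI : Fact (Nat.Prime 3) := ⟨by norm_num⟩
    exact isCyclic_of_prime_card (hcardM.trans h)

end CfsgLib.GraphTwist
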