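import Cfsg.Agent.SchurBN.TwoD4Sect
import Cfsg.Agent.SchurBN.D4Multiplier

/-!
# `³D₄(2)`: the part of the multiplier at the prime two
-/

set_option autoImplicit false
set_option linter.style.haveILetI false
set_option linter.unusedSectionVars false
set_option maxRecDepth 8000
set_option maxHeartbeats 1000000

namespace CfsgLib.GraphTwist

open Cfsg.Lie CfsgLib.Chevalley CfsgLib.SchurBN
open scoped MatrixGroups commutatorElement

universe u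

theorem map_zero_of_add {F M : Type*} [AddMonoid F] [Group M] (a : F → M)
    (ha : ∀ x y, a (x + y) = a x * a y) : a 0 = 1 := by
  have := ha 0 0
  rwa [add_zero, eq_comm, mul_eq_left] at this

namespace FieldTwist

variable {K : Type*} [Field K] [CharP K 2] [Finite K] (Φ : FieldTwist setupD4 K)
  {Γ : Type*} [Group Γ] {π : Γ →* GL chevD4.Idx K}

theorem exists_sect_two (hc : π.ker ≤ Subgroup.center Γ) (hrange : Φ.tG ≤ π.range)
    (hf : ∀ x, Φ.f x = x ^ 2) (hK : Nat.card K = 8) :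
    Nonempty (Sect π (Φ.H₀ : Set (GL chevD4.Idx K)) Φ.U1) := by
  rw [show Φ.U1 = Φ.u1 0 by rw [u1, setupD4.uT_zero]]
  -- lifts
  obtain ⟨a0, a0π, a0add, a0eq⟩ := Φ.exists_shortLift hf hK π hrange hc 0 (by simp)
  obtain ⟨a2, a2π, a2add, a2eq⟩ := Φ.exists_shortLift hf hK π hrange hc 2 (by simp)
  obtain ⟨a3, a3π, a3add, a3eq⟩ := Φ.exists_shortLift hf hK π hrange hc 3 (by simp)
  have hsq : ∀ (a : K → Γ), (∀ x y, a (x + y) = a x * a y) → ∀ x, a x * a x = 1 :=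
    fun a ha x => by rw [← ha, CharTwo.add_self_eq_zero, map_zero_of_add a ha]
  set l4 := ⁅a0 1, a3 1⁆ with hl4
  set l5 := ⁅a2 1, a3 1⁆ with hl5
  obtain ⟨g, hg⟩ := hrange (Φ.oY_mem_tG (0 : Fin 2) (Φ.adm_one _))
  set l1 := ⁅g, a2 1⁆ with hl1
  have π4 : π l4 = Φ.oX (rep6 4) (1 : K) := by
    rw [hl4, map_commutatorElement, a0π, a3π]
    exact Φ.bracket03
  have π5 : π l5 = Φ.oX (rep6 5) (1 : K) := by
    rw [hl5, map_commutatorElement, a2π, a3π]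
    exact Φ.bracket23
  have π1 : π l1 = Φ.oX (rep6 1) (1 : K) := by
    rw [hl1, map_commutatorElement, hg, a2π]
    exact Φ.bracket_neg
  have sq4 : l4 * l4 = 1 := commutator_sq (hsq a3 a3add 1)
    (Φ.lift_commute hf hK π hrange hc (by simp) (by simp) (by decide) π4 (a3π 1)).symm
  have sq5 : l5 * l5 = 1 := commutator_sq (hsq a3 a3add 1)
    (Φ.lift_commute hf hK π hrange hc (by simp) (by simp) (by decide) π5 (a3π 1)).symm
  have sq1 : l1 * l1 = 1 := commutator_sq (hsq a2 a2add 1)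
    (Φ.lift_commute hf hK π hrange hc (by simp) (by simp) (by decide) π1 (a2π 1)).symm
  obtain ⟨a1, a1one, a1π, a1add, a1eq⟩ := Φ.exists_longLift hf hK π hrange hc (n := 1) (by simp)
    π1 sq1
  obtain ⟨a4, a4one, a4π, a4add, a4eq⟩ := Φ.exists_longLift hf hK π hrange hc (n := 4) (by simp)
    π4 sq4
  obtain ⟨a5, a5one, a5π, a5add, a5eq⟩ := Φ.exists_longLift hf hK π hrange hc (n := 5) (by simp)
    π5 sq5
  have h01 : ∀ x : ZMod 2, x = 0 ∨ x = 1 := by decide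
  have hcovL : ∀ {m : Fin 6}, m = 1 ∨ m = 4 ∨ m = 5 → ∀ y, Φ.Adm (rep6 m) y →
      ∃ x : ZMod 2, ZMod.castHom (dvd_refl 2) K x = y := fun hm y hy => by
    rcases Φ.adm_long hf hm hy with rfl | rfl
    · exact ⟨0, map_zero _⟩
    · exact ⟨1, map_one _⟩
  have hadmL : ∀ (m : Fin 6) (x : ZMod 2), Φ.Adm (rep6 m) (ZMod.castHom (dvd_refl 2) K x) :=
    fun m x => by
      rcases h01 x with rfl | rfl
      · rw [map_zero]; exact Φ.adm_zero _
      · rw [map_one]; exact Φ.adm_one _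
  have nS : ∀ {n : Fin 6}, n = 0 ∨ n = 2 ∨ n = 3 → ∀ (x : K) (j : ℕ),
      Norm (Φ.u1 j) (Φ.oX (rep6 n) x) := fun hn x j =>
    Φ.norm_u1 (Φ.oX6_mem_U1 _ (Φ.adm_short hn x)) j
  have nL : ∀ (m : Fin 6) (x : ZMod 2) (j : ℕ),
      Norm (Φ.u1 j) (Φ.oX (rep6 m) (ZMod.castHom (dvd_refl 2) K x)) := fun m x j =>
    Φ.norm_u1 (Φ.oX6_mem_U1 _ (hadmL m x)) j
  -- stage 6
  let S6 : Sect π (Φ.H₀ : Set (GL chevD4.Idx K)) (Φ.u1 6) :=
    ⟨fun _ => 1, fun u hu => by rw [map_one, Φ.u1_six hu],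
      fun _ _ _ _ => (one_mul 1).symm, fun _ _ _ _ => by rw [mul_one, mul_inv_cancel]⟩
  -- stage 5
  obtain ⟨S5, -, s5⟩ := Φ.extend_step hc 5 S6 (Φ.lMap hf π hrange 5 (by simp))
    (ZMod.castHom (dvd_refl 2) K) (fun _ => rfl) (hadmL 5) (hcovL (by simp)) a5π a5add a5eq
    (fun x u hu => by rw [Φ.u1_six hu, S6.dev_one_right])
  have s5X : S5.s (Φ.oX (rep6 5) 1) = l5 := by
    rw [← Φ.lMap_one hf π hrange 5 (by simp), s5, a5one]
  -- stage 4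
  have act4 : ∀ x, ∀ u ∈ Φ.u1 5, S5.dev (a4 x) u = 1 := by
    intro x
    rcases h01 x with rfl | rfl
    · intro u _
      rw [map_zero_of_add a4 a4add, Φ.dev_one_left]
    refine Φ.dev_layer hc S5 5 le_rfl ((a4π 1).symm ▸ nL 4 1 _) (fun u hu => ?_) fun y hy => ?_
    · rw [Φ.u1_six hu, S5.dev_one_right]
    rcases Φ.adm_long hf (by simp) hy with rfl | rfl
    · rw [oX_zero, S5.dev_one_right]
    rw [S5.dev_eq_one_iff, a4one, π4, (Φ.commute_45 1 1).eq, mul_inv_cancel_right, s5X,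
      mul_inv_eq_iff_eq_mul]
    exact (commute_self_of_commutator hc (g := l4) (g' := l5) (g1 := a0 1) (g2 := a3 1)
      (by rw [hl4, map_commutatorElement])
      (Φ.lift_commute hf hK π hrange hc (by simp) (by simp) (by decide) π5 (a0π 1))
      (Φ.lift_commute hf hK π hrange hc (by simp) (by simp) (by decide) π5 (a3π 1))).eq
  obtain ⟨S4, e4, s4⟩ := Φ.extend_step hc 4 S5 (Φ.lMap hf π hrange 4 (by simp))
    (ZMod.castHom (dvd_refl 2) K) (fun _ => rfl) (hadmL 4) (hcovL (by simp)) a4π a4add a4eq act4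
  have s4X : S4.s (Φ.oX (rep6 4) 1) = l4 := by
    rw [← Φ.lMap_one hf π hrange 4 (by simp), s4, a4one]
  have s4X5 : S4.s (Φ.oX (rep6 5) 1) = l5 := by
    rw [e4 _ (Φ.oX6_mem_u1 5 (Φ.adm_one _)), s5X]
  -- stage 3
  have sl : ∀ {P : Subgroup (GL chevD4.Idx K)} (S : Sect π (Φ.H₀ : Set (GL chevD4.Idx K)) P),
      (∀ h ∈ (Φ.H₀ : Set (GL chevD4.Idx K)), Norm P h) → Φ.u1 4 ≤ P →
      ∀ {n : Fin 6} (hn : n = 0 ∨ n = 2 ∨ n = 3), (∀ x, Norm P (Φ.oX (rep6 n) x)) →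
      ∀ {ã : K → Γ}, (∀ x, π (ã x) = (Φ.sMap π hrange n hn).a x) →
      (∀ x y, ã (x + y) = ã x * ã y) →
      (∀ k : Γ, π k ∈ (Φ.H₀ : Set (GL chevD4.Idx K)) → ∀ μ : K,
        (∀ x, π k * (Φ.sMap π hrange n hn).a x * (π k)⁻¹ =
          (Φ.sMap π hrange n hn).a (μ * x)) → ∀ x, k * ã x * k⁻¹ = ã (μ * x)) →
      ∀ x, ∀ u ∈ Φ.u1 4, S.dev (ã x) u = 1 := by
    intro P S hHP hP n hn hnorm ã hã hadd heq
    refine Φ.dev_short_long hc hf hK hrange S hHP hn (m := 4) (by simp) hP hnorm hã hadd heq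
      fun x => Φ.dev_short_long hc hf hK hrange S hHP hn (m := 5) (by simp)
        ((Φ.u1_anti (show (4 : ℕ) ≤ 5 by norm_num)).trans hP) hnorm hã hadd heq
        (fun x u hu => by rw [Φ.u1_six hu, S.dev_one_right]) x
  obtain ⟨S3, e3, s3⟩ := Φ.extend_step hc 3 S4 (Φ.sMap π hrange 3 (by simp)) (RingHom.id K)
    (fun _ => rfl) (Φ.adm_short (by simp)) (fun y _ => ⟨y, rfl⟩) a3π a3add a3eq
    (sl S4 (Φ.norm_H₀ _) le_rfl (by simp) (fun x => nS (by simp) x _) a3π a3add a3eq)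
  have s3X5 : S3.s (Φ.oX (rep6 5) 1) = l5 := by
    rw [e3 _ (Φ.u1_anti (show (4 : ℕ) ≤ 5 by norm_num) (Φ.oX6_mem_u1 5 (Φ.adm_one _))), s4X5]
  have s3X4 : S3.s (Φ.oX (rep6 4) 1) = l4 := by
    rw [e3 _ (Φ.oX6_mem_u1 4 (Φ.adm_one _)), s4X]
  -- stage 2
  have h30 : ∀ {a : K}, a * Φ.f (Φ.f 1) + Φ.f (Φ.f a) * 1 = a + Φ.f (Φ.f a) := fun {a} => by
    rw [map_one, map_one, mul_one, mul_one]
  have act2 : ∀ x, ∀ u ∈ Φ.u1 3, S3.dev (a2 x) u = 1 := by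
    have hn4 := sl S3 (Φ.norm_H₀ _) (Φ.u1_anti (show (3 : ℕ) ≤ 4 by norm_num)) (n := 2)
      (by simp) (fun x => nS (by simp) x _) a2π a2add a2eq
    refine Φ.dev_short_three hc hf hK hrange S3 (Φ.norm_H₀ _) (n := 2) (Or.inr rfl) le_rfl
      (fun x => nS (by simp) x _) a2π a2add a2eq hn4 ?_ fun a => ?_
    · have h5 : Φ.oX (rep6 5) 1 ∈ Φ.u1 3 :=
        Φ.u1_anti (show (3 : ℕ) ≤ 5 by norm_num) (Φ.oX6_mem_u1 5 (Φ.adm_one _))
      have h3 : Φ.oX (rep6 3) 1 ∈ Φ.u1 3 := Φ.oX6_mem_u1 3 (Φ.adm_one _)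
      have e : Φ.oX (rep6 2) 1 * Φ.oX (rep6 3) 1 * (Φ.oX (rep6 2) 1)⁻¹ =
          Φ.oX (rep6 5) 1 * Φ.oX (rep6 3) 1 := by
        rw [← Φ.bracket23, commutatorElement_def, inv_mul_cancel_right]
      rw [S3.dev_eq_one_iff, a2π, sMap_a, e, S3.s_mul _ h5 _ h3, s3X5,
        ← Φ.sMap_a π hrange 3 (by simp), s3, hl5, commutatorElement_def, inv_mul_cancel_right]
    · obtain ⟨g0, hg0⟩ : ∃ g0, π g0 = Φ.oX (rep6 0) 1 := ⟨a0 1, a0π 1⟩
      obtain ⟨w, hw, ew⟩ := Φ.bracket20 1 1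
      obtain ⟨w', hw', ew'⟩ := Φ.bracket20 1 a
      have h11 : (1 : K) * Φ.f (Φ.f 1) + Φ.f (Φ.f 1) * 1 = 0 := by
        rw [h30, map_one, map_one, CharTwo.add_self_eq_zero]
      rw [h11, oX_zero, one_mul] at ew
      have hz : (1 : K) * Φ.f (Φ.f a) + Φ.f (Φ.f 1) * a = a + Φ.f (Φ.f a) := by
        rw [map_one, map_one, one_mul, one_mul, add_comm]
      rw [hz] at ew'
      have hcl : ∀ b : K, π g0 * π (a2 b) * (π g0)⁻¹ =
          π (a2 b) * ⁅Φ.oX (rep6 2) b, Φ.oX (rep6 0) 1⁆ := fun b => by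
        rw [hg0, a2π, sMap_a, commutatorElement_def, Φ.oX_two_inv 2 b]
        simp only [← mul_assoc, Φ.oX_two_sq, one_mul]
      have hm : Φ.oX (rep6 3) (a + Φ.f (Φ.f a)) ∈ Φ.u1 3 :=
        Φ.oX6_mem_u1 3 (Φ.adm_short (by simp) _)
      have h34 := Φ.u1_anti (show (3 : ℕ) ≤ 4 by norm_num)
      have hni : ∀ b : K, Norm (Φ.u1 3) (π (a2 b))⁻¹ := fun b => by
        rw [a2π, sMap_a, Φ.oX_two_inv]; exact nS (by simp) b _
      have hinv : ∀ b : K, (a2 b)⁻¹ = a2 b := fun b =>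
        inv_eq_of_mul_eq_one_right (hsq a2 a2add b)
      have hsw := S3.dev_swap hc (g := g0) (show Commute (a2 1) (a2 a) by
          rw [Commute, SemiconjBy, ← a2add, ← a2add, add_comm])
        ((a2π 1).symm ▸ nS (by simp) 1 _) ((a2π a).symm ▸ nS (by simp) a _)
        (c := w) (c' := Φ.oX (rep6 3) (a + Φ.f (Φ.f a)) * w')
        (h34 hw) (mul_mem hm (h34 hw')) (by rw [hcl, ew]) (by rw [hcl, ew']) (hni 1) (hni a)
      rw [hinv, hinv, hn4 a w hw,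
        S3.dev_mul hc ((a2π 1).symm ▸ nS (by simp) 1 _) hm (h34 hw'),
        hn4 1 w' hw', mul_one] at hsw
      exact hsw.symm
  obtain ⟨S2, e2, s2⟩ := Φ.extend_step hc 2 S3 (Φ.sMap π hrange 2 (by simp)) (RingHom.id K)
    (fun _ => rfl) (Φ.adm_short (by simp)) (fun y _ => ⟨y, rfl⟩) a2π a2add a2eq act2
  -- stage 1
  have act1 : ∀ x, ∀ u ∈ Φ.u1 2, S2.dev (a1 x) u = 1 := by
    intro x
    rcases h01 x with rfl | rfl
    · intro u _
      rw [map_zero_of_add a1 a1add, Φ.dev_one_left]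
    have hn : Norm (Φ.u1 2) (π (a1 1)) := (a1π 1).symm ▸ nL 1 1 _
    have h23 := Φ.u1_anti (show (2 : ℕ) ≤ 3 by norm_num)
    have d3 : ∀ y, S2.dev (a1 1) (Φ.oX (rep6 3) y) = 1 := fun y =>
      Φ.dev_long_short hc hf hK hrange S2 (Φ.norm_H₀ _) (n := 3) (m := 1) (by simp) (by simp)
        (by decide) h23 (fun x => nL 1 x _) a1π a1add a1eq y
    have d2 : ∀ y, S2.dev (a1 1) (Φ.oX (rep6 2) y) = 1 := fun y =>
      Φ.dev_long_short hc hf hK hrange S2 (Φ.norm_H₀ _) (n := 2) (m := 1) (by simp) (by simp)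
        (by decide) le_rfl (fun x => nL 1 x _) a1π a1add a1eq y
    have m2 : Φ.oX (rep6 2) 1 ∈ Φ.u1 2 := Φ.oX6_mem_u1 2 (Φ.adm_one _)
    have m3 : Φ.oX (rep6 3) 1 ∈ Φ.u1 2 := h23 (Φ.oX6_mem_u1 3 (Φ.adm_one _))
    have m4 : Φ.oX (rep6 4) 1 ∈ Φ.u1 2 :=
      Φ.u1_anti (show (2 : ℕ) ≤ 4 by norm_num) (Φ.oX6_mem_u1 4 (Φ.adm_one _))
    have d5 : ∀ u ∈ Φ.u1 5, S2.dev (a1 1) u = 1 := by
      refine Φ.dev_layer hc S2 5 (Φ.u1_anti (show (2 : ℕ) ≤ 5 by norm_num)) hn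
        (fun u hu => by rw [Φ.u1_six hu, S2.dev_one_right]) fun y hy => ?_
      rcases Φ.adm_long hf (by simp) hy with rfl | rfl
      · rw [oX_zero, S2.dev_one_right]
      rw [← Φ.bracket23, commutatorElement_def,
        S2.dev_mul hc hn (norm_of_mem m2 _ m3) (inv_mem m3), S2.dev_conj hc hn m2 m3,
        ← S2.dev_mul hc hn m3 (inv_mem m3), mul_inv_cancel, S2.dev_one_right]
    have d4 : S2.dev (a1 1) (Φ.oX (rep6 4) 1) = 1 := by
      have e : π (a0 1) * Φ.oX (rep6 3) 1 * (π (a0 1))⁻¹ =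
          Φ.oX (rep6 4) 1 * Φ.oX (rep6 3) 1 := by
        rw [a0π, sMap_a, ← Φ.bracket03, commutatorElement_def, inv_mul_cancel_right]
      have ht := S2.dev_transport hc (l := a1 1) (g := a0 1)
        (c := (Φ.oX (rep6 1) 1)⁻¹ *
          (Φ.oX (rep6 0) 1 * Φ.oX (rep6 1) 1 * (Φ.oX (rep6 0) 1)⁻¹))
        m3 (Φ.comm_step 0 1 (Φ.adm_one _) (Φ.adm_one _)) (mul_mem m4 m3) hn
        (by rw [a1π, lMap_one]
            exact Φ.commute_long_short (by simp) (by simp) (by decide) 1 1)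
        (d3 1) (by rw [a0π, a1π, lMap_one, sMap_a, mul_inv_cancel_left]) e
      rwa [S2.dev_mul hc hn m4 m3, d3, mul_one] at ht
    have l4 : ∀ u ∈ Φ.u1 4, S2.dev (a1 1) u = 1 :=
      Φ.dev_layer hc S2 4 (Φ.u1_anti (show (2 : ℕ) ≤ 4 by norm_num)) hn d5 fun y hy => by
        rcases Φ.adm_long hf (by simp) hy with rfl | rfl
        · rw [oX_zero, S2.dev_one_right]
        · exact d4
    exact Φ.dev_layer hc S2 2 le_rfl hn
      (Φ.dev_layer hc S2 3 h23 hn l4 fun y _ => d3 y) fun y _ => d2 y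
  obtain ⟨S1, e1, -⟩ := Φ.extend_step hc 1 S2 (Φ.lMap hf π hrange 1 (by simp))
    (ZMod.castHom (dvd_refl 2) K) (fun _ => rfl) (hadmL 1) (hcovL (by simp)) a1π a1add a1eq act1
  -- stage 0
  have m13 : ∀ y, Φ.oX (rep6 3) y ∈ Φ.u1 3 := fun y => Φ.oX6_mem_u1 3 (Φ.adm_short (by simp) y)
  have s13 : S1.s (Φ.oX (rep6 3) 1) = a3 1 := by
    rw [e1 _ (Φ.u1_anti (show (2 : ℕ) ≤ 3 by norm_num) (m13 1)), e2 _ (m13 1),
      ← Φ.sMap_a π hrange 3 (by simp), s3]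
  have s14 : S1.s (Φ.oX (rep6 4) 1) = l4 := by
    have h4 : Φ.oX (rep6 4) 1 ∈ Φ.u1 4 := Φ.oX6_mem_u1 4 (Φ.adm_one _)
    rw [e1 _ (Φ.u1_anti (show (2 : ℕ) ≤ 4 by norm_num) h4),
      e2 _ (Φ.u1_anti (show (3 : ℕ) ≤ 4 by norm_num) h4), s3X4]
  have hn0 : ∀ x, Norm (Φ.u1 1) (π (a0 x)) := fun x => (a0π x).symm ▸ nS (by simp) x _
  have h14 := Φ.u1_anti (show (1 : ℕ) ≤ 4 by norm_num)
  have h13 := Φ.u1_anti (show (1 : ℕ) ≤ 3 by norm_num)
  have n4 := sl S1 (Φ.norm_H₀ _) h14 (n := 0) (by simp) (fun x => nS (by simp) x _) a0π a0add a0eq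
  have n3 : ∀ x, ∀ u ∈ Φ.u1 3, S1.dev (a0 x) u = 1 := by
    refine Φ.dev_short_three hc hf hK hrange S1 (Φ.norm_H₀ _) (n := 0) (Or.inl rfl) h13
      (fun x => nS (by simp) x _) a0π a0add a0eq n4 ?_ fun a => ?_
    · have e : Φ.oX (rep6 0) 1 * Φ.oX (rep6 3) 1 * (Φ.oX (rep6 0) 1)⁻¹ =
          Φ.oX (rep6 4) 1 * Φ.oX (rep6 3) 1 := by
        rw [← Φ.bracket03, commutatorElement_def, inv_mul_cancel_right]
      rw [S1.dev_eq_one_iff, a0π, sMap_a, e,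
        S1.s_mul _ (h14 (Φ.oX6_mem_u1 4 (Φ.adm_one _))) _ (h13 (m13 1)), s14, s13, hl4,
        commutatorElement_def, inv_mul_cancel_right]
    · have m2 : Φ.oX (rep6 2) 1 ∈ Φ.u1 1 :=
        Φ.u1_anti (show (1 : ℕ) ≤ 2 by norm_num) (Φ.oX6_mem_u1 2 (Φ.adm_one _))
      have hsy := S1.dev_symm hc (show Commute (a0 1) (a0 a) by
        rw [Commute, SemiconjBy, ← a0add, ← a0add, add_comm]) (hn0 1) (hn0 a) m2
      have hcb : ∀ b : K, (Φ.oX (rep6 2) 1)⁻¹ *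
          (π (a0 b) * Φ.oX (rep6 2) 1 * (π (a0 b))⁻¹) =
          ⁅Φ.oX (rep6 2) 1, Φ.oX (rep6 0) b⁆ := fun b => by
        rw [a0π, sMap_a, commutatorElement_def, Φ.oX_two_inv 2 1, Φ.oX_two_inv 0 b]
        simp only [mul_assoc]
      rw [hcb, hcb] at hsy
      obtain ⟨w, hw, ew⟩ := Φ.bracket20 1 1
      obtain ⟨w', hw', ew'⟩ := Φ.bracket20 a 1
      rw [h30] at ew ew'
      rw [map_one, map_one, CharTwo.add_self_eq_zero, oX_zero, one_mul] at ew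
      rw [ew, ew', n4 a w hw, S1.dev_mul hc (hn0 1) (h13 (m13 _)) (h14 hw'), n4 1 w' hw',
        mul_one] at hsy
      exact hsy
  have n2 : ∀ x, ∀ u ∈ Φ.u1 2, S1.dev (a0 x) u = 1 := by
    intro x
    refine Φ.dev_layer hc S1 2 (Φ.u1_anti (show (1 : ℕ) ≤ 2 by norm_num)) (hn0 x) (n3 x)
      fun y _ => ?_
    obtain ⟨hl, hr, hinv⟩ := S1.dev_pairing hc (Φ.sMap π hrange 0 (by simp)) a0π a0add a0eq
      (fun x => nS (by simp) x _) (Φ.norm_H₀ _) (Φ.sMap π hrange 2 (by simp))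
      (fun z => Φ.u1_anti (show (1 : ℕ) ≤ 2 by norm_num)
        (Φ.oX6_mem_u1 2 (Φ.adm_short (by simp) z)))
      (fun a b z => n3 b _
        (Φ.comm_step 0 2 (Φ.adm_short (by simp) a) (Φ.adm_short (by simp) z)))
    obtain ⟨μ, hμ, -, hμ0, hμne⟩ := exists_generic hK
    refine CfsgLib.SchurBound.pairing_eq_one
      (fun a z => S1.dev (a0 a) ((Φ.sMap π hrange 2 (by simp)).a z))
      hl hr id (fun ν a b hν => ?_) μ.ne_zero hμ0 hμne x y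
    obtain ⟨c, hcf, c0, c2, -⟩ := Φ.exists_mu hf hK (Units.mk0 ν hν)
    have := hinv (torC chevD4 c) ⟨c, hcf, rfl⟩ (hrange (Φ.H₀_le_tG ⟨c, hcf, rfl⟩)) _ _
      (Φ.sMap_conj π hrange (by simp) hcf) (Φ.sMap_conj π hrange (by simp) hcf) a b
    rw [c0, c2] at this
    exact this
  obtain ⟨S0, -, -⟩ := Φ.extend_step hc 0 S1 (Φ.sMap π hrange 0 (by simp)) (RingHom.id K)
    (fun _ => rfl) (Φ.adm_short (by simp)) (fun y _ => ⟨y, rfl⟩) a0π a0add a0eq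
    (Φ.dev_short_long hc hf hK hrange S1 (Φ.norm_H₀ _) (m := 1) (by simp) (by simp) le_rfl
      (fun x => nS (by simp) x _) a0π a0add a0eq n2)
  exact ⟨S0⟩

end FieldTwist

/-- A stem extension of `³D₄(2)` with a kernel of exponent two is trivial. -/
theorem ker_eq_bot_D4_two {K : Type u} [Field K] [Finite K] [CharP K 2]
    (Φ : FieldTwist setupD4 K) (hf : ∀ x, Φ.f x = x ^ 2) (hK : Nat.card K = 8)
    {Γ : Type u} [Group Γ] [Finite Γ] (σ : Γ →* ↥Φ.tG) (hσ : Cfsg.IsStemExtension σ)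
    (hexp : ∀ z ∈ σ.ker, z ^ 2 = 1) (hidx : Nat.Coprime 2 (Φ.U1.subgroupOf Φ.tG).index) :
    σ.ker = ⊥ := by
  let π : Γ →* GL chevD4.Idx K := Φ.tG.subtype.comp σ
  have hker : π.ker = σ.ker := MonoidHom.ker_comp_of_injective σ Φ.tG.subtype
    (Subgroup.subtype_injective _)
  have hrange : Φ.tG ≤ π.range := fun g hg => by
    obtain ⟨x, hx⟩ := hσ.1 ⟨g, hg⟩
    exact ⟨x, congrArg Subtype.val hx⟩
  obtain ⟨S⟩ := Φ.exists_sect_two (hker ▸ hσ.2.1) hrange hf hK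
  exact ker_eq_bot_of_sect Φ σ hσ hexp hidx S

end CfsgLib.GraphTwist
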