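import Cfsg.Agent.SchurBN.PPart

/-!
# The deviation of a lift from a section

For an element `l` normalising the domain of a section, `dev l` measures how conjugation by `l`
differs from the section; it is additive in the argument and a crossed homomorphism in `l`.
-/

set_option autoImplicit false
set_option linter.style.haveILetI false
set_option linter.unusedSectionVars false

namespace CfsgLib.SchurBN

open scoped commutatorElement
open CfsgLib.SchurBound

variable {Γ G : Type*} [Group Γ] [Group G] {π : Γ →* G} {H : Set G} {P : Subgroup G}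

/-- `g` normalises `P`. -/
def Norm (P : Subgroup G) (g : G) : Prop := ∀ u ∈ P, g * u * g⁻¹ ∈ P

theorem Norm.mul {g g' : G} (h : Norm P g) (h' : Norm P g') : Norm P (g * g') := fun u hu => by
  rw [show g * g' * u * (g * g')⁻¹ = g * (g' * u * g'⁻¹) * g⁻¹ by group]
  exact h _ (h' u hu)

theorem norm_of_mem {g : G} (hg : g ∈ P) : Norm P g := fun _ hu =>
  mul_mem (mul_mem hg hu) (inv_mem hg)

namespace Sect

variable (S : Sect π H P)

/-- The deviation. -/
def dev (l : Γ) (u : G) : Γ := (S.s (π l * u * (π l)⁻¹))⁻¹ * (l * S.s u * l⁻¹)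

theorem conj_eq (l : Γ) (u : G) : l * S.s u * l⁻¹ = S.s (π l * u * (π l)⁻¹) * S.dev l u := by
  rw [dev, mul_inv_cancel_left]

theorem s_inv {u : G} (hu : u ∈ P) : S.s u⁻¹ = (S.s u)⁻¹ :=
  eq_inv_of_mul_eq_one_left (by rw [← S.s_mul _ (inv_mem hu) _ hu, inv_mul_cancel, S.s_one])

theorem dev_one_right (l : Γ) : S.dev l 1 = 1 := by simp [dev, S.s_one]

theorem dev_eq_one_iff (l : Γ) (u : G) :
    S.dev l u = 1 ↔ l * S.s u * l⁻¹ = S.s (π l * u * (π l)⁻¹) := by
  rw [dev, inv_mul_eq_one, eq_comm]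

theorem dev_section {c u : G} (hc : c ∈ P) (hu : u ∈ P) : S.dev (S.s c) u = 1 := by
  rw [dev_eq_one_iff, S.map_s c hc, ← S.s_inv hc, ← S.s_mul c hc u hu,
    ← S.s_mul _ (mul_mem hc hu) _ (inv_mem hc)]

theorem dev_torus {k : Γ} (hk : π k ∈ H) {u : G} (hu : u ∈ P) : S.dev k u = 1 :=
  (S.dev_eq_one_iff k u).2 (S.equiv k hk u hu)

variable (hc : π.ker ≤ Subgroup.center Γ)

theorem dev_mem_ker {l : Γ} (hn : Norm P (π l)) {u : G} (hu : u ∈ P) : S.dev l u ∈ π.ker := by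
  simp only [dev, MonoidHom.mem_ker, map_mul, map_inv, S.map_s _ hu, S.map_s _ (hn u hu),
    inv_mul_cancel]

include hc

theorem dev_comm {l : Γ} (hn : Norm P (π l)) {u : G} (hu : u ∈ P) (y : Γ) :
    Commute (S.dev l u) y :=
  (Subgroup.mem_center_iff.1 (hc (S.dev_mem_ker hn hu)) y).symm

/-- Additivity. -/
theorem dev_mul {l : Γ} (hn : Norm P (π l)) {u v : G} (hu : u ∈ P) (hv : v ∈ P) :
    S.dev l (u * v) = S.dev l u * S.dev l v := by
  refine mul_left_cancel (a := S.s (π l * (u * v) * (π l)⁻¹)) ?_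
  rw [← S.conj_eq, S.s_mul u hu v hv,
    show l * (S.s u * S.s v) * l⁻¹ = l * S.s u * l⁻¹ * (l * S.s v * l⁻¹) by group,
    S.conj_eq l u, S.conj_eq l v, show π l * (u * v) * (π l)⁻¹ =
      π l * u * (π l)⁻¹ * (π l * v * (π l)⁻¹) by group, S.s_mul _ (hn u hu) _ (hn v hv)]
  calc S.s (π l * u * (π l)⁻¹) * S.dev l u * (S.s (π l * v * (π l)⁻¹) * S.dev l v)
      = S.s (π l * u * (π l)⁻¹) * (S.dev l u * S.s (π l * v * (π l)⁻¹)) * S.dev l v := by group
    _ = _ := by rw [(S.dev_comm hc hn hu _).eq]; group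

/-- The crossed homomorphism rule. -/
theorem dev_comp {l l' : Γ} (hn : Norm P (π l)) (hn' : Norm P (π l')) {u : G} (hu : u ∈ P) :
    S.dev (l * l') u = S.dev l (π l' * u * (π l')⁻¹) * S.dev l' u := by
  have hu' := hn' u hu
  refine mul_left_cancel (a := S.s (π (l * l') * u * (π (l * l'))⁻¹)) ?_
  rw [← S.conj_eq, show l * l' * S.s u * (l * l')⁻¹ = l * (l' * S.s u * l'⁻¹) * l⁻¹ by group,
    S.conj_eq l' u, map_mul,
    show π l * π l' * u * (π l * π l')⁻¹ = π l * (π l' * u * (π l')⁻¹) * (π l)⁻¹ by group]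
  calc l * (S.s (π l' * u * (π l')⁻¹) * S.dev l' u) * l⁻¹
      = l * S.s (π l' * u * (π l')⁻¹) * (S.dev l' u * l⁻¹) := by group
    _ = l * S.s (π l' * u * (π l')⁻¹) * l⁻¹ * S.dev l' u := by
        rw [(S.dev_comm hc hn' hu _).eq]; group
    _ = _ := by rw [S.conj_eq l, mul_assoc]

/-- The deviation only depends on the image. -/
theorem dev_congr {l l' : Γ} (e : π l = π l') (u : G) : S.dev l u = S.dev l' u := by
  have hz : Commute (l'⁻¹ * l) (S.s u) :=
    commute_of_mem_ker π hc (by rw [map_mul, map_inv, e, inv_mul_cancel]) _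
  have e2 : l * S.s u * l⁻¹ = l' * S.s u * l'⁻¹ := by
    calc l * S.s u * l⁻¹ = l' * ((l'⁻¹ * l) * S.s u) * l⁻¹ := by group
      _ = _ := by rw [hz.eq]; group
  rw [dev, dev, e, e2]

/-- Elements with trivial deviation are conjugation invariant in `P`. -/
theorem dev_conj {l : Γ} (hn : Norm P (π l)) {c u : G} (hcm : c ∈ P) (hu : u ∈ P) :
    S.dev l (c * u * c⁻¹) = S.dev l u := by
  rw [S.dev_mul hc hn (mul_mem hcm hu) (inv_mem hcm), S.dev_mul hc hn hcm hu,
    (S.dev_comm hc hn hcm (S.dev l u)).eq, mul_assoc, ← S.dev_mul hc hn hcm (inv_mem hcm),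
    mul_inv_cancel, S.dev_one_right, mul_one]

/-- Two commuting lifts and an element of the domain: a symmetry. -/
theorem dev_symm {l l' : Γ} (hcomm : Commute l l') (hn : Norm P (π l)) (hn' : Norm P (π l'))
    {u : G} (hu : u ∈ P) :
    S.dev l (u⁻¹ * (π l' * u * (π l')⁻¹)) = S.dev l' (u⁻¹ * (π l * u * (π l)⁻¹)) := by
  have h := congrArg (fun g => S.dev g u) hcomm.eq
  rw [S.dev_comp hc hn hn' hu, S.dev_comp hc hn' hn hu] at h
  rw [S.dev_mul hc hn (inv_mem hu) (hn' u hu), S.dev_mul hc hn' (inv_mem hu) (hn u hu)]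
  have hi : ∀ {g : Γ}, Norm P (π g) → S.dev g u⁻¹ = (S.dev g u)⁻¹ := fun {g} hg =>
    eq_inv_of_mul_eq_one_left (by
      rw [← S.dev_mul hc hg (inv_mem hu) hu, inv_mul_cancel, S.dev_one_right])
  rw [hi hn, hi hn']
  have hp := S.dev_comm hc hn hu (S.dev l' (π l * u * (π l)⁻¹))
  have hq := (S.dev_comm hc hn' hu (S.dev l' (π l * u * (π l)⁻¹))).inv_left
  calc (S.dev l u)⁻¹ * S.dev l (π l' * u * (π l')⁻¹)
      = (S.dev l u)⁻¹ * (S.dev l (π l' * u * (π l')⁻¹) * S.dev l' u) * (S.dev l' u)⁻¹ := by group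
    _ = _ := by rw [h, ← hp.eq, inv_mul_cancel_left, hq.eq]

/-- The conjugates of two commuting lifts by an element outside the domain. -/
theorem dev_swap {l l' g : Γ} (hcomm : Commute l l') (hn : Norm P (π l)) (hn' : Norm P (π l'))
    {c c' : G} (hcm : c ∈ P) (hcm' : c' ∈ P) (hl : π g * π l * (π g)⁻¹ = π l * c)
    (hl' : π g * π l' * (π g)⁻¹ = π l' * c') (hninv : Norm P (π l)⁻¹)
    (hninv' : Norm P (π l')⁻¹) :
    S.dev l'⁻¹ c = S.dev l⁻¹ c' := by
  have e : ∀ {a : Γ} {d : G}, d ∈ P → π g * π a * (π g)⁻¹ = π a * d →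
      ∃ z, π z = 1 ∧ g * a * g⁻¹ = a * S.s d * z := fun {a d} hd ha =>
    ⟨(a * S.s d)⁻¹ * (g * a * g⁻¹), by
      simp only [map_mul, map_inv, S.map_s d hd, ha, inv_mul_cancel],
      (mul_inv_cancel_left _ _).symm⟩
  obtain ⟨z, hz, ez⟩ := e hcm hl
  obtain ⟨z', hz', ez'⟩ := e hcm' hl'
  have hb : Commute (a := l * S.s c * z) (b := l' * S.s c' * z') := by
    rw [← ez, ← ez']
    show MulAut.conj g l * MulAut.conj g l' = MulAut.conj g l' * MulAut.conj g l
    rw [← map_mul, hcomm.eq, map_mul]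
  have hz1 : ∀ y, Commute z y := commute_of_mem_ker π hc hz
  have hz1' : ∀ y, Commute z' y := commute_of_mem_ker π hc hz'
  have hb' : Commute (l * S.s c) (l' * S.s c') := by
    have := (hb.mul_left (hz1 _).inv_left)
    rw [mul_inv_cancel_right] at this
    have := this.mul_right (hz1' _).inv_left.symm
    rwa [mul_inv_cancel_right] at this
  have hπl : ∀ a : Γ, (π a⁻¹) = (π a)⁻¹ := map_inv π
  have c1 := hninv' c hcm
  have c2 := hninv c' hcm'
  have lhs : l * S.s c * (l' * S.s c') =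
      l * l' * (S.s ((π l')⁻¹ * c * π l' * c') * S.dev l'⁻¹ c) := by
    have h := S.conj_eq l'⁻¹ c
    rw [hπl, inv_inv, inv_inv] at h
    rw [inv_inv] at c1
    rw [S.s_mul _ c1 _ hcm', show S.s ((π l')⁻¹ * c * π l') * S.s c' * S.dev l'⁻¹ c =
      S.s ((π l')⁻¹ * c * π l') * (S.s c' * S.dev l'⁻¹ c) by group,
      ← (S.dev_comm hc (by rw [hπl]; exact hninv') hcm (S.s c')).eq, ← mul_assoc (S.s _), ← h]
    group
  have rhs : l' * S.s c' * (l * S.s c) =
      l' * l * (S.s ((π l)⁻¹ * c' * π l * c) * S.dev l⁻¹ c') := by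
    have h := S.conj_eq l⁻¹ c'
    rw [hπl, inv_inv, inv_inv] at h
    rw [inv_inv] at c2
    rw [S.s_mul _ c2 _ hcm, show S.s ((π l)⁻¹ * c' * π l) * S.s c * S.dev l⁻¹ c' =
      S.s ((π l)⁻¹ * c' * π l) * (S.s c * S.dev l⁻¹ c') by group,
      ← (S.dev_comm hc (by rw [hπl]; exact hninv) hcm' (S.s c)).eq, ← mul_assoc (S.s _), ← h]
    group
  have h := hb'.eq
  rw [lhs, rhs, hcomm.eq] at h
  have h' := mul_left_cancel h
  have hπ := congrArg π h'
  rw [inv_inv] at c1 c2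
  have k1 : π (S.dev l'⁻¹ c) = 1 := S.dev_mem_ker (by rw [hπl]; exact hninv') hcm
  have k2 : π (S.dev l⁻¹ c') = 1 := S.dev_mem_ker (by rw [hπl]; exact hninv) hcm'
  rw [map_mul, map_mul, S.map_s _ (mul_mem c1 hcm'), S.map_s _ (mul_mem c2 hcm), k1, k2,
    mul_one, mul_one] at hπ
  rw [hπ] at h'
  exact mul_left_cancel h'

/-- Transport of a trivial deviation by conjugation. -/
theorem dev_transport {l g : Γ} {u c u' : G} (hu : u ∈ P) (hcm : c ∈ P) (hu' : u' ∈ P)
    (hn : Norm P (π l)) (hl0 : Commute (π l) u) (hdev : S.dev l u = 1)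
    (hgl : π g * π l * (π g)⁻¹ = π l * c) (hgu : π g * u * (π g)⁻¹ = u') : S.dev l u' = 1 := by
  have h0 : Commute l (S.s u) := by
    rw [dev_eq_one_iff, hl0.eq, mul_inv_cancel_right, mul_inv_eq_iff_eq_mul] at hdev
    exact hdev
  have h1 : Commute (g * l * g⁻¹) (g * S.s u * g⁻¹) := by
    show MulAut.conj g l * MulAut.conj g (S.s u) = MulAut.conj g (S.s u) * MulAut.conj g l
    rw [← map_mul, h0.eq, map_mul]
  have hk : ∀ {a b : Γ}, π a = π b → ∃ z, (∀ y, Commute z y) ∧ a = b * z := fun {a b} e =>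
    ⟨b⁻¹ * a, commute_of_mem_ker π hc (by rw [map_mul, map_inv, e, inv_mul_cancel]),
      (mul_inv_cancel_left _ _).symm⟩
  obtain ⟨z, hz, ez⟩ := hk (a := g * l * g⁻¹) (b := l * S.s c)
    (by simp only [map_mul, map_inv, S.map_s c hcm, hgl])
  obtain ⟨z', hz', ez'⟩ := hk (a := g * S.s u * g⁻¹) (b := S.s u')
    (by simp only [map_mul, map_inv, S.map_s u hu, S.map_s u' hu', hgu])
  rw [ez, ez'] at h1
  have h2 : Commute (l * S.s c) (S.s u') := by
    have := h1.mul_left (hz _).inv_left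
    rw [mul_inv_cancel_right] at this
    have := this.mul_right (hz' _).inv_left.symm
    rwa [mul_inv_cancel_right] at this
  have hconj : S.s (c * u' * c⁻¹) = S.s c * S.s u' * (S.s c)⁻¹ := by
    rw [S.s_mul _ (mul_mem hcm hu') _ (inv_mem hcm), S.s_mul c hcm u' hu', S.s_inv hcm]
  have h3 : l * S.s (c * u' * c⁻¹) * l⁻¹ = S.s u' := by
    rw [hconj, show l * (S.s c * S.s u' * (S.s c)⁻¹) * l⁻¹ =
      l * S.s c * S.s u' * (l * S.s c)⁻¹ by group, h2.eq, mul_inv_cancel_right]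
  have hp : π l * (c * u' * c⁻¹) * (π l)⁻¹ = u' := by
    have := congrArg π h3
    simpa only [map_mul, map_inv, S.map_s _ (norm_of_mem hcm u' hu'), S.map_s _ hu'] using this
  rw [← S.dev_conj hc hn hcm hu', dev_eq_one_iff, h3, hp]

variable {F : Type*} [Field F] (A : RootMap π H F) {ã : F → Γ}

/-- The pairing with a second root group in the domain. -/
theorem dev_pairing (hã : ∀ x, π (ã x) = A.a x) (hadd : ∀ x y, ã (x + y) = ã x * ã y)
    (heq : ∀ k : Γ, π k ∈ H → ∀ μ : F, (∀ x, π k * A.a x * (π k)⁻¹ = A.a (μ * x)) →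
        ∀ x, k * ã x * k⁻¹ = ã (μ * x))
    (hnorm : ∀ x, Norm P (A.a x)) (hHP : ∀ h ∈ H, Norm P h) {F' : Type*} [Field F']
    (B : RootMap π H F') (hB : ∀ y, B.a y ∈ P)
    (hstep : ∀ x x' y, S.dev (ã x') ((B.a y)⁻¹ * (A.a x * B.a y * (A.a x)⁻¹)) = 1) :
    (∀ x x' z, S.dev (ã (x + x')) (B.a z) = S.dev (ã x) (B.a z) * S.dev (ã x') (B.a z)) ∧
      (∀ x y z, S.dev (ã x) (B.a (y + z)) = S.dev (ã x) (B.a y) * S.dev (ã x) (B.a z)) ∧
      ∀ h ∈ H, h ∈ π.range → ∀ (μ : F) (ν : F'), (∀ x, h * A.a x * h⁻¹ = A.a (μ * x)) →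
        (∀ y, h * B.a y * h⁻¹ = B.a (ν * y)) →
          ∀ x z, S.dev (ã (μ * x)) (B.a (ν * z)) = S.dev (ã x) (B.a z) := by
  have hn : ∀ x, Norm P (π (ã x)) := fun x => (hã x).symm ▸ hnorm x
  refine ⟨fun x x' z => ?_, fun x y z => by rw [B.a_add, S.dev_mul hc (hn x) (hB y) (hB z)],
    fun h hh hr μ ν hμ hν x z => ?_⟩
  · rw [hadd, S.dev_comp hc (hn x) (hn x') (hB z), hã]
    congr 1
    conv_lhs => rw [← mul_inv_cancel_left (B.a z) (A.a x' * B.a z * (A.a x')⁻¹)]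
    rw [S.dev_mul hc (hn x) (hB z) (mul_mem (inv_mem (hB z)) (hnorm x' _ (hB z))), hstep,
      mul_one]
  · obtain ⟨k, rfl⟩ := hr
    have hkP : Norm P (π k) := hHP _ hh
    have h1 := congrArg (fun g => S.dev g (B.a z))
      (show ã (μ * x) * k = k * ã x by rw [← heq k hh μ hμ x, inv_mul_cancel_right])
    simp only [S.dev_comp hc (hn (μ * x)) hkP (hB z), S.dev_comp hc hkP (hn x) (hB z), hν,
      S.dev_torus hh (hB z), S.dev_torus hh (hn x _ (hB z)), one_mul, mul_one] at h1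
    exact h1

end Sect

end CfsgLib.SchurBN
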