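import Cfsg.Agent.SL2Mult.Mult
import Mathlib.GroupTheory.PGroup

/-!
# Lifting `p`-elements through a central extension with kernel of order prime to `p`

Every `p`-element has a unique lift that is a `p`-element (`sec`); this lift is multiplicative on
`p`-subgroups and equivariant under conjugation.  A homomorphism from `SL(2, F)`, `F` of
characteristic `p`, lifts.
-/

set_option autoImplicit false
set_option linter.style.haveILetI false
set_option linter.unusedSectionVars false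

namespace CfsgLib.SchurBN

open scoped MatrixGroups

variable {Γ G : Type*} [Group Γ] [Group G]

/-- An element of `p`-power order. -/
def IsPEl (p : ℕ) {H : Type*} [Monoid H] (x : H) : Prop := ∃ k : ℕ, x ^ p ^ k = 1

theorem IsPEl.map {p : ℕ} {H : Type*} [Monoid H] {x : H} (h : IsPEl p x) {L : Type*} [Monoid L]
    (f : H →* L) : IsPEl p (f x) := by
  obtain ⟨k, hk⟩ := h
  exact ⟨k, by rw [← map_pow, hk, map_one]⟩

theorem IsPEl.conj {p : ℕ} {x : Γ} (h : IsPEl p x) (g : Γ) : IsPEl p (g * x * g⁻¹) :=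
  h.map (MulAut.conj g).toMonoidHom

/-- A central extension with finite kernel of order prime to `p`. -/
structure PrimeToP (π : Γ →* G) (p : ℕ) : Prop where
  /-- the kernel is central -/
  central : π.ker ≤ Subgroup.center Γ
  /-- its order is prime to `p` -/
  coprime : p.Coprime (Nat.card π.ker)

variable {π : Γ →* G} {p : ℕ} (hπ : PrimeToP π p)
include hπ

theorem PrimeToP.eq_one_of_pEl [Finite Γ] {z : Γ} (hz : π z = 1) (h : IsPEl p z) : z = 1 := by
  obtain ⟨k, hk⟩ := h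
  have h1 : (⟨z, hz⟩ : π.ker) ^ p ^ k = 1 := Subtype.ext hk
  have h2 : orderOf (⟨z, hz⟩ : π.ker) = 1 :=
    Nat.eq_one_of_dvd_coprimes (hπ.coprime.pow_left k) (orderOf_dvd_of_pow_eq_one h1)
      (orderOf_dvd_natCard _)
  exact congrArg Subtype.val (orderOf_eq_one_iff.1 h2)

theorem PrimeToP.unique [Finite Γ] {y y' : Γ} (h : π y = π y') (hy : IsPEl p y)
    (hy' : IsPEl p y') : y = y' := by
  have hz : π (y⁻¹ * y') = 1 := by rw [map_mul, map_inv, h, inv_mul_cancel]
  have hc : Commute y (y⁻¹ * y') := (Subgroup.mem_center_iff.1 (hπ.central hz) y)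
  obtain ⟨a, ha⟩ := hy
  obtain ⟨b, hb⟩ := hy'
  have h1 : y ^ p ^ (a + b) = 1 := by rw [pow_add, pow_mul, ha, one_pow]
  have h2 : y' ^ p ^ (a + b) = 1 := by rw [pow_add, mul_comm, pow_mul, hb, one_pow]
  refine inv_mul_eq_one.1 (hπ.eq_one_of_pEl hz ⟨a + b, ?_⟩)
  have := hc.mul_pow (p ^ (a + b))
  rw [mul_inv_cancel_left, h1, h2, one_mul] at this
  exact this.symm

theorem PrimeToP.exists_pLift [Finite Γ] {x : G} (hr : x ∈ π.range) (hx : IsPEl p x) :
    ∃ y, π y = x ∧ IsPEl p y := by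
  obtain ⟨y, rfl⟩ := hr
  obtain ⟨k, hk⟩ := hx
  let z : π.ker := ⟨y ^ p ^ k, by rw [MonoidHom.mem_ker, map_pow, hk]⟩
  obtain ⟨w, hw⟩ :=
    (powCoprime ((hπ.coprime.pow_left k).symm)).surjective z
  have hw' : (w : Γ) ^ p ^ k = y ^ p ^ k := congrArg Subtype.val hw
  have hc : Commute y ((w : Γ)⁻¹) :=
    Subgroup.mem_center_iff.1 (inv_mem (hπ.central w.2)) y
  refine ⟨y * (w : Γ)⁻¹, ?_, k, ?_⟩
  · rw [map_mul, map_inv, w.2, inv_one, mul_one]
  · rw [hc.mul_pow, inv_pow, hw', mul_inv_cancel]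

omit hπ in
open Classical in
/-- The `p`-element lift of `x` (junk if there is none). -/
noncomputable def sec (π : Γ →* G) (p : ℕ) (x : G) : Γ :=
  if h : ∃ y, π y = x ∧ IsPEl p y then h.choose else 1

theorem PrimeToP.sec_spec [Finite Γ] {x : G} (hr : x ∈ π.range) (hx : IsPEl p x) :
    π (sec π p x) = x ∧ IsPEl p (sec π p x) := by
  rw [sec, dif_pos (hπ.exists_pLift hr hx)]
  exact (hπ.exists_pLift hr hx).choose_spec

theorem PrimeToP.sec_eq [Finite Γ] {x : G} {y : Γ} (h : π y = x) (hy : IsPEl p y) :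
    sec π p x = y :=
  have hs := hπ.sec_spec ⟨y, h⟩ (h ▸ hy.map π)
  hπ.unique (hs.1.trans h.symm) hs.2 hy

theorem PrimeToP.sec_one [Finite Γ] : sec π p 1 = 1 :=
  hπ.sec_eq (map_one _) ⟨0, one_pow _⟩

/-- Equivariance. -/
theorem PrimeToP.conj_sec [Finite Γ] (a : Γ) {x : G} (hr : x ∈ π.range) (hx : IsPEl p x) :
    a * sec π p x * a⁻¹ = sec π p (π a * x * (π a)⁻¹) := by
  obtain ⟨h1, h2⟩ := hπ.sec_spec hr hx
  exact (hπ.sec_eq (by rw [map_mul, map_mul, map_inv, h1]) (h2.conj a)).symm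

theorem PrimeToP.map_hom [Finite Γ] {H : Type*} [Group H] (f : H →* Γ) {h : H} (hh : IsPEl p h) :
    sec π p (π (f h)) = f h :=
  hπ.sec_eq rfl (hh.map f)

/-- Multiplicativity on a `p`-subgroup. -/
theorem PrimeToP.sec_mul [Finite Γ] [Fact p.Prime] {P : Subgroup G} (hP : IsPGroup p P)
    (hPr : P ≤ π.range) {x y : G} (hx : x ∈ P) (hy : y ∈ P) :
    sec π p (x * y) = sec π p x * sec π p y := by
  have hel : ∀ {u : G}, u ∈ P → IsPEl p u := fun {u} hu => by
    obtain ⟨k, hk⟩ := hP ⟨u, hu⟩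
    exact ⟨k, congrArg Subtype.val hk⟩
  let Q := P.comap π
  obtain ⟨S⟩ : Nonempty (Sylow p ↥Q) := inferInstance
  -- the Sylow subgroup maps onto `P`
  have key : ∀ g ∈ P, ∃ s : Γ, s ∈ (S : Subgroup ↥Q).map Q.subtype ∧ π s = g := by
    intro g hg
    let f : ↥Q →* ↥P := (π.comp Q.subtype).codRestrict P fun q => q.2
    have hf : Function.Surjective f := fun g => by
      obtain ⟨a, ha⟩ := hPr g.2
      exact ⟨⟨a, show π a ∈ P from ha ▸ g.2⟩, Subtype.ext ha⟩
    have htop : (S : Subgroup ↥Q).map f = ⊤ := by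
      haveI : Finite ↥P := Finite.of_surjective f hf
      obtain ⟨n, hn⟩ := (IsPGroup.iff_card (p := p) (G := ↥P)).1 hP
      rw [← Subgroup.index_eq_one]
      refine Nat.eq_one_of_dvd_coprimes (a := p ^ n) (b := (S : Subgroup ↥Q).index) ?_ ?_ ?_
      · exact Nat.Coprime.pow_left _
          ((Fact.out : p.Prime).coprime_iff_not_dvd.2 S.not_dvd_index)
      · exact hn ▸ Subgroup.index_dvd_card _
      · exact Subgroup.index_map_dvd (S : Subgroup ↥Q) hf
    obtain ⟨s, hs, e⟩ : (⟨g, hg⟩ : ↥P) ∈ (S : Subgroup ↥Q).map f := htop ▸ Subgroup.mem_top _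
    exact ⟨_, Subgroup.mem_map_of_mem _ hs, congrArg Subtype.val e⟩
  have hS : IsPGroup p ((S : Subgroup ↥Q).map Q.subtype) := S.isPGroup'.map _
  have hel' : ∀ {u : Γ}, u ∈ (S : Subgroup ↥Q).map Q.subtype → IsPEl p u := fun {u} hu => by
    obtain ⟨k, hk⟩ := hS ⟨u, hu⟩
    exact ⟨k, congrArg Subtype.val hk⟩
  obtain ⟨a, ha, rfl⟩ := key x hx
  obtain ⟨b, hb, rfl⟩ := key y hy
  rw [hπ.sec_eq rfl (hel' ha), hπ.sec_eq rfl (hel' hb), ← map_mul,
    hπ.sec_eq rfl (hel' (mul_mem ha hb))]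

end CfsgLib.SchurBN
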