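import Cfsg.Agent.SchurBound.Basic
import Mathlib.Algebra.Field.Basic

/-!
# Sections of a central extension over unipotent groups, equivariant under a torus

Lifts of one-parameter root groups are built from commutators with a torus element; a section
extends along a split step as soon as certain invariant bi-additive pairings vanish.
-/

set_option autoImplicit false
set_option linter.style.haveILetI false
set_option linter.unusedSectionVars false

namespace CfsgLib.SchurBN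

open scoped commutatorElement
open CfsgLib.SchurBound

variable {Γ G : Type*} [Group Γ] [Group G] (π : Γ →* G) (H : Set G)

/-- A one-parameter group normalised by `H` through scalings. -/
structure RootMap (F : Type*) [Field F] where
  /-- the parametrisation -/
  a : F → G
  a_add : ∀ x y, a (x + y) = a x * a y
  weight : ∀ h ∈ H, ∃ μ : F, ∀ x, h * a x * h⁻¹ = a (μ * x)
  lift : ∀ x, a x ∈ π.range

/-- A section over `P`, equivariant under the preimage of `H`. -/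
structure Sect (P : Subgroup G) where
  /-- the section -/
  s : G → Γ
  map_s : ∀ u ∈ P, π (s u) = u
  s_mul : ∀ u ∈ P, ∀ v ∈ P, s (u * v) = s u * s v
  equiv : ∀ k : Γ, π k ∈ H → ∀ u ∈ P, k * s u * k⁻¹ = s (π k * u * (π k)⁻¹)

variable {π H}

theorem RootMap.a_zero {F : Type*} [Field F] (A : RootMap π H F) : A.a 0 = 1 := by
  have := A.a_add 0 0
  rwa [add_zero, eq_comm, mul_eq_left] at this

theorem RootMap.a_sub {F : Type*} [Field F] (A : RootMap π H F) (x y : F) :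
    A.a (x - y) = A.a x * (A.a y)⁻¹ :=
  eq_mul_inv_of_mul_eq (by rw [← A.a_add, sub_add_cancel])

theorem Sect.s_one {P : Subgroup G} (S : Sect π H P) : S.s 1 = 1 := by
  have := S.s_mul 1 P.one_mem 1 P.one_mem
  rwa [mul_one, eq_comm, mul_eq_left] at this

variable (hc : π.ker ≤ Subgroup.center Γ)
include hc

theorem conj_commutator_eq {k g g' : Γ} {h1 h2 : G} (e1 : π k * π g * (π k)⁻¹ = h1)
    (e2 : π k * π g' * (π k)⁻¹ = h2) {x x' : Γ} (hx : π x = h1) (hx' : π x' = h2) :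
    k * ⁅g, g'⁆ * k⁻¹ = ⁅x, x'⁆ := by
  rw [conj_commutator]
  exact commutator_congr π hc (by simp [e1, hx]) (by simp [e2, hx'])

theorem central_of_commute {g g' : Γ} (h : Commute (π g) (π g')) :
    ⁅g, g'⁆ ∈ Subgroup.center Γ :=
  hc (by rw [MonoidHom.mem_ker, map_commutatorElement, commutatorElement_eq_one_iff_commute]
         exact h)

/-- The commutator pairing of two commuting one-parameter groups. -/
theorem exists_pairing {F F' : Type*} [Field F] [Field F'] (A : RootMap π H F)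
    (B : RootMap π H F') (hcomm : ∀ x y, Commute (A.a x) (B.a y)) :
    ∃ γ : F → F' → Γ, (∀ x y g g', π g = A.a x → π g' = B.a y → ⁅g, g'⁆ = γ x y) ∧
      (∀ x y z, γ (x + y) z = γ x z * γ y z) ∧ (∀ x y z, γ x (y + z) = γ x y * γ x z) ∧
      ∀ h ∈ H, ∀ (μ : F) (ν : F'), (∀ x, h * A.a x * h⁻¹ = A.a (μ * x)) →
        (∀ y, h * B.a y * h⁻¹ = B.a (ν * y)) → h ∈ π.range →
          ∀ x y, γ (μ * x) (ν * y) = γ x y := by
  choose lA hA using A.lift
  choose lB hB using B.lift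
  have hd : ∀ x y g g', π g = A.a x → π g' = B.a y → ⁅g, g'⁆ = ⁅lA x, lB y⁆ := fun x y g g' e e' =>
    commutator_congr π hc (e.trans (hA x).symm) (e'.trans (hB y).symm)
  have hcen : ∀ x y, ⁅lA x, lB y⁆ ∈ Subgroup.center Γ := fun x y =>
    central_of_commute hc (by rw [hA, hB]; exact hcomm x y)
  refine ⟨fun x y => ⁅lA x, lB y⁆, hd, fun x y z => ?_, fun x y z => ?_,
    fun h hh μ ν hμ hν hr x y => ?_⟩
  · show ⁅lA (x + y), lB z⁆ = ⁅lA x, lB z⁆ * ⁅lA y, lB z⁆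
    rw [← hd (x + y) z (lA x * lA y) (lB z) (by rw [map_mul, hA, hA, A.a_add]) (hB z),
      commutator_mul_left ((Subgroup.mem_center_iff.1 (hcen y z)) _),
      (Subgroup.mem_center_iff.1 (hcen y z)) _]
  · show ⁅lA x, lB (y + z)⁆ = ⁅lA x, lB y⁆ * ⁅lA x, lB z⁆
    rw [← hd x (y + z) (lA x) (lB y * lB z) (hA x) (by rw [map_mul, hB, hB, B.a_add]),
      commutator_mul_right ((Subgroup.mem_center_iff.1 (hcen x z)) _)]
  · show ⁅lA (μ * x), lB (ν * y)⁆ = ⁅lA x, lB y⁆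
    obtain ⟨k, rfl⟩ := hr
    rw [← conj_commutator_eq hc (k := k) (g := lA x) (g' := lB y) (h1 := A.a (μ * x))
      (h2 := B.a (ν * y)) (by rw [hA]; exact hμ x) (by rw [hB]; exact hν y) (hA _) (hB _),
      (Subgroup.mem_center_iff.1 (hcen x y)) k, mul_inv_cancel_right]

omit hc in
/-- An invariant bi-additive pairing with separated weights vanishes. -/
theorem pairing_sep {F F' M : Type*} [Field F] [Field F'] [Group M] (γ : F → F' → M)
    (hl : ∀ x y z, γ (x + y) z = γ x z * γ y z) (hr : ∀ x y z, γ x (y + z) = γ x y * γ x z)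
    {μ : F} {ν : F'} (hinv : ∀ x y, γ (μ * x) (ν * y) = γ x y)
    (hsep : μ = 1 ∧ ν ≠ 1 ∨ μ ≠ 1 ∧ ν = 1) (x : F) (y : F') : γ x y = 1 := by
  rcases hsep with ⟨h1, h2⟩ | ⟨h1, h2⟩
  · have key : ∀ w, γ x ((ν - 1) * w) = 1 := fun w => by
      have := hr x ((ν - 1) * w) w
      rw [sub_mul, one_mul, sub_add_cancel] at this
      have h := hinv x w
      rw [h1, one_mul] at h
      rw [h] at this
      exact (mul_eq_right.1 this.symm) ▸ (by rw [sub_mul, one_mul])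
    have := key (y / (ν - 1))
    rwa [mul_div_cancel₀ y (sub_ne_zero.2 h2)] at this
  · have key : ∀ w, γ ((μ - 1) * w) y = 1 := fun w => by
      have := hl ((μ - 1) * w) w y
      rw [sub_mul, one_mul, sub_add_cancel] at this
      have h := hinv w y
      rw [h2, one_mul] at h
      rw [h] at this
      exact (mul_eq_right.1 this.symm) ▸ (by rw [sub_mul, one_mul])
    have := key (x / (μ - 1))
    rwa [mul_div_cancel₀ x (sub_ne_zero.2 h1)] at this

/-- Lifts of two commuting root groups with separated weights commute. -/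
theorem commute_of_sep {F F' : Type*} [Field F] [Field F'] (A : RootMap π H F)
    (B : RootMap π H F') (hcomm : ∀ x y, Commute (A.a x) (B.a y)) {h : G} (hh : h ∈ H)
    (hr : h ∈ π.range) {μ : F} {ν : F'} (hμ : ∀ x, h * A.a x * h⁻¹ = A.a (μ * x))
    (hν : ∀ y, h * B.a y * h⁻¹ = B.a (ν * y)) (hsep : μ = 1 ∧ ν ≠ 1 ∨ μ ≠ 1 ∧ ν = 1)
    {g g' : Γ} {x : F} {y : F'} (hg : π g = A.a x) (hg' : π g' = B.a y) : Commute g g' := by
  obtain ⟨γ, hd, hl, hrr, hinv⟩ := exists_pairing hc A B hcomm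
  rw [← commutatorElement_eq_one_iff_commute, hd x y g g' hg hg']
  exact pairing_sep γ hl hrr (hinv h hh μ ν hμ hν hr) hsep x y

/-- The lift of a root group with all scalars is abelian when the field is not too small. -/
theorem commute_self_of_full {F : Type*} [Field F] (A : RootMap π H F)
    (hfull : ∀ μ : F, μ ≠ 0 → ∃ h ∈ H, h ∈ π.range ∧ ∀ x, h * A.a x * h⁻¹ = A.a (μ * x))
    {c : F} (hc0 : c ≠ 0) (hc1 : c + 1 ≠ 0) (hne : c + 1 ≠ c / (c + 1))
    {g g' : Γ} {x y : F} (hg : π g = A.a x) (hg' : π g' = A.a y) : Commute g g' := by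
  obtain ⟨γ, hd, hl, hr, hinv⟩ := exists_pairing hc A A fun x y => by
    rw [Commute, SemiconjBy, ← A.a_add, ← A.a_add, add_comm]
  rw [← commutatorElement_eq_one_iff_commute, hd x y g g' hg hg']
  refine pairing_eq_one γ (fun a a' b => hl a a' b) (fun a b b' => hr a b b') id
    (fun μ a b hμ => ?_) hc0 hc1 hne x y
  obtain ⟨h, hh, hhr, hμ'⟩ := hfull μ hμ
  exact hinv h hh μ μ hμ' hμ' hhr a b

/-- A group generated by commutators of two root groups has an abelian lift if these two commute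
with it. -/
theorem commute_self_of_commutator {g g' g1 g2 : Γ} (he : π g = ⁅π g1, π g2⁆)
    (h1 : Commute g' g1) (h2 : Commute g' g2) : Commute g g' := by
  have hk : ⁅g1, g2⁆⁻¹ * g ∈ Subgroup.center Γ :=
    hc (by rw [MonoidHom.mem_ker, map_mul, map_inv, map_commutatorElement, he, inv_mul_cancel])
  have hcc : Commute g' ⁅g1, g2⁆ := by
    rw [commutatorElement_def]
    exact ((h1.mul_right h2).mul_right h1.inv_right).mul_right h2.inv_right
  have hz : Commute g' (⁅g1, g2⁆⁻¹ * g) := Subgroup.mem_center_iff.1 hk g'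
  have := (hcc.mul_right hz).symm
  rwa [mul_inv_cancel_left] at this

/-- The equivariant lift of a root group with abelian preimage. -/
theorem exists_rootLift (hH : ∀ h ∈ H, ∀ k ∈ H, Commute h k) {F : Type*} [Field F]
    (A : RootMap π H F)
    (hab : ∀ g g' x y, π g = A.a x → π g' = A.a y → Commute g g')
    {h₀ : G} (hh : h₀ ∈ H) (hr : h₀ ∈ π.range) {μ₀ : F}
    (hμ : ∀ x, h₀ * A.a x * h₀⁻¹ = A.a (μ₀ * x)) (hne : μ₀ ≠ 1) :
    ∃ ã : F → Γ, (∀ x, π (ã x) = A.a x) ∧ (∀ x y, ã (x + y) = ã x * ã y) ∧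
      ∀ k : Γ, π k ∈ H → ∀ μ : F, (∀ x, π k * A.a x * (π k)⁻¹ = A.a (μ * x)) →
        ∀ x, k * ã x * k⁻¹ = ã (μ * x) := by
  obtain ⟨h, rfl⟩ := hr
  choose l hl using A.lift
  set w : F → F := fun x => x / (μ₀ - 1) with hw
  have hw0 : μ₀ - 1 ≠ 0 := sub_ne_zero.2 hne
  refine ⟨fun x => ⁅h, l (w x)⁆, fun x => ?_, fun x y => ?_, fun k hk μ hkμ x => ?_⟩
  · show π ⁅h, l (w x)⁆ = A.a x
    rw [map_commutatorElement, hl, commutatorElement_def, hμ, ← A.a_sub]
    congr 1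
    rw [hw]
    field_simp
  · show ⁅h, l (w (x + y))⁆ = ⁅h, l (w x)⁆ * ⁅h, l (w y)⁆
    have he : π (l (w (x + y))) = π (l (w x) * l (w y)) := by
      rw [map_mul, hl, hl, hl, ← A.a_add]
      simp only [hw, add_div]
    rw [commutator_congr π hc (x := h) (x' := h) rfl he]
    refine commutator_mul_right ?_
    refine hab _ _ (w x) (μ₀ * w y - w y) (hl _) ?_
    rw [map_commutatorElement, hl, commutatorElement_def, hμ, ← A.a_sub]
  · show k * ⁅h, l (w x)⁆ * k⁻¹ = ⁅h, l (w (μ * x))⁆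
    refine conj_commutator_eq hc (h1 := π h) (h2 := A.a (w (μ * x))) ?_ ?_ rfl (hl _)
    · rw [(hH _ hk _ hh).eq, mul_inv_cancel_right]
    · rw [hl, hkμ]
      simp only [hw, mul_div_assoc]

omit hc in
/-- The elements on which a root lift acts through the section form a subgroup. -/
def Sect.actSubgroup {P : Subgroup G} (S : Sect π H P) {F : Type*} [Field F] (A : RootMap π H F)
    (ã : F → Γ) (hnorm : ∀ x, ∀ u ∈ P, A.a x * u * (A.a x)⁻¹ ∈ P) : Subgroup G where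
  carrier := {u | u ∈ P ∧ ∀ x, ã x * S.s u * (ã x)⁻¹ = S.s (A.a x * u * (A.a x)⁻¹)}
  one_mem' := ⟨P.one_mem, fun x => by simp [S.s_one]⟩
  mul_mem' := by
    rintro u v ⟨hu, hu'⟩ ⟨hv, hv'⟩
    refine ⟨mul_mem hu hv, fun x => ?_⟩
    rw [S.s_mul u hu v hv, show A.a x * (u * v) * (A.a x)⁻¹ =
      A.a x * u * (A.a x)⁻¹ * (A.a x * v * (A.a x)⁻¹) by group,
      S.s_mul _ (hnorm x u hu) _ (hnorm x v hv), ← hu', ← hv']
    group
  inv_mem' := by
    rintro u ⟨hu, hu'⟩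
    have hi : ∀ w ∈ P, S.s w⁻¹ = (S.s w)⁻¹ := fun w hw => eq_inv_of_mul_eq_one_left (by
      rw [← S.s_mul _ (inv_mem hw) _ hw, inv_mul_cancel, S.s_one])
    refine ⟨inv_mem hu, fun x => ?_⟩
    rw [hi u hu, show A.a x * u⁻¹ * (A.a x)⁻¹ = (A.a x * u * (A.a x)⁻¹)⁻¹ by group,
      hi _ (hnorm x u hu), ← hu']
    group

/-- If a root lift acts through the section on `P'`, and the commutators with a second root group
lie in `P'`, separated weights make it act through the section on that root group too. -/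
theorem Sect.act_of_sep {P : Subgroup G} (S : Sect π H P) {F : Type*} [Field F]
    (A : RootMap π H F) {ã : F → Γ} (hã : ∀ x, π (ã x) = A.a x)
    (hadd : ∀ x y, ã (x + y) = ã x * ã y)
    (heq : ∀ k : Γ, π k ∈ H → ∀ μ : F, (∀ x, π k * A.a x * (π k)⁻¹ = A.a (μ * x)) →
        ∀ x, k * ã x * k⁻¹ = ã (μ * x))
    (hnorm : ∀ x, ∀ u ∈ P, A.a x * u * (A.a x)⁻¹ ∈ P)
    {F' : Type*} [Field F'] (B : RootMap π H F') (hB : ∀ y, B.a y ∈ P)
    (hstep : ∀ x y, (B.a y)⁻¹ * (A.a x * B.a y * (A.a x)⁻¹) ∈ S.actSubgroup A ã hnorm)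
    {h : G} (hh : h ∈ H) (hr : h ∈ π.range) {μ : F} {ν : F'}
    (hμ : ∀ x, h * A.a x * h⁻¹ = A.a (μ * x)) (hν : ∀ y, h * B.a y * h⁻¹ = B.a (ν * y))
    (hsep : μ = 1 ∧ ν ≠ 1 ∨ μ ≠ 1 ∧ ν = 1) (y : F') : B.a y ∈ S.actSubgroup A ã hnorm := by
  let δ : F → G → Γ := fun x u => (S.s (A.a x * u * (A.a x)⁻¹))⁻¹ * (ã x * S.s u * (ã x)⁻¹)
  have hcen : ∀ x, ∀ u ∈ P, δ x u ∈ Subgroup.center Γ := fun x u hu => hc (by
    simp only [δ, MonoidHom.mem_ker, map_mul, map_inv, hã, S.map_s _ hu,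
      S.map_s _ (hnorm x u hu), inv_mul_cancel])
  have hδ : ∀ x, ∀ u ∈ P, ã x * S.s u * (ã x)⁻¹ = S.s (A.a x * u * (A.a x)⁻¹) * δ x u :=
    fun x u _ => by simp only [δ, mul_inv_cancel_left]
  have hmul : ∀ x, ∀ u ∈ P, ∀ v ∈ P, δ x (u * v) = δ x u * δ x v := fun x u hu v hv => by
    refine mul_left_cancel (a := S.s (A.a x * (u * v) * (A.a x)⁻¹)) ?_
    rw [← hδ x _ (mul_mem hu hv), S.s_mul u hu v hv,
      show ã x * (S.s u * S.s v) * (ã x)⁻¹ = ã x * S.s u * (ã x)⁻¹ * (ã x * S.s v * (ã x)⁻¹) by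
        group,
      hδ x u hu, hδ x v hv, show A.a x * (u * v) * (A.a x)⁻¹ =
        A.a x * u * (A.a x)⁻¹ * (A.a x * v * (A.a x)⁻¹) by group,
      S.s_mul _ (hnorm x u hu) _ (hnorm x v hv)]
    calc S.s (A.a x * u * (A.a x)⁻¹) * δ x u * (S.s (A.a x * v * (A.a x)⁻¹) * δ x v)
        = S.s (A.a x * u * (A.a x)⁻¹) * (δ x u * S.s (A.a x * v * (A.a x)⁻¹)) * δ x v := by group
      _ = _ := by rw [← Subgroup.mem_center_iff.1 (hcen x u hu) _]; group
  have hone : ∀ x, ∀ u ∈ S.actSubgroup A ã hnorm, δ x u = 1 := fun x u hu => by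
    simp only [δ, hu.2 x, inv_mul_cancel]
  have hshift : ∀ x x' z, δ x' (A.a x * B.a z * (A.a x)⁻¹) = δ x' (B.a z) := fun x x' z => by
    conv_lhs => rw [← mul_inv_cancel_left (B.a z) (A.a x * B.a z * (A.a x)⁻¹)]
    rw [hmul x' _ (hB z) _ (hstep x z).1, hone x' _ (hstep x z), mul_one]
  let γ : F → F' → Γ := fun x y => δ x (B.a y)
  have hl : ∀ x x' z, γ (x + x') z = γ x z * γ x' z := fun x x' z => by
    show δ (x + x') (B.a z) = δ x (B.a z) * δ x' (B.a z)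
    rw [add_comm x x']
    refine mul_left_cancel (a := S.s (A.a (x' + x) * B.a z * (A.a (x' + x))⁻¹)) ?_
    rw [← hδ _ _ (hB z), hadd,
      show ã x' * ã x * S.s (B.a z) * (ã x' * ã x)⁻¹ =
        ã x' * (ã x * S.s (B.a z) * (ã x)⁻¹) * (ã x')⁻¹ by group,
      hδ x _ (hB z), show A.a (x' + x) * B.a z * (A.a (x' + x))⁻¹ =
        A.a x' * (A.a x * B.a z * (A.a x)⁻¹) * (A.a x')⁻¹ by rw [A.a_add]; group]
    have hu' := hnorm x _ (hB z)
    have hcx := hcen x _ (hB z)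
    calc ã x' * (S.s (A.a x * B.a z * (A.a x)⁻¹) * δ x (B.a z)) * (ã x')⁻¹
        = ã x' * S.s (A.a x * B.a z * (A.a x)⁻¹) * (δ x (B.a z) * (ã x')⁻¹) := by group
      _ = ã x' * S.s (A.a x * B.a z * (A.a x)⁻¹) * (ã x')⁻¹ * δ x (B.a z) := by
        rw [← Subgroup.mem_center_iff.1 hcx (ã x')⁻¹]; group
      _ = _ := by
        rw [hδ x' _ hu', hshift, mul_assoc, Subgroup.mem_center_iff.1 hcx (δ x' (B.a z))]
  have hrr : ∀ x y z, γ x (y + z) = γ x y * γ x z := fun x y z => by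
    show δ x (B.a (y + z)) = _
    rw [B.a_add, hmul x _ (hB y) _ (hB z)]
  have hinv : ∀ x z, γ (μ * x) (ν * z) = γ x z := fun x z => by
    obtain ⟨k, rfl⟩ := hr
    show δ (μ * x) (B.a (ν * z)) = δ x (B.a z)
    have hk : k * δ x (B.a z) * k⁻¹ = δ x (B.a z) := by
      rw [Subgroup.mem_center_iff.1 (hcen x _ (hB z)) k, mul_inv_cancel_right]
    rw [← hk]
    simp only [δ]
    rw [show k * ((S.s (A.a x * B.a z * (A.a x)⁻¹))⁻¹ * (ã x * S.s (B.a z) * (ã x)⁻¹)) * k⁻¹ =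
        (k * S.s (A.a x * B.a z * (A.a x)⁻¹) * k⁻¹)⁻¹ *
          (k * ã x * k⁻¹ * (k * S.s (B.a z) * k⁻¹) * (k * ã x * k⁻¹)⁻¹) by group,
      heq k hh μ hμ, S.equiv k hh _ (hB z), S.equiv k hh _ (hnorm x _ (hB z)), hν,
      show π k * (A.a x * B.a z * (A.a x)⁻¹) * (π k)⁻¹ =
        π k * A.a x * (π k)⁻¹ * (π k * B.a z * (π k)⁻¹) * (π k * A.a x * (π k)⁻¹)⁻¹ by group,
      hμ, hν]
  refine ⟨hB y, fun x => ?_⟩
  rw [hδ x _ (hB y), show δ x (B.a y) = 1 from pairing_sep γ hl hrr hinv hsep x y, mul_one]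

omit hc in
/-- One step of extending a section. -/
theorem Sect.extend {P Q : Subgroup G} (S : Sect π H P) {F : Type*} [Field F]
    (A : RootMap π H F) {ã : F → Γ} (hã : ∀ x, π (ã x) = A.a x)
    (hadd : ∀ x y, ã (x + y) = ã x * ã y)
    (heq : ∀ k : Γ, π k ∈ H → ∀ μ : F, (∀ x, π k * A.a x * (π k)⁻¹ = A.a (μ * x)) →
        ∀ x, k * ã x * k⁻¹ = ã (μ * x))
    (hnorm : ∀ x, ∀ u ∈ P, A.a x * u * (A.a x)⁻¹ ∈ P)
    (hact : ∀ x, ∀ u ∈ P, ã x * S.s u * (ã x)⁻¹ = S.s (A.a x * u * (A.a x)⁻¹))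
    (hHP : ∀ h ∈ H, ∀ u ∈ P, h * u * h⁻¹ ∈ P)
    (hsplit : ∀ g ∈ Q, ∃ x, ∃ u ∈ P, g = A.a x * u)
    (hmeet : ∀ x, A.a x ∈ P → x = 0) :
    ∃ S' : Sect π H Q, ∀ x, ∀ u ∈ P, S'.s (A.a x * u) = ã x * S.s u := by
  classical
  let s' : G → Γ := fun g => if h : ∃ x, ∃ u ∈ P, g = A.a x * u then
    ã h.choose * S.s h.choose_spec.choose else 1
  have hs' : ∀ x, ∀ u ∈ P, s' (A.a x * u) = ã x * S.s u := by
    intro x u hu
    have h : ∃ x', ∃ u' ∈ P, A.a x * u = A.a x' * u' := ⟨x, u, hu, rfl⟩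
    obtain ⟨hu', e⟩ := h.choose_spec.choose_spec
    simp only [s', dif_pos h]
    generalize h.choose_spec.choose = u' at hu' e ⊢
    generalize h.choose = x' at e ⊢
    have hneg : ∀ z, A.a (-z) = (A.a z)⁻¹ := fun z =>
      eq_inv_of_mul_eq_one_left (by rw [← A.a_add, neg_add_cancel, A.a_zero])
    have h0 : A.a (x - x') = u' * u⁻¹ := by
      rw [sub_eq_add_neg, add_comm, A.a_add, hneg]
      calc (A.a x')⁻¹ * A.a x = (A.a x')⁻¹ * (A.a x * u) * u⁻¹ := by group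
        _ = _ := by rw [e]; group
    have hx : x = x' := sub_eq_zero.1 (hmeet _ (h0 ▸ mul_mem hu' (inv_mem hu)))
    subst hx
    rw [mul_left_cancel e]
  refine ⟨⟨s', fun g hg => ?_, fun g hg g' hg' => ?_, fun k hk g hg => ?_⟩, hs'⟩
  · obtain ⟨x, u, hu, rfl⟩ := hsplit g hg
    rw [hs' x u hu, map_mul, hã, S.map_s u hu]
  · obtain ⟨x, u, hu, rfl⟩ := hsplit g hg
    obtain ⟨y, v, hv, rfl⟩ := hsplit g' hg'
    have hu' : (A.a y)⁻¹ * u * A.a y ∈ P := by
      have := hnorm (-y) u hu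
      rwa [show A.a (-y) = (A.a y)⁻¹ from
        eq_inv_of_mul_eq_one_left (by rw [← A.a_add, neg_add_cancel, A.a_zero]), inv_inv] at this
    rw [show A.a x * u * (A.a y * v) = A.a (x + y) * ((A.a y)⁻¹ * u * A.a y * v) by
      rw [A.a_add]; group, hs' _ _ (mul_mem hu' hv), hs' x u hu, hs' y v hv,
      S.s_mul _ hu' v hv, hadd]
    have := hact y _ hu'
    rw [show A.a y * ((A.a y)⁻¹ * u * A.a y) * (A.a y)⁻¹ = u by group] at this
    rw [← this]; group
  · obtain ⟨x, u, hu, rfl⟩ := hsplit g hg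
    obtain ⟨μ, hμ⟩ := A.weight _ hk
    rw [hs' x u hu, show π k * (A.a x * u) * (π k)⁻¹ =
      π k * A.a x * (π k)⁻¹ * (π k * u * (π k)⁻¹) by group, hμ,
      hs' _ _ (hHP _ hk u hu), ← heq k hk μ hμ, ← S.equiv k hk u hu]
    group

end CfsgLib.SchurBN
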