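import Cfsg.Agent.SchurBN.TwistPrime

/-!
# Braid relations of orders two, three and four for lifted reflections
-/

set_option autoImplicit false
set_option linter.style.haveILetI false
set_option linter.unusedSectionVars false

namespace CfsgLib.GraphTwist

open Cfsg.Lie CfsgLib.Chevalley CfsgLib.SchurBN
open CfsgLib.Chevalley.RankOneRel (uMat vMat wMat uMat_val vMat_val wMat_val)
open scoped MatrixGroups

universe u

theorem map_uMat {F F' : Type*} [Field F] [Field F'] (ι : F →+* F') (t : F) :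
    Matrix.SpecialLinearGroup.map ι (uMat F t) = uMat F' (ι t) :=
  Subtype.ext (by
    apply Matrix.ext; intro i j
    fin_cases i <;> fin_cases j <;> simp [uMat_val])

theorem map_vMat {F F' : Type*} [Field F] [Field F'] (ι : F →+* F') (t : F) :
    Matrix.SpecialLinearGroup.map ι (vMat F t) = vMat F' (ι t) :=
  Subtype.ext (by
    apply Matrix.ext; intro i j
    fin_cases i <;> fin_cases j <;> simp [vMat_val])

theorem map_wMat {F F' : Type*} [Field F] [Field F'] (ι : F →+* F') :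
    Matrix.SpecialLinearGroup.map ι (wMat F) = wMat F' :=
  Subtype.ext (by
    apply Matrix.ext; intro i j
    fin_cases i <;> fin_cases j <;> simp [wMat_val])

/-- Two involutions, one of which is moved to the other by their product. -/
theorem pow_three_eq_one {G : Type*} [Group G] {a b : G} (ha : a * a = 1) (hb : b * b = 1)
    (h : a * b * a * (a * b)⁻¹ = b) : (a * b) ^ 3 = 1 := by
  have h' : a * b * a = b * (a * b) := mul_inv_eq_iff_eq_mul.1 h
  calc (a * b) ^ 3 = a * b * a * (b * (a * b)) := by simp only [pow_succ, pow_zero, one_mul]; group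
    _ = b * (a * b) * (a * b * a) := by rw [h', ← h']
    _ = b * a * (b * a) * (b * a) := by group
    _ = _ := by
      rw [show b * a * (b * a) * (b * a) = b * (a * b * a) * (b * a) by group, h',
        show b * (b * (a * b)) * (b * a) = b * b * a * (b * b) * a by group, hb, one_mul, mul_one,
        ha]

namespace FieldTwist

variable {D : ChevalleyDatum} {τ : Setup D} {K : Type u} [Field K] (Φ : FieldTwist τ K)

variable {Γ : Type u} [Group Γ] [Finite Γ] (π : Γ →* GL D.Idx K)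
  (ψ : ∀ o : Fin τ.cfg.m, SL(2, Φ.admField (τ.spR o)) →* Γ)
  [Finite K] {p : ℕ} [Fact p.Prime] [CharP K p]
  (hπ : PrimeToP π p) (hψ : ∀ o, π.comp (ψ o) = Φ.rankHom o)
include hπ hψ

/-- An element over a fixed monomial element moving a fundamental root onto another moves the lift
of its reflection onto that of the other, up to the lifted torus. -/
theorem conj_wMat_mem {g : Γ} {σ : Equiv.Perm (Root D)} (hg : MonBy τ.good (π g) σ)
    (hf : π g ∈ Φ.fix) (a b : Fin τ.cfg.m) (hσ : σ (τ.spR a) = τ.spR b)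
    (hab : ∀ x, Φ.Adm (τ.spR a) x → Φ.Adm (τ.spR b) x) :
    g * ψ a (wMat _) * g⁻¹ * (ψ b (wMat _))⁻¹ ∈ Φ.liftT ψ := by
  haveI : CharP (Φ.admField (τ.spR a)) p :=
    (RingHom.charP_iff_charP (Φ.admField (τ.spR a)).subtype p).2 inferInstance
  haveI : CharP (Φ.admField (τ.spR b)) p :=
    (RingHom.charP_iff_charP (Φ.admField (τ.spR b)).subtype p).2 inferInstance
  let ι : Φ.admField (τ.spR a) →+* Φ.admField (τ.spR b) :=
    (Φ.admField (τ.spR a)).subtype.codRestrict (Φ.admField (τ.spR b)) fun x => hab x x.2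
  obtain ⟨c, hc, hc'⟩ := hg (τ.spR a)
  have hcA : Φ.Adm (τ.spR b) (c : K) := by
    have := (Φ.conj_oX_of hg hf hc (Φ.adm_one _)).1
    rwa [mul_one, hσ] at this
  let l : (Φ.admField (τ.spR b))ˣ := Units.mk0 ⟨(c : K), hcA⟩
    (fun h => c.ne_zero (congrArg Subtype.val h))
  have key : (MulAut.conj g).toMonoidHom.comp (ψ a) =
      (ψ b).comp ((scaleHom l).comp (Matrix.SpecialLinearGroup.map ι)) := by
    refine sl2_hom_ext (fun t => ?_) (fun t => ?_)
    · refine hπ.unique ?_ (((isPEl_uMat p t).map (ψ a)).conj g) ?_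
      · show π (g * ψ a _ * g⁻¹) = π (ψ b (scaleHom l _))
        rw [map_mul, map_mul, map_inv, Φ.map_ψ π ψ hπ hψ, Φ.map_ψ π ψ hπ hψ, map_uMat,
          scaleHom_uMat, rankHom_uMat, rankHom_uMat, (Φ.conj_oX_of hg hf hc t.2).2, hσ]
        rfl
      · show IsPEl p (ψ b (scaleHom l _))
        rw [map_uMat, scaleHom_uMat]
        exact (isPEl_uMat p _).map _
    · refine hπ.unique ?_ (((isPEl_vMat p t).map (ψ a)).conj g) ?_
      · show π (g * ψ a _ * g⁻¹) = π (ψ b (scaleHom l _))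
        rw [map_mul, map_mul, map_inv, Φ.map_ψ π ψ hπ hψ, Φ.map_ψ π ψ hπ hψ, map_vMat,
          scaleHom_vMat, rankHom_vMat, rankHom_vMat,
          (Φ.conj_oX_of hg hf (r := (τ.spR a).rev) (d := c⁻¹)
            (fun u => by rw [hg.apply_rev]; exact hc' u) (Φ.adm_rev.2 t.2)).2, hg.apply_rev, hσ]
        congr 1
        simp [l, ι]
        rfl
      · show IsPEl p (ψ b (scaleHom l _))
        rw [map_vMat, scaleHom_vMat]
        exact (isPEl_vMat p _).map _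
  have h : g * ψ a (wMat _) * g⁻¹ =
      ψ b (scaleHom l (Matrix.SpecialLinearGroup.map ι (wMat _))) :=
    congrArg (fun f : _ →* _ => f (wMat _)) key
  rw [h, map_wMat, scaleHom_wMat, map_mul, mul_inv_cancel_right]
  exact Φ.hMat_mem_liftT ψ b l

/-- The relation of order two. -/
theorem pow_two_mem (a b : Fin τ.cfg.m) (hfix : τ.wR b (τ.spR a) = τ.spR a) :
    (ψ a (wMat _) * ψ b (wMat _)) ^ 2 ∈ Φ.liftT ψ := by
  have h := Φ.conj_wMat_mem π ψ hπ hψ (g := ψ b (wMat _)) (σ := τ.wR b)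
    (by rw [Φ.map_ψ π ψ hπ hψ, rankHom_wMat]; exact Φ.monBy_nO b)
    (by rw [Φ.map_ψ π ψ hπ hψ, rankHom_wMat]; exact Φ.nO_mem_fix b) a a hfix fun _ hx => hx
  haveI := Φ.liftT_normal π ψ hπ hψ
  let T := (Φ.liftT ψ).subgroupOf (Φ.liftN ψ)
  let q : ↥(Φ.liftN ψ) →* ↥(Φ.liftN ψ) ⧸ T := QuotientGroup.mk' T
  let An : ↥(Φ.liftN ψ) := ⟨_, Φ.wMat_mem_liftN ψ a⟩
  let Bn : ↥(Φ.liftN ψ) := ⟨_, Φ.wMat_mem_liftN ψ b⟩
  have hq : ∀ x : ↥(Φ.liftN ψ), q x = 1 ↔ (x : Γ) ∈ Φ.liftT ψ := fun x =>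
    QuotientGroup.eq_one_iff _
  have hAA : q An * q An = 1 := by rw [← map_mul, hq]; exact Φ.wMat_sq_mem π ψ hπ hψ a
  have hBB : q Bn * q Bn = 1 := by rw [← map_mul, hq]; exact Φ.wMat_sq_mem π ψ hπ hψ b
  have hc : q Bn * q An * (q Bn)⁻¹ * (q An)⁻¹ = 1 := by
    rw [← map_inv, ← map_inv, ← map_mul, ← map_mul, ← map_mul, hq]; exact h
  rw [mul_inv_eq_one, mul_inv_eq_iff_eq_mul] at hc
  refine (hq ((An * Bn) ^ 2)).1 ?_
  rw [map_pow, map_mul, pow_two, mul_assoc, ← mul_assoc (q Bn), hc,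
    show q An * (q An * q Bn * q Bn) = q An * q An * (q Bn * q Bn) by group, hAA, hBB, one_mul]

/-- The relation of order three. -/
theorem pow_three_mem (a b : Fin τ.cfg.m) (hfix : (τ.wR a * τ.wR b) (τ.spR a) = τ.spR b)
    (hab : ∀ x, Φ.Adm (τ.spR a) x → Φ.Adm (τ.spR b) x) :
    (ψ a (wMat _) * ψ b (wMat _)) ^ 3 ∈ Φ.liftT ψ := by
  have h := Φ.conj_wMat_mem π ψ hπ hψ (g := ψ a (wMat _) * ψ b (wMat _))
    (σ := τ.wR a * τ.wR b)
    (by rw [map_mul, Φ.map_ψ π ψ hπ hψ, Φ.map_ψ π ψ hπ hψ, rankHom_wMat, rankHom_wMat]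
        exact (Φ.monBy_nO a).mul (Φ.monBy_nO b))
    (by rw [map_mul, Φ.map_ψ π ψ hπ hψ, Φ.map_ψ π ψ hπ hψ, rankHom_wMat, rankHom_wMat]
        exact mul_mem (Φ.nO_mem_fix a) (Φ.nO_mem_fix b)) a b hfix hab
  haveI := Φ.liftT_normal π ψ hπ hψ
  let T := (Φ.liftT ψ).subgroupOf (Φ.liftN ψ)
  let q : ↥(Φ.liftN ψ) →* ↥(Φ.liftN ψ) ⧸ T := QuotientGroup.mk' T
  let An : ↥(Φ.liftN ψ) := ⟨_, Φ.wMat_mem_liftN ψ a⟩
  let Bn : ↥(Φ.liftN ψ) := ⟨_, Φ.wMat_mem_liftN ψ b⟩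
  have hq : ∀ x : ↥(Φ.liftN ψ), q x = 1 ↔ (x : Γ) ∈ Φ.liftT ψ := fun x =>
    QuotientGroup.eq_one_iff _
  have hAA : q An * q An = 1 := by rw [← map_mul, hq]; exact Φ.wMat_sq_mem π ψ hπ hψ a
  have hBB : q Bn * q Bn = 1 := by rw [← map_mul, hq]; exact Φ.wMat_sq_mem π ψ hπ hψ b
  have hc : q An * q Bn * q An * (q An * q Bn)⁻¹ * (q Bn)⁻¹ = 1 := by
    rw [← map_mul, ← map_inv, ← map_inv, ← map_mul, ← map_mul, ← map_mul, hq]; exact h
  rw [mul_inv_eq_one] at hc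
  refine (hq ((An * Bn) ^ 3)).1 ?_
  rw [map_pow, map_mul]
  exact pow_three_eq_one hAA hBB hc

/-- The relation of order four. -/
theorem pow_four_mem (a b : Fin τ.cfg.m)
    (hfix : (τ.wR b * τ.wR a * τ.wR b) (τ.spR a) = τ.spR a) :
    (ψ a (wMat _) * ψ b (wMat _)) ^ 4 ∈ Φ.liftT ψ := by
  have h := Φ.conj_wMat_mem π ψ hπ hψ (g := ψ b (wMat _) * ψ a (wMat _) * ψ b (wMat _))
    (σ := τ.wR b * τ.wR a * τ.wR b)
    (by rw [map_mul, map_mul, Φ.map_ψ π ψ hπ hψ, Φ.map_ψ π ψ hπ hψ, rankHom_wMat, rankHom_wMat]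
        exact ((Φ.monBy_nO b).mul (Φ.monBy_nO a)).mul (Φ.monBy_nO b))
    (by rw [map_mul, map_mul, Φ.map_ψ π ψ hπ hψ, Φ.map_ψ π ψ hπ hψ, rankHom_wMat, rankHom_wMat]
        exact mul_mem (mul_mem (Φ.nO_mem_fix b) (Φ.nO_mem_fix a)) (Φ.nO_mem_fix b))
    a a hfix fun _ hx => hx
  haveI := Φ.liftT_normal π ψ hπ hψ
  let T := (Φ.liftT ψ).subgroupOf (Φ.liftN ψ)
  let q : ↥(Φ.liftN ψ) →* ↥(Φ.liftN ψ) ⧸ T := QuotientGroup.mk' T
  let An : ↥(Φ.liftN ψ) := ⟨_, Φ.wMat_mem_liftN ψ a⟩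
  let Bn : ↥(Φ.liftN ψ) := ⟨_, Φ.wMat_mem_liftN ψ b⟩
  have hq : ∀ x : ↥(Φ.liftN ψ), q x = 1 ↔ (x : Γ) ∈ Φ.liftT ψ := fun x =>
    QuotientGroup.eq_one_iff _
  have hAA : q An * q An = 1 := by rw [← map_mul, hq]; exact Φ.wMat_sq_mem π ψ hπ hψ a
  have hBB : q Bn * q Bn = 1 := by rw [← map_mul, hq]; exact Φ.wMat_sq_mem π ψ hπ hψ b
  set Y := q Bn * q An * q Bn with hY
  have hc : Y * q An * Y⁻¹ * (q An)⁻¹ = 1 := by
    rw [hY, ← map_mul, ← map_mul, ← map_inv, ← map_inv, ← map_mul, ← map_mul, ← map_mul, hq]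
    exact h
  rw [mul_inv_eq_one, mul_inv_eq_iff_eq_mul] at hc
  have hYY : Y * Y = 1 := by
    calc q Bn * q An * q Bn * (q Bn * q An * q Bn)
        = q Bn * q An * (q Bn * q Bn) * (q An * q Bn) := by group
      _ = q Bn * (q An * q An) * q Bn := by rw [hBB]; group
      _ = _ := by rw [hAA, mul_one, hBB]
  refine (hq ((An * Bn) ^ 4)).1 ?_
  rw [map_pow, map_mul]
  calc (q An * q Bn) ^ 4 = q An * Y * q An * Y := by
        simp only [hY, pow_succ, pow_zero, one_mul, mul_assoc]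
    _ = q An * (Y * q An) * Y := by group
    _ = q An * q An * (Y * Y) := by rw [hc]; group
    _ = 1 := by rw [hAA, hYY, one_mul]

end FieldTwist

end CfsgLib.GraphTwist
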