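import Cfsg.Agent.SchurBN.TwistPrime
import Cfsg.Agent.GraphTwist.OrderD4

/-!
# Stem extensions of `³D₄(q)`: the part prime to the characteristic
-/

set_option autoImplicit false
set_option linter.style.haveILetI false
set_option linter.unusedSectionVars false

namespace CfsgLib.GraphTwist

open Cfsg.Lie CfsgLib.Chevalley CfsgLib.SchurBN
open CfsgLib.Chevalley.RankOneRel (uMat vMat wMat)
open scoped MatrixGroups

universe u

theorem babab_fix_D4 (a b : Fin setupD4.cfg.m) (hab : a ≠ b) :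
    (setupD4.wR b * setupD4.wR a * setupD4.wR b * setupD4.wR a * setupD4.wR b) (setupD4.spR a) =
      setupD4.spR a := by
  apply Fin.ext
  simp only [Equiv.Perm.mul_apply, Setup.wR_val, Setup.spR_val]
  revert hab a b
  decide +kernel

variable {K : Type u} [Field K] [Fintype K] {p : ℕ} [Fact p.Prime] [CharP K p]

/-- A stem extension of `³D₄(q)` with kernel of order prime to `p` is trivial. -/
theorem ker_eq_bot_D4 (Φ : FieldTwist setupD4 K) {q : ℕ}
    (hfix : Nat.card {x : K // Φ.f x = x} = q) (hK : Nat.card K = q ^ setupD4.cfg.k)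
    {Γ : Type u} [Group Γ] [Finite Γ] (σ : Γ →* ↥Φ.tG) (hσ : Cfsg.IsStemExtension σ)
    (hcop : p.Coprime (Nat.card σ.ker)) : σ.ker = ⊥ := by
  let π : Γ →* GL chevD4.Idx K := Φ.tG.subtype.comp σ
  have hker : π.ker = σ.ker := MonoidHom.ker_comp_of_injective σ Φ.tG.subtype
    (Subgroup.subtype_injective _)
  have hπ : PrimeToP π p := ⟨hker ▸ hσ.2.1, hker ▸ hcop⟩
  have hrange : π.range = Φ.tG := by
    rw [MonoidHom.range_comp, MonoidHom.range_eq_top.2 hσ.1, ← MonoidHom.range_eq_map,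
      Subgroup.range_subtype]
  obtain ⟨ψ, hψ⟩ := Φ.exists_ψ hπ hrange
  have hrel : ∀ i j, (ψ i (wMat _) * ψ j (wMat _)) ^ setupD4.cfg.M i j ∈ Φ.liftT ψ := by
    intro i j
    rcases eq_or_ne i j with rfl | hne
    · rw [CoxeterMatrix.diagonal, pow_one]
      exact Φ.wMat_sq_mem π ψ hπ hψ i
    · have hM : setupD4.cfg.M i j = 6 := by
        revert hne i j
        show ∀ i j : Fin 2, i ≠ j → CoxeterMatrix.G₂ i j = 6
        intro i j
        fin_cases i <;> fin_cases j <;> simp [CoxeterMatrix.G₂]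
      rw [hM]
      exact Φ.pow_six_mem π ψ hπ hψ i j (babab_fix_D4 i j hne)
  have hle := Φ.ker_le_liftT π ψ hπ hψ setupD4_faithful hrel hrange (hker ▸ hσ.2.2)
    (Φ.isPGroup_U1 hfix hK)
  rw [eq_bot_iff]
  intro z hz
  refine Subgroup.mem_bot.2 (Φ.liftT_eq_one_of_map π ψ hπ hψ ?_ (hle (hker.symm ▸ hz)) (MonoidHom.mem_ker.1 (hker.symm ▸ hz)))
  rw [Finset.prod_congr rfl fun o _ => Φ.natCard_admUnits hfix hK (setupD4.spR o),
    natCard_H₀_D4 Φ hfix hK]
  have ho : ∀ o : Fin 2, setupD4.osize (setupD4.spR o) = (![3, 1] : Fin 2 → ℕ) o := by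
    decide +kernel
  refine le_of_eq ?_
  refine (Fin.prod_univ_two fun o : Fin 2 => q ^ setupD4.osize (setupD4.spR o) - 1).trans ?_
  rw [ho, ho]
  show (q ^ 3 - 1) * (q ^ 1 - 1) = _
  rcases q with _ | r
  · simp
  rw [show (r + 1) ^ 3 - 1 = r * ((r + 1) ^ 2 + (r + 1) + 1) from Nat.sub_eq_of_eq_add (by ring),
    pow_one, Nat.add_sub_cancel]
  ring

end CfsgLib.GraphTwist
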