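import Cfsg.Agent.SchurBN.TwistBraid
import Cfsg.Agent.GraphTwist.OrderE6

/-!
# Stem extensions of `²E₆(q)`: the part prime to the characteristic
-/

set_option autoImplicit false
set_option linter.style.haveILetI false
set_option linter.unusedSectionVars false

namespace CfsgLib.GraphTwist

open Cfsg.Lie CfsgLib.Chevalley CfsgLib.SchurBN
open CfsgLib.Chevalley.RankOneRel (uMat vMat wMat)
open scoped MatrixGroups

universe u

/-- The Coxeter matrix of the folded group, as a function. -/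
def mF4 (i j : ℕ) : ℕ :=
  (([[1, 3, 2, 2], [3, 1, 4, 2], [2, 4, 1, 3], [2, 2, 3, 1]] : List (List ℕ)).getD i []).getD j 0

theorem cfgE6_M (a b : Fin setupE6.cfg.m) : setupE6.cfg.M a b = mF4 a b := by
  revert a b
  show ∀ a b : Fin 4, CoxeterMatrix.F₄ a b = mF4 a b
  intro a b
  fin_cases a <;> fin_cases b <;> rfl

theorem braid_fix_E6 (a b : Fin setupE6.cfg.m) :
    a = b ∧ setupE6.cfg.M a b = 1 ∨
    setupE6.cfg.M a b = 2 ∧ setupE6.wR b (setupE6.spR a) = setupE6.spR a ∨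
    setupE6.cfg.M a b = 3 ∧ (setupE6.wR a * setupE6.wR b) (setupE6.spR a) = setupE6.spR b ∧
      setupE6.osize (setupE6.spR a) = setupE6.osize (setupE6.spR b) ∨
    setupE6.cfg.M a b = 4 ∧
      ((setupE6.wR b * setupE6.wR a * setupE6.wR b) (setupE6.spR a) = setupE6.spR a ∨
        (setupE6.wR a * setupE6.wR b * setupE6.wR a) (setupE6.spR b) = setupE6.spR b) := by
  rw [cfgE6_M]
  simp only [Equiv.Perm.mul_apply, Fin.ext_iff, Setup.wR_val, Setup.spR_val]
  revert a b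
  decide +kernel

variable {K : Type u} [Field K] [Fintype K] {p : ℕ} [Fact p.Prime] [CharP K p]

/-- The kernel of a stem extension of `²E₆(q)` of order prime to `p` has order at most
`gcd(3, q + 1)`. -/
theorem card_ker_le_E6 (Φ : FieldTwist setupE6 K) {q : ℕ} (hf : ∀ x, Φ.f x = x ^ q)
    (hfix : Nat.card {x : K // Φ.f x = x} = q) (hK : Fintype.card K = q ^ 2) (hq : 2 ≤ q)
    {Γ : Type u} [Group Γ] [Finite Γ] (σ : Γ →* ↥Φ.tG) (hσ : Cfsg.IsStemExtension σ)
    (hcop : p.Coprime (Nat.card σ.ker)) : Nat.card σ.ker ≤ Nat.gcd 3 (q + 1) := by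
  classical
  have hK' : Nat.card K = q ^ setupE6.cfg.k := (Nat.card_eq_fintype_card).trans hK
  let π : Γ →* GL chevE6.Idx K := Φ.tG.subtype.comp σ
  have hker : π.ker = σ.ker := MonoidHom.ker_comp_of_injective σ Φ.tG.subtype
    (Subgroup.subtype_injective _)
  have hπ : PrimeToP π p := ⟨hker ▸ hσ.2.1, hker ▸ hcop⟩
  have hrange : π.range = Φ.tG := by
    rw [MonoidHom.range_comp, MonoidHom.range_eq_top.2 hσ.1, ← MonoidHom.range_eq_map,
      Subgroup.range_subtype]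
  obtain ⟨ψ, hψ⟩ := Φ.exists_ψ hπ hrange
  have hrel : ∀ i j, (ψ i (wMat _) * ψ j (wMat _)) ^ setupE6.cfg.M i j ∈ Φ.liftT ψ := by
    intro i j
    rcases braid_fix_E6 i j with ⟨rfl, h⟩ | ⟨h, h'⟩ | ⟨h, h', ho⟩ | ⟨h, h' | h'⟩
    · rw [h, pow_one]; exact Φ.wMat_sq_mem π ψ hπ hψ i
    · rw [h]; exact Φ.pow_two_mem π ψ hπ hψ i j h'
    · rw [h]
      refine Φ.pow_three_mem π ψ hπ hψ i j h' fun x hx hs => hx ?_
      rw [setupE6.osize_eq, setupE6.osize_eq, if_pos hs] at ho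
      by_contra hne
      rw [if_neg hne] at ho
      exact absurd ho (show setupE6.cfg.k ≠ 1 by decide +kernel)
    · rw [h]; exact Φ.pow_four_mem π ψ hπ hψ i j h'
    · rw [h]
      have e := Φ.conj_liftT π ψ hπ hψ i (Φ.pow_four_mem π ψ hπ hψ j i h')
      rwa [← conj_pow, ← mul_assoc, mul_inv_cancel_right] at e
  have hle := Φ.ker_le_liftT π ψ hπ hψ setupE6_faithful hrel hrange (hker ▸ hσ.2.2)
    (Φ.isPGroup_U1 hfix hK')
  -- the order of the lifted torus
  let f : (∀ o, (Φ.admField (setupE6.spR o))ˣ) →* Γ :=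
    MonoidHom.noncommPiCoprod (fun o => (ψ o).comp (hMatHom _)) fun i j _ a b =>
      Φ.commute_hMat π ψ hπ hψ (Φ.map_ψ_hMat π ψ hπ hψ i a) j b
  have hT : Φ.liftT ψ ≤ f.range := by
    rw [FieldTwist.liftT, Subgroup.closure_le]
    rintro _ ⟨o, a, rfl⟩
    refine ⟨Pi.mulSingle o a, ?_⟩
    refine Eq.trans ?_ (show (ψ o).comp (hMatHom _) a = _ from rfl)
    exact MonoidHom.noncommPiCoprod_mulSingle (N := fun o => (Φ.admField (setupE6.spR o))ˣ) _ o a
  let g : ↥(Φ.liftT ψ) →* ↥Φ.H₀ := (π.comp (Φ.liftT ψ).subtype).codRestrict Φ.H₀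
    fun x => Φ.liftT_map_le π ψ hπ hψ ⟨_, x.2, rfl⟩
  have hsurj : Function.Surjective g := fun h => by
    obtain ⟨s, hs, e⟩ := Φ.exists_liftT π ψ hπ hψ h.2
    exact ⟨⟨s, hs⟩, Subtype.ext e⟩
  have hgker : g.ker = σ.ker.subgroupOf (Φ.liftT ψ) := by
    rw [← hker]
    ext x
    rw [Subgroup.mem_subgroupOf, MonoidHom.mem_ker, MonoidHom.mem_ker, Subtype.ext_iff]
    rfl
  have hk : Nat.card σ.ker = Nat.card g.ker := by
    rw [hgker, Nat.card_congr (Subgroup.subgroupOfEquivOfLe (hker ▸ hle)).toEquiv]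
  have hmul : Nat.card σ.ker * Nat.card Φ.H₀ = Nat.card (Φ.liftT ψ) := by
    rw [hk, ← g.ker.card_mul_index, Subgroup.index_ker, MonoidHom.range_eq_top.2 hsurj,
      Subgroup.card_top]
  have hb : Nat.card (Φ.liftT ψ) ≤ (q - 1) ^ 4 * (q + 1) ^ 2 := by
    refine le_trans (le_trans (Nat.card_mono (Set.toFinite (f.range : Set Γ)) hT)
      (Nat.card_le_card_of_surjective f.rangeRestrict f.rangeRestrict_surjective)) ?_
    rw [Nat.card_pi, Finset.prod_congr rfl fun o _ => Φ.natCard_admUnits hfix hK' (setupE6.spR o)]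
    have ho : ∀ o : Fin 4, setupE6.osize (setupE6.spR o) = (![2, 2, 1, 1] : Fin 4 → ℕ) o := by
      decide +kernel
    refine le_of_eq ?_
    refine (Fin.prod_univ_four fun o : Fin 4 => q ^ setupE6.osize (setupE6.spR o) - 1).trans ?_
    rw [ho, ho, ho, ho]
    show (q ^ 2 - 1) * (q ^ 2 - 1) * (q ^ 1 - 1) * (q ^ 1 - 1) = _
    rw [pow_one, show q ^ 2 - 1 = (q + 1) * (q - 1) by simpa using Nat.sq_sub_sq q 1]
    ring
  have hH := natCard_H₀_E6 Φ hf hfix hK
  have hpos : 0 < Nat.card Φ.H₀ := by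
    rcases Nat.eq_zero_or_pos (Nat.card Φ.H₀) with h | h
    · rw [h, mul_zero] at hH
      have h1 : q - 1 ≠ 0 := by omega
      exact absurd hH.symm (mul_ne_zero (pow_ne_zero _ h1) (pow_ne_zero _ (by omega)))
    · exact h
  refine Nat.le_of_mul_le_mul_right ?_ hpos
  rw [hmul, hH]
  exact hb

end CfsgLib.GraphTwist
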