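import Cfsg.Agent.SchurBN.TwistRank
import Mathlib.GroupTheory.NoncommPiCoprod

/-!
# The Bruhat decomposition of a central extension of a graph-twisted group

For a stem extension with kernel of order prime to the characteristic, the kernel lies in the
lifted torus, provided the lifted reflections satisfy the relations of the folded Weyl group modulo
the lifted torus.
-/

set_option autoImplicit false
set_option linter.style.haveILetI false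
set_option linter.unusedSectionVars false

namespace CfsgLib.GraphTwist

open Cfsg.Lie CfsgLib.Chevalley CfsgLib.SchurBN
open CfsgLib.Chevalley.RankOneRel (uMat vMat wMat)
open scoped MatrixGroups

universe u

namespace FieldTwist

variable {D : ChevalleyDatum} {τ : Setup D} {K : Type u} [Field K] (Φ : FieldTwist τ K)

section

variable {Γ : Type u} [Group Γ] [Finite Γ] (π : Γ →* GL D.Idx K)
  (ψ : ∀ o : Fin τ.cfg.m, SL(2, Φ.admField (τ.spR o)) →* Γ)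

/-- The lifted torus. -/
def liftT : Subgroup Γ :=
  Subgroup.closure {g | ∃ (o : Fin τ.cfg.m) (a : (Φ.admField (τ.spR o))ˣ), ψ o (hMat a) = g}

/-- The lifted monomial subgroup. -/
def liftN : Subgroup Γ := Φ.liftT ψ ⊔ Subgroup.closure (Set.range fun o => ψ o (wMat _))

theorem hMat_mem_liftT (o : Fin τ.cfg.m) (a : (Φ.admField (τ.spR o))ˣ) :
    ψ o (hMat a) ∈ Φ.liftT ψ :=
  Subgroup.subset_closure ⟨o, a, rfl⟩

theorem liftT_le_liftN : Φ.liftT ψ ≤ Φ.liftN ψ := le_sup_left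

theorem wMat_mem_liftN (o : Fin τ.cfg.m) : ψ o (wMat _) ∈ Φ.liftN ψ :=
  Subgroup.mem_sup_right (Subgroup.subset_closure ⟨o, rfl⟩)

variable [Finite K] {p : ℕ} [Fact p.Prime] [CharP K p]
  (hπ : PrimeToP π p) (hψ : ∀ o, π.comp (ψ o) = Φ.rankHom o)
include hπ hψ

theorem map_ψ (o : Fin τ.cfg.m) (x : SL(2, Φ.admField (τ.spR o))) :
    π (ψ o x) = Φ.rankHom o x :=
  congrArg (fun f : _ →* _ => f x) (hψ o)

theorem map_ψ_hMat (o : Fin τ.cfg.m) (a : (Φ.admField (τ.spR o))ˣ) :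
    π (ψ o (hMat a)) ∈ Φ.H₀ := by
  rw [Φ.map_ψ π ψ hπ hψ, rankHom_hMat]
  exact Φ.oH_mem (Φ.admU_iff.2 (a : Φ.admField (τ.spR o)).2)

theorem liftT_map_le : (Φ.liftT ψ).map π ≤ Φ.H₀ := by
  rw [Subgroup.map_le_iff_le_comap, liftT, Subgroup.closure_le]
  rintro _ ⟨o, a, rfl⟩
  exact Φ.map_ψ_hMat π ψ hπ hψ o a

theorem exists_liftT {h : GL D.Idx K} (hh : h ∈ Φ.H₀) : ∃ t ∈ Φ.liftT ψ, π t = h := by
  have : Φ.H₀ ≤ (Φ.liftT ψ).map π := Φ.H₀_le fun o a ha => by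
    have hA : Φ.Adm (τ.spR o) (a : K) := Φ.admU_iff.1 ha
    let b : (Φ.admField (τ.spR o))ˣ := Units.mk0 ⟨(a : K), hA⟩
      (fun h => a.ne_zero (congrArg Subtype.val h))
    refine ⟨ψ o (hMat b), Φ.hMat_mem_liftT ψ o b, ?_⟩
    rw [Φ.map_ψ π ψ hπ hψ, rankHom_hMat]
    congr 1
    exact Units.ext rfl
  exact this hh

/-- An element over a fixed monomial element fixing a fundamental root acts by scaling. -/
theorem exists_scale_ψ {g : Γ} {σ : Equiv.Perm (Root D)} (hg : MonBy τ.good (π g) σ)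
    (hf : π g ∈ Φ.fix) (o : Fin τ.cfg.m) (hσ : σ (τ.spR o) = τ.spR o) :
    ∃ l : (Φ.admField (τ.spR o))ˣ, ∀ x, g * ψ o x * g⁻¹ = ψ o (scaleHom l x) := by
  obtain ⟨l, hl⟩ := Φ.exists_scale_rankHom hg hf o hσ
  refine ⟨l, fun x => ?_⟩
  have key : (MulAut.conj g).toMonoidHom.comp (ψ o) = (ψ o).comp (scaleHom l) := by
    haveI : CharP (Φ.admField (τ.spR o)) p :=
      (RingHom.charP_iff_charP (Φ.admField (τ.spR o)).subtype p).2 inferInstance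
    refine sl2_hom_ext (fun t => ?_) (fun t => ?_) <;>
    · refine hπ.unique ?_ (((IsPEl.map ?_ (ψ o))).conj g) ?_
      · show π (g * ψ o _ * g⁻¹) = π (ψ o (scaleHom l _))
        rw [map_mul, map_mul, map_inv, Φ.map_ψ π ψ hπ hψ, Φ.map_ψ π ψ hπ hψ, hl]
      · first | exact isPEl_uMat p t | exact isPEl_vMat p t
      · show IsPEl p (ψ o (scaleHom l _))
        first | rw [scaleHom_uMat] | rw [scaleHom_vMat]
        first | exact (isPEl_uMat p _).map _ | exact (isPEl_vMat p _).map _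
  exact congrArg (fun f : _ →* _ => f x) key

theorem exists_scale_of_H₀ {t : Γ} (ht : π t ∈ Φ.H₀) (o : Fin τ.cfg.m) :
    ∃ l : (Φ.admField (τ.spR o))ˣ, ∀ x, t * ψ o x * t⁻¹ = ψ o (scaleHom l x) :=
  Φ.exists_scale_ψ π ψ hπ hψ (monBy_diag τ.good (Φ.H₀_le_diag ht)) (Φ.H₀_le_fix ht) o rfl

theorem commute_hMat {t : Γ} (ht : π t ∈ Φ.H₀) (o : Fin τ.cfg.m)
    (a : (Φ.admField (τ.spR o))ˣ) : Commute t (ψ o (hMat a)) := by
  obtain ⟨l, hl⟩ := Φ.exists_scale_of_H₀ π ψ hπ hψ ht o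
  have := hl (hMat a)
  rwa [scaleHom_hMat, mul_inv_eq_iff_eq_mul] at this

theorem conj_liftT (o : Fin τ.cfg.m) {t : Γ} (ht : t ∈ Φ.liftT ψ) :
    ψ o (wMat _) * t * (ψ o (wMat _))⁻¹ ∈ Φ.liftT ψ := by
  obtain ⟨l, hl⟩ := Φ.exists_scale_of_H₀ π ψ hπ hψ
    (Φ.liftT_map_le π ψ hπ hψ ⟨t, ht, rfl⟩) o
  have h := hl (wMat _)
  rw [scaleHom_wMat, map_mul] at h
  have e : ψ o (wMat _) * t * (ψ o (wMat _))⁻¹ = (ψ o (hMat l))⁻¹ * t := by
    calc ψ o (wMat _) * t * (ψ o (wMat _))⁻¹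
        = (ψ o (hMat l))⁻¹ * (ψ o (hMat l) * ψ o (wMat _)) * t * (ψ o (wMat _))⁻¹ := by group
      _ = _ := by rw [← h]; group
  rw [e]
  exact mul_mem (inv_mem (Φ.hMat_mem_liftT ψ o l)) ht

theorem conj_inv_liftT (o : Fin τ.cfg.m) {t : Γ} (ht : t ∈ Φ.liftT ψ) :
    (ψ o (wMat _))⁻¹ * t * ψ o (wMat _) ∈ Φ.liftT ψ := by
  obtain ⟨l, hl⟩ := Φ.exists_scale_of_H₀ π ψ hπ hψ
    (Φ.liftT_map_le π ψ hπ hψ ⟨t, ht, rfl⟩) o
  have h := hl (wMat _)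
  rw [scaleHom_wMat, map_mul] at h
  have e : (ψ o (wMat _))⁻¹ * t * ψ o (wMat _) =
      (ψ o (wMat _))⁻¹ * ψ o (hMat l) * ψ o (wMat _) * t := by
    calc (ψ o (wMat _))⁻¹ * t * ψ o (wMat _)
        = (ψ o (wMat _))⁻¹ * (t * ψ o (wMat _) * t⁻¹) * t := by group
      _ = _ := by rw [h]; group
  rw [e]
  refine mul_mem ?_ ht
  -- `w⁻¹ h w = h⁻¹` in `SL₂`
  rw [← map_inv, ← map_mul, ← map_mul,
    show (wMat (Φ.admField (τ.spR o)))⁻¹ * hMat l * wMat _ = hMat l⁻¹ by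
      rw [mul_assoc, inv_mul_eq_iff_eq_mul]
      apply Subtype.ext; apply Matrix.ext; intro i j
      fin_cases i <;> fin_cases j <;>
        simp [hMat_val, RankOneRel.wMat_val, Matrix.mul_apply, Fin.sum_univ_two]]
  exact Φ.hMat_mem_liftT ψ o _

theorem liftN_le_normalizer : Φ.liftN ψ ≤ Subgroup.normalizer (Φ.liftT ψ : Set Γ) := by
  refine sup_le Subgroup.le_normalizer ((Subgroup.closure_le _).2 ?_)
  rintro _ ⟨o, rfl⟩
  refine Subgroup.mem_normalizer_iff.2 fun t => ⟨fun ht => Φ.conj_liftT π ψ hπ hψ o ht, fun ht => ?_⟩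
  have := Φ.conj_inv_liftT π ψ hπ hψ o ht
  simpa [mul_assoc] using this

theorem liftT_normal : ((Φ.liftT ψ).subgroupOf (Φ.liftN ψ)).Normal :=
  (Subgroup.normal_subgroupOf_iff_le_normalizer (Φ.liftT_le_liftN ψ)).2
    (Φ.liftN_le_normalizer π ψ hπ hψ)

theorem wMat_sq_mem (o : Fin τ.cfg.m) : ψ o (wMat _) * ψ o (wMat _) ∈ Φ.liftT ψ := by
  rw [← map_mul, wMat_sq]
  exact Φ.hMat_mem_liftT ψ o _

/-- The image of a lifted monomial element. -/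
theorem liftN_map_le : (Φ.liftN ψ).map π ≤ Φ.M₀ := by
  rw [Subgroup.map_le_iff_le_comap, liftN, sup_le_iff, Subgroup.closure_le]
  refine ⟨fun t ht => Φ.H₀_le_M₀ (Φ.liftT_map_le π ψ hπ hψ ⟨t, ht, rfl⟩), ?_⟩
  rintro _ ⟨o, rfl⟩
  show π (ψ o (wMat _)) ∈ Φ.M₀
  rw [Φ.map_ψ π ψ hπ hψ, rankHom_wMat]
  exact Φ.nO_mem_M₀ o

variable (hθ : τ.Faithful)
  (hrel : ∀ i j, (ψ i (wMat _) * ψ j (wMat _)) ^ τ.cfg.M i j ∈ Φ.liftT ψ)
include hθ hrel

/-- A lifted monomial element over the torus lies in the lifted torus. -/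
theorem mem_liftT_of_map {n : Γ} (hn : n ∈ Φ.liftN ψ) (hπn : π n ∈ Φ.H₀) :
    n ∈ Φ.liftT ψ := by
  haveI := Φ.liftT_normal π ψ hπ hψ
  let N := Φ.liftN ψ
  let T := (Φ.liftT ψ).subgroupOf (Φ.liftN ψ)
  let f : Fin τ.cfg.m → ↥N ⧸ T := fun o =>
    QuotientGroup.mk ⟨ψ o (wMat _), Φ.wMat_mem_liftN ψ o⟩
  have hlift : τ.cfg.M.IsLiftable f := fun i j => by
    show (QuotientGroup.mk _ * QuotientGroup.mk _) ^ _ = (1 : ↥N ⧸ T)
    rw [← QuotientGroup.mk_mul, ← QuotientGroup.mk_pow, QuotientGroup.eq_one_iff]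
    exact hrel i j
  let χ : τ.cfg.M.Group →* ↥N ⧸ T := τ.cfg.M.toCoxeterSystem.lift ⟨f, hlift⟩
  have hχ : ∀ o, χ (τ.cfg.M.simple o) = f o := fun o =>
    τ.cfg.M.toCoxeterSystem.lift_apply_simple hlift o
  have hM : ∀ {g : Γ}, g ∈ Φ.liftN ψ → π g ∈ Φ.M₀ := fun {g} hg =>
    Φ.liftN_map_le π ψ hπ hψ ⟨g, hg, rfl⟩
  let πN : ↥N →* ↥Φ.M₀ := (π.comp N.subtype).codRestrict Φ.M₀ fun g => hM g.2
  let ω : ↥N →* τ.cfg.M.Group := (Φ.weyl hθ).comp πN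
  let E : Subgroup ↥N := (χ.comp ω).eqLocus (QuotientGroup.mk' T)
  have hE : ∀ g : ↥N, g ∈ E := by
    have h1 : Φ.liftT ψ ≤ E.map N.subtype := fun t ht => by
      refine ⟨⟨t, Φ.liftT_le_liftN ψ ht⟩, ?_, rfl⟩
      show χ (Φ.weyl hθ _) = QuotientGroup.mk' T _
      have hk : πN ⟨t, Φ.liftT_le_liftN ψ ht⟩ ∈ (Φ.weyl hθ).ker := by
        rw [Φ.ker_weyl hθ]
        exact Φ.liftT_map_le π ψ hπ hψ ⟨t, ht, rfl⟩
      rw [MonoidHom.mem_ker.1 hk, map_one]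
      exact (MonoidHom.mem_ker.1 (show (⟨t, Φ.liftT_le_liftN ψ ht⟩ : ↥N) ∈ (QuotientGroup.mk' T).ker from
        (QuotientGroup.ker_mk' T).symm ▸ ht)).symm
    have h2 : Set.range (fun o => ψ o (wMat _)) ⊆ (E.map N.subtype : Set Γ) := by
      rintro _ ⟨o, rfl⟩
      refine ⟨⟨_, Φ.wMat_mem_liftN ψ o⟩, ?_, rfl⟩
      show χ (Φ.weyl hθ _) = QuotientGroup.mk' T _
      have e : πN ⟨_, Φ.wMat_mem_liftN ψ o⟩ = ⟨Φ.nO o, Φ.nO_mem_M₀ o⟩ := Subtype.ext (by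
        show π (ψ o (wMat _)) = _
        rw [Φ.map_ψ π ψ hπ hψ, rankHom_wMat])
      rw [e, Φ.weyl_nO hθ o, hχ]
      rfl
    have h3 : Φ.liftN ψ ≤ E.map N.subtype := sup_le h1 ((Subgroup.closure_le _).2 h2)
    intro g
    obtain ⟨g', hg', e⟩ := h3 g.2
    exact Subtype.ext e ▸ hg'
  have h := hE ⟨n, hn⟩
  have hk : πN ⟨n, hn⟩ ∈ (Φ.weyl hθ).ker := by
    rw [Φ.ker_weyl hθ]; exact hπn
  have h' : χ (Φ.weyl hθ (πN ⟨n, hn⟩)) = QuotientGroup.mk' T ⟨n, hn⟩ := h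
  rw [MonoidHom.mem_ker.1 hk, map_one] at h'
  have h'' : (⟨n, hn⟩ : ↥N) ∈ (QuotientGroup.mk' T).ker := MonoidHom.mem_ker.2 h'.symm
  rw [QuotientGroup.ker_mk'] at h''
  exact h''

variable (hrange : π.range = Φ.tG) (hstem : π.ker ≤ commutator Γ) (hU : IsPGroup p Φ.U1)
include hrange hstem hU

/-- The kernel lies in the lifted torus. -/
theorem ker_le_liftT : π.ker ≤ Φ.liftT ψ := by
  haveI : ∀ o, CharP (Φ.admField (τ.spR o)) p := fun o =>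
    (RingHom.charP_iff_charP (Φ.admField (τ.spR o)).subtype p).2 inferInstance
  have hUr : Φ.U1 ≤ π.range := hrange ▸ Φ.U1_le_tG
  have hel : ∀ {u : GL D.Idx K}, u ∈ Φ.U1 → IsPEl p u := fun {u} hu => by
    obtain ⟨k, hk⟩ := hU ⟨u, hu⟩
    exact ⟨k, congrArg Subtype.val hk⟩
  let s : GL D.Idx K → Γ := sec π p
  have hs : ∀ {u}, u ∈ Φ.U1 → π (s u) = u := fun {u} hu => (hπ.sec_spec (hUr hu) (hel hu)).1
  have hsm : ∀ {u v}, u ∈ Φ.U1 → v ∈ Φ.U1 → s (u * v) = s u * s v := fun hu hv =>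
    hπ.sec_mul hU hUr hu hv
  have hconj : ∀ (a : Γ) {u}, u ∈ Φ.U1 → a * s u * a⁻¹ = s (π a * u * (π a)⁻¹) :=
    fun a {u} hu => hπ.conj_sec a (hUr hu) (hel hu)
  have hsu : ∀ o (t : Φ.admField (τ.spR o)), ψ o (uMat _ t) = s (Φ.oX (τ.spR o) (t : K)) :=
    fun o t => by
      rw [← Φ.rankHom_uMat o t, ← Φ.map_ψ π ψ hπ hψ]
      exact (hπ.map_hom (ψ o) (isPEl_uMat p t)).symm
  have hsv : ∀ o (t : Φ.admField (τ.spR o)), ψ o (vMat _ t) = s (Φ.oX (τ.spR o).rev (t : K)) :=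
    fun o t => by
      rw [← Φ.rankHom_vMat o t, ← Φ.map_ψ π ψ hπ hψ]
      exact (hπ.map_hom (ψ o) (isPEl_vMat p t)).symm
  have hXU : ∀ o {x : K}, Φ.Adm (τ.spR o) x → Φ.oX (τ.spR o) x ∈ Φ.U1 := fun o {x} hx =>
    ⟨Φ.oX_mem_pos (τ.spR_pos o) x, Φ.oX_mem_fix hx⟩
  have hM : ∀ {g : Γ}, g ∈ Φ.liftN ψ → π g ∈ Φ.M₀ := fun {g} hg =>
    Φ.liftN_map_le π ψ hπ hψ ⟨g, hg, rfl⟩
  let big : Set Γ := {g | ∃ u ∈ Φ.U1, ∃ m ∈ Φ.liftN ψ, ∃ v ∈ Φ.U1, s u * m * s v = g}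
  have mk : ∀ {u m v}, u ∈ Φ.U1 → m ∈ Φ.liftN ψ → v ∈ Φ.U1 → s u * m * s v ∈ big :=
    fun hu hm hv => ⟨_, hu, _, hm, _, hv, rfl⟩
  -- the step
  have step : ∀ o, ∀ c ∈ big, ψ o (wMat _) * c ∈ big := by
    rintro o _ ⟨u, hu, m, hm, w', hw', rfl⟩
    obtain ⟨v, ⟨hv, hvf⟩, x, hx, rfl⟩ := Φ.exists_split_U1 o hu
    have hvU : v ∈ Φ.U1 := by
      refine Subgroup.mem_inf.2 ⟨?_, hvf⟩
      rw [posUnipotent_eq_rootGen τ.good.good]
      exact rootGen_mono _ (fun r hr => hr.1) hv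
    set n := ψ o (wMat _) with hn
    have hπn : π n = Φ.nO o := by rw [hn, Φ.map_ψ π ψ hπ hψ, rankHom_wMat]
    have hv' : Φ.nO o * v * (Φ.nO o)⁻¹ ∈ Φ.U1 := by
      refine Subgroup.mem_inf.2
        ⟨?_, mul_mem (mul_mem (Φ.nO_mem_fix o) hvf) (inv_mem (Φ.nO_mem_fix o))⟩
      rw [posUnipotent_eq_rootGen τ.good.good]
      exact rootGen_mono _ (fun r hr => hr.1) (Φ.nO_conj_compl o hv)
    have hnv : n * s v * n⁻¹ = s (Φ.nO o * v * (Φ.nO o)⁻¹) := by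
      rw [hconj n hvU, hπn]
    rw [hsm hvU (hXU o hx)]
    obtain ⟨w, hw⟩ := Φ.exists_θ (hM hm)
    have move : ∀ (r : Root D) (y : K), half D ≤ ((τ.θ w)⁻¹ r : ℕ) → Φ.Adm r y →
        ∀ (a : Γ), π a = Φ.oX r y → IsPEl p a → ∃ z ∈ Φ.U1, a * m = m * s z := by
      intro r y hr hy a ha hap
      obtain ⟨z, hz, e⟩ := Φ.exists_move (hM hm) hw.inv hr hy
      refine ⟨z, hz, ?_⟩
      have h1 : m⁻¹ * a * m = s z := by
        refine (hπ.sec_eq ?_ (by simpa using hap.conj m⁻¹)).symm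
        rw [map_mul, map_mul, map_inv, ha, mul_assoc, e]; group
      rw [← h1]; group
    by_cases hp : half D ≤ ((τ.θ w)⁻¹ (τ.spR o) : ℕ)
    · obtain ⟨z, hz, e⟩ := move _ x hp hx _ (hs (hXU o hx))
        (hπ.sec_spec (hUr (hXU o hx)) (hel (hXU o hx))).2
      have e' : n * (s v * s (Φ.oX (τ.spR o) x) * m * s w') =
          s (Φ.nO o * v * (Φ.nO o)⁻¹) * (n * m) * s (z * w') := by
        rw [← hnv, hsm hz hw']
        calc n * (s v * s (Φ.oX (τ.spR o) x) * m * s w')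
            = n * s v * n⁻¹ * n * (s (Φ.oX (τ.spR o) x) * m) * s w' := by group
          _ = _ := by rw [e]; group
      rw [e']
      exact mk hv' (mul_mem (Φ.wMat_mem_liftN ψ o) hm) (mul_mem hz hw')
    by_cases hx0 : x = 0
    · have e' : n * (s v * s (Φ.oX (τ.spR o) x) * m * s w') =
          s (Φ.nO o * v * (Φ.nO o)⁻¹) * (n * m) * s w' := by
        rw [← hnv, hx0, oX_zero, show s 1 = 1 from hπ.sec_one]; group
      rw [e']
      exact mk hv' (mul_mem (Φ.wMat_mem_liftN ψ o) hm) hw'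
    have hneg : half D ≤ ((τ.θ w)⁻¹ (τ.spR o).rev : ℕ) := by
      rw [hw.inv.apply_rev, Fin.val_rev]
      have := τ.good.good.two_half
      have := ((τ.θ w)⁻¹ (τ.spR o)).2
      omega
    let b : (Φ.admField (τ.spR o))ˣ := Units.mk0 ⟨x, hx⟩ (fun h => hx0 (congrArg Subtype.val h))
    set t := ψ o (hMat b) with ht
    set k := n * t * n with hk
    have hkT : k ∈ Φ.liftT ψ := by
      rw [hk, show n * t * n = n * t * n⁻¹ * (n * n) by group]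
      exact mul_mem (Φ.conj_liftT π ψ hπ hψ o (Φ.hMat_mem_liftT ψ o b))
        (Φ.wMat_sq_mem π ψ hπ hψ o)
    have hX : s (Φ.oX (τ.spR o) x) = t * n * ψ o (uMat _ (-(b : Φ.admField (τ.spR o)))) *
        ψ o (vMat _ ((b⁻¹ : (Φ.admField (τ.spR o))ˣ) : Φ.admField (τ.spR o))) := by
      rw [ht, hn, ← map_mul, ← map_mul, ← map_mul, ← uMat_eq_cell, hsu]
      rfl
    obtain ⟨z, hz, e⟩ := move _ _ hneg
      (Φ.adm_rev.2 ((b⁻¹ : (Φ.admField (τ.spR o))ˣ) : Φ.admField (τ.spR o)).2)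
      (ψ o (vMat _ ((b⁻¹ : (Φ.admField (τ.spR o))ˣ) : Φ.admField (τ.spR o))))
      (by rw [Φ.map_ψ π ψ hπ hψ, rankHom_vMat]) ((isPEl_vMat p _).map _)
    have hX1 : Φ.oX (τ.spR o) ((-(b : Φ.admField (τ.spR o)) : Φ.admField (τ.spR o)) : K) ∈
        Φ.U1 := hXU o (-(b : Φ.admField (τ.spR o))).2
    have hkH : π k ∈ Φ.H₀ := Φ.liftT_map_le π ψ hπ hψ ⟨k, hkT, rfl⟩
    have hcU := Φ.H₀_conj_U1 hkH hX1
    have e' : n * (s v * s (Φ.oX (τ.spR o) x) * m * s w') =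
        s (Φ.nO o * v * (Φ.nO o)⁻¹ *
          (π k * Φ.oX (τ.spR o) ((-(b : Φ.admField (τ.spR o)) : Φ.admField (τ.spR o)) : K) *
            (π k)⁻¹)) * (k * m) * s (z * w') := by
      rw [hsm hv' hcU, hsm hz hw', ← hnv, ← hconj k hX1, ← hsu, hX]
      calc n * (s v * (t * n * ψ o (uMat _ (-(b : Φ.admField (τ.spR o)))) *
              ψ o (vMat _ ((b⁻¹ : (Φ.admField (τ.spR o))ˣ) : Φ.admField (τ.spR o)))) * m * s w')
          = n * s v * n⁻¹ * (n * t * n) * ψ o (uMat _ (-(b : Φ.admField (τ.spR o)))) *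
              (ψ o (vMat _ ((b⁻¹ : (Φ.admField (τ.spR o))ˣ) : Φ.admField (τ.spR o))) * m) *
              s w' := by group
        _ = _ := by rw [e, ← hk]; group
    rw [e']
    exact mk (mul_mem hv' hcU) (mul_mem (Φ.liftT_le_liftN ψ hkT) hm) (mul_mem hz hw')
  -- the elements preserving the set
  let S : Subgroup Γ :=
    { carrier := {g | (∀ c ∈ big, g * c ∈ big) ∧ ∀ c ∈ big, g⁻¹ * c ∈ big}
      one_mem' := ⟨fun c hc => by rwa [one_mul], fun c hc => by rwa [inv_one, one_mul]⟩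
      mul_mem' := @fun a b ha hb => ⟨fun c hc => by rw [mul_assoc]; exact ha.1 _ (hb.1 c hc),
        fun c hc => by rw [mul_inv_rev, mul_assoc]; exact hb.2 _ (ha.2 c hc)⟩
      inv_mem' := @fun a ha => ⟨ha.2, by rw [inv_inv]; exact ha.1⟩ }
  have hTc : ∀ t ∈ Φ.liftT ψ, ∀ c ∈ big, t * c ∈ big := by
    rintro t ht _ ⟨u, hu, m, hm, v, hv, rfl⟩
    have ht' : π t ∈ Φ.H₀ := Φ.liftT_map_le π ψ hπ hψ ⟨t, ht, rfl⟩
    rw [show t * (s u * m * s v) = t * s u * t⁻¹ * (t * m) * s v by group, hconj t hu]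
    exact mk (Φ.H₀_conj_U1 ht' hu) (mul_mem (Φ.liftT_le_liftN ψ ht) hm) hv
  have hUc : ∀ a ∈ Φ.U1, ∀ c ∈ big, s a * c ∈ big := by
    rintro a ha _ ⟨u, hu, m, hm, v, hv, rfl⟩
    rw [← mul_assoc, ← mul_assoc, ← hsm ha hu]
    exact mk (mul_mem ha hu) hm hv
  have hinv : ∀ a ∈ Φ.U1, (s a)⁻¹ = s a⁻¹ := fun a ha =>
    inv_eq_of_mul_eq_one_right (by rw [← hsm ha (inv_mem ha), mul_inv_cancel]; exact hπ.sec_one)
  have hnS : ∀ o, ψ o (wMat _) ∈ S := fun o => by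
    refine ⟨step o, fun c hc => ?_⟩
    rw [show (ψ o (wMat _))⁻¹ * c = ψ o (wMat _) * ((ψ o (wMat _) * ψ o (wMat _))⁻¹ * c) by group]
    exact step o _ (hTc _ (inv_mem (Φ.wMat_sq_mem π ψ hπ hψ o)) c hc)
  have hUS : ∀ a ∈ Φ.U1, s a ∈ S := fun a ha =>
    ⟨hUc a ha, by rw [hinv a ha]; exact hUc _ (inv_mem ha)⟩
  have hψS : ∀ o x, ψ o x ∈ S := fun o x => by
    have hu : ∀ t, uMat _ t ∈ S.comap (ψ o) := fun t => by
      rw [Subgroup.mem_comap, hsu]; exact hUS _ (hXU o t.2)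
    have : S.comap (ψ o) = ⊤ := sl2_top_of_mem hu fun t => by
      rw [← neg_neg t, ← vMat_conj]
      exact mul_mem (mul_mem (Subgroup.mem_comap.2 (hnS o)) (hu _))
        (inv_mem (Subgroup.mem_comap.2 (hnS o)))
    exact (this ▸ Subgroup.mem_top x : x ∈ S.comap (ψ o))
  -- everything preserves the set
  have hgen : ∀ g : Γ, g ∈ S := by
    have h1 : Φ.tG ≤ S.map π := by
      refine (Subgroup.closure_le _).2 ?_
      rintro _ ⟨o, b, x, hx, rfl⟩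
      cases b
      · exact ⟨ψ o (uMat _ ⟨x, hx⟩), hψS o _, by rw [Φ.map_ψ π ψ hπ hψ, rankHom_uMat]; rfl⟩
      · exact ⟨ψ o (vMat _ ⟨x, Φ.adm_rev.1 hx⟩), hψS o _,
          by rw [Φ.map_ψ π ψ hπ hψ, rankHom_vMat]; rfl⟩
    have h2 : ∀ g : Γ, ∃ a ∈ S, a⁻¹ * g ∈ π.ker := fun g => by
      obtain ⟨a, ha, e⟩ := h1 (hrange ▸ ⟨g, rfl⟩ : π g ∈ Φ.tG)
      exact ⟨a, ha, by rw [MonoidHom.mem_ker, map_mul, map_inv, e, inv_mul_cancel]⟩
    have h3 : commutator Γ ≤ S := by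
      rw [commutator_def, Subgroup.commutator_le]
      intro x _ y _
      obtain ⟨a, ha, hax⟩ := h2 x
      obtain ⟨b, hb, hby⟩ := h2 y
      have e := CfsgLib.SchurBound.commutator_congr π hπ.central (x := x) (x' := a) (y := y)
        (y' := b) (by rw [MonoidHom.mem_ker, map_mul, map_inv, inv_mul_eq_one] at hax; exact hax.symm)
        (by rw [MonoidHom.mem_ker, map_mul, map_inv, inv_mul_eq_one] at hby; exact hby.symm)
      rw [e, commutatorElement_def]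
      exact mul_mem (mul_mem (mul_mem ha hb) (inv_mem ha)) (inv_mem hb)
    intro g
    obtain ⟨a, ha, hag⟩ := h2 g
    have := mul_mem ha (h3 (hstem hag))
    rwa [mul_inv_cancel_left] at this
  intro z hz
  obtain ⟨u, hu, m, hm, v, hv, e⟩ := (hgen z).1 1
    (by simpa [show s 1 = 1 from hπ.sec_one] using
      mk (u := 1) (m := (1 : Γ)) (v := 1) (one_mem _) (one_mem _) (one_mem _))
  rw [mul_one] at e
  have hπm : π m = u⁻¹ * v⁻¹ := by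
    have := congrArg π e
    rw [map_mul, map_mul, hs hu, hs hv, hz] at this
    rw [← mul_inv_rev, eq_inv_iff_mul_eq_one, ← mul_assoc]
    calc π m * v * u = u⁻¹ * (u * π m * v) * u := by group
      _ = 1 := by rw [this]; group
  have hpos : π m ∈ Φ.U1 := hπm ▸ mul_mem (inv_mem hu) (inv_mem hv)
  have hH : π m ∈ Φ.H₀ := Φ.borel_inf_M₀ hθ (pos_le_borel D hpos.1) (hM hm)
  have hone : π m = 1 := by
    have h : π m ∈ D.posUnipotent K ⊓ D.diagonalSubgroup K := ⟨hpos.1, Φ.H₀_le_diag hH⟩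
    rwa [pos_inf_diag τ.good, Subgroup.mem_bot] at h
  have hmT := Φ.mem_liftT_of_map π ψ hπ hψ hθ hrel hm hH
  have huv : u * v = 1 := by
    rw [hone, ← mul_inv_rev, eq_comm, inv_eq_one] at hπm
    exact mul_eq_one_symm hπm
  have hmz : z = m := by
    have hc : Commute m (s v) := ((Subgroup.mem_center_iff.1 (hπ.central hone)) (s v)).symm
    rw [← e, mul_assoc, hc.eq, ← mul_assoc, ← hsm hu hv, huv,
      show s 1 = 1 from hπ.sec_one, one_mul]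
  exact hmz ▸ hmT

end

end FieldTwist

end CfsgLib.GraphTwist
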