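import Cfsg.Agent.SchurBN.TwistLift

/-!
# Kernels of order prime to the characteristic of stem extensions of a graph-twisted group
-/

set_option autoImplicit false
set_option linter.style.haveILetI false
set_option linter.unusedSectionVars false

namespace CfsgLib.GraphTwist

open Cfsg.Lie CfsgLib.Chevalley CfsgLib.SchurBN
open CfsgLib.Chevalley.RankOneRel (uMat vMat wMat)
open scoped MatrixGroups

universe u

namespace FieldTwist

variable {D : ChevalleyDatum} {τ : Setup D} {K : Type u} [Field K] (Φ : FieldTwist τ K)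

section

variable {Γ : Type u} [Group Γ] [Finite Γ] (π : Γ →* GL D.Idx K)
  (ψ : ∀ o : Fin τ.cfg.m, SL(2, Φ.admField (τ.spR o)) →* Γ)
  [Finite K] {p : ℕ} [Fact p.Prime] [CharP K p]
  (hπ : PrimeToP π p) (hψ : ∀ o, π.comp (ψ o) = Φ.rankHom o)
include hπ hψ

/-- With a torus of full order the lifted torus maps injectively. -/
theorem liftT_eq_one_of_map
    (hcard : ∏ o, Nat.card (Φ.admField (τ.spR o))ˣ ≤ Nat.card Φ.H₀)
    {t : Γ} (ht : t ∈ Φ.liftT ψ) (h1 : π t = 1) : t = 1 := by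
  classical
  haveI : ∀ o, Finite (Φ.admField (τ.spR o))ˣ := fun o => inferInstance
  let f : (∀ o, (Φ.admField (τ.spR o))ˣ) →* Γ :=
    MonoidHom.noncommPiCoprod (fun o => (ψ o).comp (hMatHom _)) fun i j _ a b =>
      Φ.commute_hMat π ψ hπ hψ (Φ.map_ψ_hMat π ψ hπ hψ i a) j b
  have hle : Φ.liftT ψ ≤ f.range := by
    rw [liftT, Subgroup.closure_le]
    rintro _ ⟨o, a, rfl⟩
    refine ⟨Pi.mulSingle o a, ?_⟩
    show f (Pi.mulSingle o a) = _
    refine Eq.trans ?_ (show (ψ o).comp (hMatHom _) a = _ from rfl)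
    exact MonoidHom.noncommPiCoprod_mulSingle (N := fun o => (Φ.admField (τ.spR o))ˣ) _ o a
  let g : ↥(Φ.liftT ψ) →* ↥Φ.H₀ := (π.comp (Φ.liftT ψ).subtype).codRestrict Φ.H₀
    fun x => Φ.liftT_map_le π ψ hπ hψ ⟨_, x.2, rfl⟩
  have hsurj : Function.Surjective g := fun h => by
    obtain ⟨s, hs, e⟩ := Φ.exists_liftT π ψ hπ hψ h.2
    exact ⟨⟨s, hs⟩, Subtype.ext e⟩
  have h2 : Nat.card ↥(Φ.liftT ψ) ≤ Nat.card ↥Φ.H₀ := by
    refine le_trans ?_ hcard
    rw [← Nat.card_pi]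
    exact le_trans (Nat.card_mono (Set.toFinite (f.range : Set Γ)) hle)
      (Nat.card_le_card_of_surjective f.rangeRestrict f.rangeRestrict_surjective)
  have hinj : Function.Injective g :=
    (hsurj.bijective_of_nat_card_le h2).1
  have : (⟨t, ht⟩ : ↥(Φ.liftT ψ)) = 1 := hinj (Subtype.ext (by simpa [g] using h1))
  exact congrArg Subtype.val this

/-- The braid relation for two reflections such that the word `babab` fixes the root of `a`. -/
theorem pow_six_mem (a b : Fin τ.cfg.m)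
    (hfix : (τ.wR b * τ.wR a * τ.wR b * τ.wR a * τ.wR b) (τ.spR a) = τ.spR a) :
    (ψ a (wMat _) * ψ b (wMat _)) ^ 6 ∈ Φ.liftT ψ := by
  set A := ψ a (wMat _) with hA
  set B := ψ b (wMat _) with hB
  set Y := B * A * B * A * B with hY
  have hπA : π A = Φ.nO a := by rw [hA, Φ.map_ψ π ψ hπ hψ, rankHom_wMat]
  have hπB : π B = Φ.nO b := by rw [hB, Φ.map_ψ π ψ hπ hψ, rankHom_wMat]
  have hmon : MonBy τ.good (π Y) (τ.wR b * τ.wR a * τ.wR b * τ.wR a * τ.wR b) := by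
    rw [hY]; simp only [map_mul, hπA, hπB]
    exact ((((Φ.monBy_nO b).mul (Φ.monBy_nO a)).mul (Φ.monBy_nO b)).mul (Φ.monBy_nO a)).mul
      (Φ.monBy_nO b)
  have hfx : π Y ∈ Φ.fix := by
    rw [hY]; simp only [map_mul, hπA, hπB]
    exact mul_mem (mul_mem (mul_mem (mul_mem (Φ.nO_mem_fix b) (Φ.nO_mem_fix a)) (Φ.nO_mem_fix b))
      (Φ.nO_mem_fix a)) (Φ.nO_mem_fix b)
  obtain ⟨l, hl⟩ := Φ.exists_scale_ψ π ψ hπ hψ hmon hfx a hfix
  have hcomm : (Y * A * Y⁻¹) * A⁻¹ ∈ Φ.liftT ψ := by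
    rw [hA, hl, scaleHom_wMat, map_mul, mul_inv_cancel_right]
    exact Φ.hMat_mem_liftT ψ a l
  haveI := Φ.liftT_normal π ψ hπ hψ
  let N := Φ.liftN ψ
  let T := (Φ.liftT ψ).subgroupOf (Φ.liftN ψ)
  let q : ↥N →* ↥N ⧸ T := QuotientGroup.mk' T
  let An : ↥N := ⟨A, Φ.wMat_mem_liftN ψ a⟩
  let Bn : ↥N := ⟨B, Φ.wMat_mem_liftN ψ b⟩
  let Yn : ↥N := Bn * An * Bn * An * Bn
  have hq : ∀ x : ↥N, (x : Γ) ∈ Φ.liftT ψ → q x = 1 := fun x hx =>
    MonoidHom.mem_ker.1 (show x ∈ q.ker from (QuotientGroup.ker_mk' T).symm ▸ hx)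
  have hAA : q An * q An = 1 := by
    rw [← map_mul]; exact hq _ (Φ.wMat_sq_mem π ψ hπ hψ a)
  have hBB : q Bn * q Bn = 1 := by
    rw [← map_mul]; exact hq _ (Φ.wMat_sq_mem π ψ hπ hψ b)
  have hYA : q Yn * q An = q An * q Yn := by
    have := hq (Yn * An * Yn⁻¹ * An⁻¹) hcomm
    rw [map_mul, map_mul, map_mul, map_inv, map_inv, mul_inv_eq_one, mul_inv_eq_iff_eq_mul] at this
    exact this
  have hYY : q Yn * q Yn = 1 := by
    simp only [Yn, map_mul]
    calc q Bn * q An * q Bn * q An * q Bn * (q Bn * q An * q Bn * q An * q Bn)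
        = q Bn * q An * q Bn * q An * (q Bn * q Bn) * (q An * q Bn * q An * q Bn) := by group
      _ = q Bn * q An * q Bn * (q An * q An) * (q Bn * q An * q Bn) := by rw [hBB]; group
      _ = q Bn * q An * (q Bn * q Bn) * (q An * q Bn) := by rw [hAA]; group
      _ = q Bn * (q An * q An) * q Bn := by rw [hBB]; group
      _ = q Bn * q Bn := by rw [hAA]; group
      _ = 1 := hBB
  have h6 : q ((An * Bn) ^ 6) = 1 := by
    rw [map_pow, map_mul]
    calc (q An * q Bn) ^ 6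
        = q An * (q Bn * q An * q Bn * q An * q Bn) * q An *
            (q Bn * q An * q Bn * q An * q Bn) := by
          simp only [pow_succ, pow_zero, one_mul, mul_assoc]
      _ = q An * q Yn * q An * q Yn := by simp only [Yn, map_mul]
      _ = q An * (q Yn * q An) * q Yn := by group
      _ = (q An * q An) * (q Yn * q Yn) := by rw [hYA]; group
      _ = 1 := by rw [hAA, hYY, one_mul]
  have hmem : (An * Bn) ^ 6 ∈ q.ker := MonoidHom.mem_ker.2 h6
  rw [QuotientGroup.ker_mk'] at hmem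
  exact hmem

end

variable [Finite K] {p : ℕ} [Fact p.Prime] [CharP K p]

theorem rankHom_mem_tG (o : Fin τ.cfg.m) (x : SL(2, Φ.admField (τ.spR o))) :
    Φ.rankHom o x ∈ Φ.tG := by
  have : Φ.tG.comap (Φ.rankHom o) = ⊤ := sl2_top_of_mem
    (fun t => Subgroup.mem_comap.2 (by rw [rankHom_uMat]; exact Φ.oX_mem_tG o t.2))
    (fun t => Subgroup.mem_comap.2 (by rw [rankHom_vMat]; exact Φ.oY_mem_tG o t.2))
  exact (this ▸ Subgroup.mem_top x : x ∈ Φ.tG.comap _)

/-- The lifts of the rank one homomorphisms. -/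
theorem exists_ψ {Γ : Type u} [Group Γ] [Finite Γ] {π : Γ →* GL D.Idx K} (hπ : PrimeToP π p)
    (hrange : π.range = Φ.tG) :
    ∃ ψ : ∀ o : Fin τ.cfg.m, SL(2, Φ.admField (τ.spR o)) →* Γ,
      ∀ o, π.comp (ψ o) = Φ.rankHom o := by
  letI := Fintype.ofFinite K
  have h : ∀ o, ∃ φ : SL(2, Φ.admField (τ.spR o)) →* Γ, π.comp φ = Φ.rankHom o := fun o => by
    haveI : CharP (Φ.admField (τ.spR o)) p :=
      (RingHom.charP_iff_charP (Φ.admField (τ.spR o)).subtype p).2 inferInstance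
    letI := Fintype.ofFinite (Φ.admField (τ.spR o))
    refine exists_lift_sl2 hπ (Φ.rankHom o) ?_
    rintro _ ⟨x, rfl⟩
    exact hrange ▸ Φ.rankHom_mem_tG o x
  choose ψ hψ using h
  exact ⟨ψ, hψ⟩

theorem natCard_admUnits {q : ℕ} (hfix : Nat.card {x : K // Φ.f x = x} = q)
    (hK : Nat.card K = q ^ τ.cfg.k) (r : Root D) :
    Nat.card (Φ.admField r)ˣ = q ^ τ.osize r - 1 := by
  rw [Nat.card_units, show Nat.card (Φ.admField r) = Nat.card {x : K // Φ.Adm r x} from rfl,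
    Φ.natCard_adm hfix hK r]

theorem isPGroup_U1 {q : ℕ} (hfix : Nat.card {x : K // Φ.f x = x} = q)
    (hK : Nat.card K = q ^ τ.cfg.k) : IsPGroup p Φ.U1 := by
  letI := Fintype.ofFinite K
  obtain ⟨n, hp, hn⟩ := FiniteField.card K p
  have hq : q ∣ p ^ (n : ℕ) := by
    rw [← hn, Fintype.card_eq_nat_card, hK]
    exact dvd_pow_self q (by have := τ.k_pos; omega)
  obtain ⟨m, -, rfl⟩ := (Nat.dvd_prime_pow hp).1 hq
  refine IsPGroup.of_card (n := m * half D) ?_
  rw [Φ.natCard_u1 hfix hK, ← pow_mul]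

end FieldTwist

end CfsgLib.GraphTwist
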