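import Cfsg.Agent.SchurBN.SL2Lift
import Cfsg.Agent.GraphTwist.BN

/-!
# The rank one homomorphisms of a graph-twisted group
-/

set_option autoImplicit false
set_option linter.style.haveILetI false
set_option linter.unusedSectionVars false

namespace CfsgLib.GraphTwist

open Cfsg.Lie CfsgLib.Chevalley CfsgLib.SchurBN
open CfsgLib.Chevalley.RankOneRel (uMat vMat wMat uMat_val vMat_val wMat_val)
open scoped MatrixGroups

/-- The diagonal element. -/
def hMat {F : Type*} [Field F] (a : Fˣ) : SL(2, F) :=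
  ⟨!![(a : F), 0; 0, ((a⁻¹ : Fˣ) : F)], by simp [Matrix.det_fin_two]⟩

theorem hMat_val {F : Type*} [Field F] (a : Fˣ) :
    (hMat a).1 = !![(a : F), 0; 0, ((a⁻¹ : Fˣ) : F)] := rfl

/-- `hMat` as a homomorphism. -/
def hMatHom (F : Type*) [Field F] : Fˣ →* SL(2, F) where
  toFun := hMat
  map_one' := Subtype.ext (by simp [hMat_val, Matrix.one_fin_two])
  map_mul' a b := by
    apply Subtype.ext; apply Matrix.ext; intro i j
    fin_cases i <;> fin_cases j <;>
      simp [hMat_val, Matrix.mul_apply, Fin.sum_univ_two, mul_inv, mul_comm]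

/-- Conjugation by `diag(l, 1)`, on a matrix. -/
def scaleFun {F : Type*} [Field F] (l : Fˣ) (g : SL(2, F)) : SL(2, F) :=
  ⟨!![g.1 0 0, (l : F) * g.1 0 1; ((l⁻¹ : Fˣ) : F) * g.1 1 0, g.1 1 1], by
    have := RankOneRel.det_eq g
    have hl : (l : F) * ((l⁻¹ : Fˣ) : F) = 1 := Units.mul_inv l
    rw [Matrix.det_fin_two_of]
    linear_combination this - (g.1 0 1 * g.1 1 0) * hl⟩

theorem scaleFun_val {F : Type*} [Field F] (l : Fˣ) (g : SL(2, F)) :
    (scaleFun l g).1 =
      !![g.1 0 0, (l : F) * g.1 0 1; ((l⁻¹ : Fˣ) : F) * g.1 1 0, g.1 1 1] := rfl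

/-- Conjugation by `diag(l, 1)`. -/
def scaleHom {F : Type*} [Field F] (l : Fˣ) : SL(2, F) →* SL(2, F) where
  toFun := scaleFun l
  map_one' := by
    apply Subtype.ext
    simp [scaleFun_val, Matrix.one_fin_two]
  map_mul' g k := by
    have hl : (l : F) * ((l⁻¹ : Fˣ) : F) = 1 := Units.mul_inv l
    apply Subtype.ext; apply Matrix.ext; intro i j
    fin_cases i <;> fin_cases j <;>
      simp [-Units.val_inv_eq_inv_val, scaleFun_val, Matrix.mul_apply, Fin.sum_univ_two] <;>
      first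
        | linear_combination (-(g.1 0 1) * k.1 1 0) * hl
        | linear_combination (-(g.1 1 0) * k.1 0 1) * hl
        | ring

theorem scaleHom_val {F : Type*} [Field F] (l : Fˣ) (g : SL(2, F)) :
    (scaleHom l g).1 =
      !![g.1 0 0, (l : F) * g.1 0 1; ((l⁻¹ : Fˣ) : F) * g.1 1 0, g.1 1 1] := rfl

theorem scaleHom_uMat {F : Type*} [Field F] (l : Fˣ) (t : F) :
    scaleHom l (uMat F t) = uMat F ((l : F) * t) :=
  Subtype.ext (by simp [scaleHom_val, uMat_val])

theorem scaleHom_vMat {F : Type*} [Field F] (l : Fˣ) (t : F) :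
    scaleHom l (vMat F t) = vMat F (((l⁻¹ : Fˣ) : F) * t) :=
  Subtype.ext (by simp [scaleHom_val, vMat_val])

theorem scaleHom_hMat {F : Type*} [Field F] (l a : Fˣ) : scaleHom l (hMat a) = hMat a :=
  Subtype.ext (by simp [scaleHom_val, hMat_val])

theorem scaleHom_wMat {F : Type*} [Field F] (l : Fˣ) :
    scaleHom l (wMat F) = hMat l * wMat F :=
  Subtype.ext (by
    apply Matrix.ext; intro i j
    fin_cases i <;> fin_cases j <;>
      simp [scaleHom_val, hMat_val, wMat_val, Matrix.mul_apply, Fin.sum_univ_two])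

theorem wMat_sq {F : Type*} [Field F] : wMat F * wMat F = hMat (-1 : Fˣ) :=
  Subtype.ext (by
    apply Matrix.ext; intro i j
    fin_cases i <;> fin_cases j <;>
      simp [hMat_val, wMat_val, Matrix.mul_apply, Fin.sum_univ_two])

/-- The cell identity. -/
theorem uMat_eq_cell {F : Type*} [Field F] (a : Fˣ) :
    uMat F (a : F) = hMat a * wMat F * uMat F (-(a : F)) * vMat F ((a⁻¹ : Fˣ) : F) :=
  Subtype.ext (by
    apply Matrix.ext; intro i j
    fin_cases i <;> fin_cases j <;>
      simp [hMat_val, wMat_val, uMat_val, vMat_val, Matrix.mul_apply, Fin.sum_univ_two])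

namespace FieldTwist

variable {D : ChevalleyDatum} {τ : Setup D} {K : Type*} [Field K] (Φ : FieldTwist τ K)

/-- The field of parameters of an orbit. -/
def admField (r : Root D) : Subfield K where
  carrier := {x | Φ.Adm r x}
  zero_mem' := Φ.adm_zero r
  one_mem' := Φ.adm_one r
  add_mem' := fun {a b} (ha : Φ.Adm r a) (hb : Φ.Adm r b) => FieldTwist.Adm.add Φ ha hb
  neg_mem' := fun {a} (ha : Φ.Adm r a) => FieldTwist.Adm.neg Φ ha
  mul_mem' := fun {a b} (ha : Φ.Adm r a) (hb : Φ.Adm r b) h => by rw [map_mul, ha h, hb h]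
  inv_mem' := fun a (ha : Φ.Adm r a) h => by rw [map_inv₀, ha h]

theorem mem_admField {r : Root D} {x : K} : x ∈ Φ.admField r ↔ Φ.Adm r x := Iff.rfl

theorem head_range_le (i : Fin D.rank) (g : SL(2, K)) :
    (rankOneAt τ.good K i).hom g ∈ block (τ := τ) (K := K) i := by
  have : (block (τ := τ) (K := K) i).comap (rankOneAt τ.good K i).hom = ⊤ :=
    sl2_top_of_mem
      (fun t => Subgroup.mem_comap.2 (by
        show (rankOneAt τ.good K i).map _ ∈ _
        rw [RankOneRel.map_uMat]; exact X_mem_block i t))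
      (fun t => Subgroup.mem_comap.2 (by
        show (rankOneAt τ.good K i).map _ ∈ _
        rw [RankOneRel.map_vMat]; exact Y_mem_block i t))
  exact (this ▸ Subgroup.mem_top g : g ∈ (block (τ := τ) (K := K) i).comap _)

/-- The homomorphism from `SL₂` onto the rank one group of an orbit. -/
noncomputable def rankHom (o : Fin τ.cfg.m) :
    SL(2, Φ.admField (τ.spR o)) →* GL D.Idx K :=
  MonoidHom.mk' (fun g => Φ.orbProd o ((rankOneAt τ.good K (τ.head o)).hom
      (Matrix.SpecialLinearGroup.map (Φ.admField (τ.spR o)).subtype g)))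
    fun a b => by
      rw [map_mul, map_mul]
      exact Φ.orbProd_mul (head_range_le _ _) (head_range_le _ _)

theorem rankHom_uMat (o : Fin τ.cfg.m) (t : Φ.admField (τ.spR o)) :
    Φ.rankHom o (uMat _ t) = Φ.oX (τ.spR o) (t : K) := by
  have e : Matrix.SpecialLinearGroup.map (Φ.admField (τ.spR o)).subtype (uMat _ t) =
      uMat K (t : K) := Subtype.ext (by
    apply Matrix.ext; intro i j; fin_cases i <;> fin_cases j <;> simp [uMat_val])
  show Φ.orbProd o ((rankOneAt τ.good K (τ.head o)).map _) = _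
  rw [e, RankOneRel.map_uMat]
  rfl

theorem rankHom_vMat (o : Fin τ.cfg.m) (t : Φ.admField (τ.spR o)) :
    Φ.rankHom o (vMat _ t) = Φ.oX (τ.spR o).rev (t : K) := by
  have e : Matrix.SpecialLinearGroup.map (Φ.admField (τ.spR o)).subtype (vMat _ t) =
      vMat K (t : K) := Subtype.ext (by
    apply Matrix.ext; intro i j; fin_cases i <;> fin_cases j <;> simp [vMat_val])
  show Φ.orbProd o ((rankOneAt τ.good K (τ.head o)).map _) = _
  rw [e, RankOneRel.map_vMat, oX, orbProd, osize_rev]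
  rfl

theorem rankHom_wMat (o : Fin τ.cfg.m) : Φ.rankHom o (wMat _) = Φ.nO o := by
  have e : Matrix.SpecialLinearGroup.map (Φ.admField (τ.spR o)).subtype (wMat _) = wMat K :=
    Subtype.ext (by
      apply Matrix.ext; intro i j; fin_cases i <;> fin_cases j <;> simp [wMat_val])
  show Φ.orbProd o ((rankOneAt τ.good K (τ.head o)).map _) = _
  rw [e, RankOneRel.map_wMat]
  rfl

theorem rankHom_hMat (o : Fin τ.cfg.m) (a : (Φ.admField (τ.spR o))ˣ) :
    Φ.rankHom o (hMat a) =
      Φ.oH (τ.spR o) (Units.map (Φ.admField (τ.spR o)).subtype.toMonoidHom a) := by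
  show Φ.orbProd o ((rankOneAt τ.good K (τ.head o)).map _) = _
  rw [RankOneRel.map_lower _ _ (by simp [hMat_val])
    (Units.map (Φ.admField (τ.spR o)).subtype.toMonoidHom a) (by simp [hMat_val])]
  have e : (Matrix.SpecialLinearGroup.map (Φ.admField (τ.spR o)).subtype (hMat a)).1 0 1 = 0 := by
    simp [hMat_val]
  rw [e, zero_div, RankOneRel.x_zero, mul_one]
  rfl

/-- A fixed element moving root elements by scalars moves orbit elements likewise. -/
theorem conj_oX_of {g : GL D.Idx K} {π : Equiv.Perm (Root D)} (hg : MonBy τ.good g π)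
    (hf : g ∈ Φ.fix) {r : Root D} {d : Kˣ}
    (hd : ∀ t : K, g * X τ.good.good r t * g⁻¹ = X τ.good.good (π r) ((d : K) * t)) {t : K}
    (ht : Φ.Adm r t) : Φ.Adm (π r) ((d : K) * t) ∧
      g * Φ.oX r t * g⁻¹ = Φ.oX (π r) ((d : K) * t) := by
  refine ⟨fun hfix => ?_, ?_⟩
  · have h0 := (Φ.osize_monBy hg hf r).1 hfix
    have h3 := congrArg Φ.Ψ (hd t)
    rw [map_mul, map_mul, map_inv, Φ.mem_fix.1 hf, Φ.Ψ_X_fixed h0 (ht h0), hd, Φ.Ψ_X,
      (τ.valid.root' (π r).2).2.2.2.2.1 (by rw [← τ.σR_val, hfix]), hfix, Int.cast_one,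
      one_mul] at h3
    exact (X_injective τ.good.good _ h3).symm
  · rw [oX, oX, show τ.osize (π r) = τ.osize r by
      rw [τ.osize_eq, τ.osize_eq]; simp only [Φ.osize_monBy hg hf r], ← hd, ← MulAut.conj_apply,
      map_list_prod, List.map_map]
    refine congrArg List.prod (List.map_congr_left fun j _ => ?_)
    rw [Function.comp_apply, MulAut.conj_apply, map_mul, map_mul, map_inv,
      Φ.pow_apply_fix hf]

/-- A fixed monomial element fixing a fundamental root acts on its rank one group by a scaling. -/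
theorem exists_scale_rankHom {g : GL D.Idx K} {π : Equiv.Perm (Root D)}
    (hg : MonBy τ.good g π) (hf : g ∈ Φ.fix) (o : Fin τ.cfg.m) (hπ : π (τ.spR o) = τ.spR o) :
    ∃ l : (Φ.admField (τ.spR o))ˣ, ∀ x,
      g * Φ.rankHom o x * g⁻¹ = Φ.rankHom o (scaleHom l x) := by
  obtain ⟨c, hc, hc'⟩ := hg (τ.spR o)
  have hcA : Φ.Adm (τ.spR o) (c : K) := by
    have := (Φ.conj_oX_of hg hf hc (Φ.adm_one _)).1
    rwa [mul_one, hπ] at this
  let l : (Φ.admField (τ.spR o))ˣ := Units.mk0 ⟨(c : K), hcA⟩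
    (fun h => c.ne_zero (congrArg Subtype.val h))
  refine ⟨l, fun x => ?_⟩
  have key : (MulAut.conj g).toMonoidHom.comp (Φ.rankHom o) =
      (Φ.rankHom o).comp (scaleHom l) := by
    refine sl2_hom_ext (fun t => ?_) (fun t => ?_)
    · show g * Φ.rankHom o _ * g⁻¹ = Φ.rankHom o (scaleHom l _)
      rw [scaleHom_uMat, rankHom_uMat, rankHom_uMat, (Φ.conj_oX_of hg hf hc t.2).2, hπ]
      rfl
    · show g * Φ.rankHom o _ * g⁻¹ = Φ.rankHom o (scaleHom l _)
      rw [scaleHom_vMat, rankHom_vMat, rankHom_vMat,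
        (Φ.conj_oX_of hg hf (r := (τ.spR o).rev) (d := c⁻¹)
          (fun u => by rw [hg.apply_rev]; exact hc' u) (Φ.adm_rev.2 t.2)).2,
        hg.apply_rev, hπ]
      congr 1
      simp [l]
  exact congrArg (fun f : _ →* _ => f x) key

end FieldTwist

end CfsgLib.GraphTwist
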