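import Cfsg.Agent.SchurBN.TwoD4Ids
import Cfsg.Agent.SchurBN.Dev
import Cfsg.Agent.SchurBN.TwistD4P

/-!
# `³D₄(2)`: torus, root maps and lifts
-/

set_option autoImplicit false
set_option linter.style.haveILetI false
set_option linter.unusedSectionVars false
set_option maxRecDepth 8000

namespace CfsgLib.SchurBN

open scoped commutatorElement
open CfsgLib.SchurBound

variable {Γ G : Type*} [Group Γ] [Group G] {π : Γ →* G}

/-- A commutator with an involution which commutes with it squares to one. -/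
theorem commutator_sq {g b : Γ} (hb : b * b = 1) (hc : Commute b ⁅g, b⁆) :
    ⁅g, b⁆ * ⁅g, b⁆ = 1 := by
  rw [← commutator_mul_right hc, hb, commutatorElement_one_right]

/-- An element of odd exponent modulo the centre commutes with an involution whose image it
centralises. -/
theorem commute_of_pow_seven (hc : π.ker ≤ Subgroup.center Γ) {k l : Γ} (hk : π k ^ 7 = 1)
    (hl : l * l = 1) (hkl : Commute (π k) (π l)) : Commute k l := by
  set z := ⁅k, l⁆ with hz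
  have hzc : ∀ y, Commute z y := commute_of_mem_ker π hc (by
    rw [hz, map_commutatorElement, commutatorElement_eq_one_iff_commute]; exact hkl)
  have h2 : z * z = 1 := by
    have := commutator_mul_right (x := k) (y := l) (z := l) (hzc l).symm
    rw [hl, commutatorElement_one_right] at this
    exact this.symm
  have hn : ∀ n : ℕ, ⁅k ^ n, l⁆ = z ^ n := by
    intro n
    induction n with
    | zero => simp
    | succ n ih =>
      rw [pow_succ, commutator_mul_left (hzc _).symm, ← hz, ih, ← pow_succ']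
  have h7 : z ^ 7 = 1 := by
    rw [← hn, commutatorElement_eq_one_iff_commute]
    exact commute_of_mem_ker π hc (by rw [map_pow, hk]) l
  rw [← commutatorElement_eq_one_iff_commute, ← hz]
  have : z ^ 2 = 1 := by rw [sq, h2]
  calc z = z ^ 7 := by rw [show (7 : ℕ) = 2 * 3 + 1 from rfl, pow_succ, pow_mul, this, one_pow,
        one_mul]
    _ = 1 := h7

end CfsgLib.SchurBN

namespace CfsgLib.GraphTwist

open Cfsg.Lie CfsgLib.Chevalley CfsgLib.SchurBN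
open scoped MatrixGroups commutatorElement

theorem short_spec_D4 : ∀ n : Fin 6, n = 0 ∨ n = 2 ∨ n = 3 →
    setupD4.σR (rep6 n) ≠ rep6 n ∧ setupD4.osize (rep6 n) = 3 := by decide +kernel

theorem long_spec_D4 : ∀ n : Fin 6, n = 1 ∨ n = 4 ∨ n = 5 →
    setupD4.σR (rep6 n) = rep6 n ∧ setupD4.osize (rep6 n) = 1 := by decide +kernel

theorem long_short_D4 : ∀ m n : Fin 6, m = 1 ∨ m = 4 ∨ m = 5 → n = 0 ∨ n = 2 ∨ n = 3 →
    ¬(m = 1 ∧ n = 0) → ∀ j < 3, (setupD4.σR ^ j) (rep6 n) ≠ (rep6 m).rev ∧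
      chevD4.commTerms (rep6 m) ((setupD4.σR ^ j) (rep6 n) : Root chevD4) = [] := by
  decide +kernel

theorem long_long_D4 : (rep6 5 : Root chevD4) ≠ (rep6 4).rev ∧
    chevD4.commTerms (rep6 4) (rep6 5 : Root chevD4) = [] := by decide +kernel

namespace FieldTwist

variable {K : Type*} [Field K] [CharP K 2] (Φ : FieldTwist setupD4 K)

theorem commute_long_short {m n : Fin 6} (hm : m = 1 ∨ m = 4 ∨ m = 5)
    (hn : n = 0 ∨ n = 2 ∨ n = 3) (hne : ¬(m = 1 ∧ n = 0)) (x y : K) :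
    Commute (Φ.oX (rep6 m) x) (Φ.oX (rep6 n) y) := by
  rw [Φ.oX_long (long_spec_D4 m hm).2, Φ.oX_three (short_spec_D4 n hn).2]
  refine Commute.list_prod_right _ _ fun z hz => ?_
  obtain ⟨j, hj, rfl⟩ := List.mem_map.1 hz
  have := long_short_D4 m n hm hn hne j ((by decide : ∀ j ∈ [0, 1, 2], j < 3) j hj)
  exact X_commute_two this.1 this.2 _ _

theorem commute_45 (x y : K) : Commute (Φ.oX (rep6 4) x) (Φ.oX (rep6 5) y) := by
  rw [Φ.oX_long (long_spec_D4 4 (by simp)).2, Φ.oX_long (long_spec_D4 5 (by simp)).2]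
  exact X_commute_two long_long_D4.1 long_long_D4.2 _ _

theorem oX_two_sq (n : Fin 6) (x : K) : Φ.oX (rep6 n) x * Φ.oX (rep6 n) x = 1 := by
  rw [oX_mul, CharTwo.add_self_eq_zero, oX_zero]

theorem oX_two_inv (n : Fin 6) (x : K) : (Φ.oX (rep6 n) x)⁻¹ = Φ.oX (rep6 n) x :=
  inv_eq_of_mul_eq_one_right (Φ.oX_two_sq n x)

variable [Finite K]

theorem oX6_mem_u1 (n : Fin 6) {x : K} (h : Φ.Adm (rep6 n) x) :
    Φ.oX (rep6 n) x ∈ Φ.u1 n.1 :=
  Φ.oX_rep_mem_u1 ⟨n.1, _⟩ h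

theorem adm_short {n : Fin 6} (hn : n = 0 ∨ n = 2 ∨ n = 3) (x : K) : Φ.Adm (rep6 n) x :=
  fun h => absurd h (short_spec_D4 n hn).1

theorem u1_anti {i j : ℕ} (h : i ≤ j) : Φ.u1 j ≤ Φ.u1 i := fun _ hg =>
  ⟨setupD4.uT_anti h hg.1, hg.2⟩

/-- `⁅X₂ b, X₀ a⁆` is the short root element, modulo the long ones. -/
theorem bracket20 (a b : K) : ∃ w ∈ Φ.u1 4,
    ⁅Φ.oX (rep6 2) b, Φ.oX (rep6 0) a⁆ =
      Φ.oX (rep6 3) (a * Φ.f (Φ.f b) + Φ.f (Φ.f a) * b) * w := by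
  set z := a * Φ.f (Φ.f b) + Φ.f (Φ.f a) * b
  set w0 := (Φ.oX (rep6 3) z)⁻¹ * ⁅Φ.oX (rep6 0) a, Φ.oX (rep6 2) b⁆ with hw0
  have hz := Φ.oX_mem_fix (Φ.adm_short (n := 3) (by simp) z)
  have ha := Φ.oX_mem_fix (Φ.adm_short (n := 0) (by simp) a)
  have hb := Φ.oX_mem_fix (Φ.adm_short (n := 2) (by simp) b)
  have hcf : ⁅Φ.oX (rep6 0) a, Φ.oX (rep6 2) b⁆ ∈ Φ.fix :=
    mul_mem (mul_mem (mul_mem ha hb) (inv_mem ha)) (inv_mem hb)
  have h0 : w0 ∈ Φ.u1 4 := Subgroup.mem_inf.2 ⟨Φ.bracket02_mod a b, mul_mem (inv_mem hz) hcf⟩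
  refine ⟨Φ.oX (rep6 3) z * w0⁻¹ * (Φ.oX (rep6 3) z)⁻¹, Subgroup.mem_inf.2 ⟨?_,
    Φ.conj_mem_fix hz (inv_mem h0.2)⟩, ?_⟩
  · exact (Subgroup.mem_normalizer_iff.1 (setupD4.pos_le_normalizer_uT 4
      (Φ.oX_mem_pos (setupD4.rep_pos _) z)) _).1 (inv_mem h0.1)
  · rw [← commutatorElement_inv, hw0, mul_inv_rev, inv_inv]
    simp only [← mul_assoc, Φ.oX_two_sq, one_mul]
    rw [Φ.oX_two_inv, mul_assoc _ (Φ.oX (rep6 3) z), Φ.oX_two_sq, mul_one]

variable (hf : ∀ x, Φ.f x = x ^ 2) (hK : Nat.card K = 8)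

include hf in
theorem adm_long {n : Fin 6} (hn : n = 1 ∨ n = 4 ∨ n = 5) {x : K} (h : Φ.Adm (rep6 n) x) :
    x = 0 ∨ x = 1 := by
  have h2 := h (long_spec_D4 n hn).1
  rw [hf, sq] at h2
  rcases eq_or_ne x 0 with e | e
  · exact Or.inl e
  · exact Or.inr (mul_right_cancel₀ e (by rw [h2, one_mul]))

include hf in
theorem chi_long {c : Fin chevD4.rank → Kˣ} (hc : c ∈ Φ.fixC) {n : Fin 6}
    (hn : n = 1 ∨ n = 4 ∨ n = 5) : ChevSimple.chi c (rep6 n) = 1 :=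
  Units.ext ((Φ.adm_long hf hn (Φ.chi_adm hc _)).resolve_left (Units.ne_zero _))

include hK in
theorem pow_seven (x : Kˣ) : x ^ 7 = 1 := by
  have h := pow_card_eq_one' (x := x)
  rwa [Nat.card_units, hK] at h

include hK in
theorem torus_pow_seven {h : GL chevD4.Idx K} (hh : h ∈ Φ.H₀) : h ^ 7 = 1 := by
  obtain ⟨c, -, rfl⟩ := hh
  rw [show torHom chevD4 K c ^ 7 = torHom chevD4 K (c ^ 7) from (map_pow _ _ _).symm,
    show c ^ 7 = 1 from funext fun i => pow_seven hK (c i), map_one]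

include hf hK in
/-- A torus element with prescribed weight on the first short orbit. -/
theorem exists_mu (μ : Kˣ) : ∃ c ∈ Φ.fixC, ChevSimple.chi c (rep6 0) = μ ∧
    ChevSimple.chi c (rep6 2) = μ ∧ ChevSimple.chi c (rep6 3) = μ ^ 5 := by
  obtain ⟨c, hc, hw⟩ := Φ.exists_wt (Φ.fU μ) 1 (map_one _)
  refine ⟨c, hc, (hw ⟨0, by decide⟩).trans ?_, (hw ⟨2, by decide⟩).trans ?_,
    (hw ⟨3, by decide⟩).trans ?_⟩
  · simp [repCoef, Φ.fU3]
  · simp [repCoef, Φ.fU3]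
  · have hfU : ∀ a : Kˣ, Φ.fU a = a ^ 2 := fun a => Units.ext (by
      rw [coe_fU, hf, Units.val_pow_eq_pow_val])
    simp only [repCoef, hfU, ← pow_mul]
    show (μ ^ 2) ^ (0 : ℤ) * (1 : Kˣ) ^ (1 : ℤ) * (μ ^ (2 * 2)) ^ (1 : ℤ) *
      (μ ^ (2 * 2 * 2)) ^ (1 : ℤ) = μ ^ 5
    rw [zpow_zero, one_zpow, one_mul, one_mul, zpow_one, zpow_one, ← pow_add,
      show 2 * 2 + 2 * 2 * 2 = 5 + 7 from rfl, pow_add, pow_seven hK, mul_one]

include hK in
theorem exists_generic : ∃ μ : Kˣ, μ ≠ 1 ∧ μ ^ 5 ≠ 1 ∧ (μ : K) + 1 ≠ 0 ∧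
    (μ : K) + 1 ≠ (μ : K) / ((μ : K) + 1) := by
  haveI : Nontrivial Kˣ := by
    rw [← Finite.one_lt_card_iff_nontrivial, Nat.card_units, hK]
    norm_num
  obtain ⟨μ, hμ⟩ := exists_ne (1 : Kˣ)
  have h7 := pow_seven hK μ
  have h0 : (μ : K) + 1 ≠ 0 := fun e => hμ (Units.ext (by
    rw [Units.val_one, eq_neg_of_add_eq_zero_left e, neg_two]))
  refine ⟨μ, hμ, fun e => hμ ?_, h0, fun e => hμ ?_⟩
  · calc μ = (μ ^ 5) ^ 3 / (μ ^ 7) ^ 2 := by
          rw [← pow_mul, ← pow_mul, eq_div_iff_mul_eq', ← pow_succ']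
      _ = 1 := by rw [e, h7, one_pow, one_pow, div_one]
  · rw [eq_div_iff h0] at e
    have e3 : (μ : K) ^ 3 = 1 := by
      have h2 : (2 : K) = 0 := CharTwo.two_eq_zero
      linear_combination ((μ : K) - 1) * e
    have h7' : (μ : K) ^ 7 = 1 := by rw [← Units.val_pow_eq_pow_val, h7, Units.val_one]
    refine Units.ext ?_
    rw [Units.val_one]
    linear_combination h7' - ((μ : K) * ((μ : K) ^ 3 + 1)) * e3

variable {Γ : Type*} [Group Γ] (π : Γ →* GL chevD4.Idx K) (hrange : Φ.tG ≤ π.range)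

/-- An orbit root group with parameters in a given field. -/
def eMap (n : Fin 6) {F : Type*} [Field F] (e : F →+* K) (hadm : ∀ x, Φ.Adm (rep6 n) (e x))
    (hw : ∀ c ∈ Φ.fixC, ∃ μ, e μ = ChevSimple.chi c (rep6 n)) :
    RootMap π (Φ.H₀ : Set (GL chevD4.Idx K)) F where
  a x := Φ.oX (rep6 n) (e x)
  a_add s t := by rw [map_add, oX_mul]
  lift x := hrange (Φ.U1_le_tG ⟨Φ.oX_mem_pos (setupD4.rep_pos _) _, Φ.oX_mem_fix (hadm x)⟩)
  weight := by
    rintro _ ⟨c, hc, rfl⟩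
    obtain ⟨μ, hμ⟩ := hw c hc
    exact ⟨μ, fun x => by rw [map_mul, hμ]; exact Φ.torC_conj_oX hc _ _⟩

/-- A short root group. -/
def sMap (n : Fin 6) (hn : n = 0 ∨ n = 2 ∨ n = 3) :
    RootMap π (Φ.H₀ : Set (GL chevD4.Idx K)) K :=
  Φ.eMap π hrange n (RingHom.id K) (fun x => Φ.adm_short hn x) fun _ _ => ⟨_, rfl⟩

/-- A long root group. -/
def lMap (n : Fin 6) (hn : n = 1 ∨ n = 4 ∨ n = 5) :
    RootMap π (Φ.H₀ : Set (GL chevD4.Idx K)) (ZMod 2) :=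
  Φ.eMap π hrange n (ZMod.castHom (dvd_refl 2) K)
    (fun x => by
      rcases (by decide : ∀ x : ZMod 2, x = 0 ∨ x = 1) x with rfl | rfl
      · rw [map_zero]; exact Φ.adm_zero _
      · rw [map_one]; exact Φ.adm_one _)
    fun c hc => ⟨1, by rw [map_one, Φ.chi_long hf hc hn, Units.val_one]⟩

theorem sMap_a (n : Fin 6) (hn : n = 0 ∨ n = 2 ∨ n = 3) (x : K) :
    (Φ.sMap π hrange n hn).a x = Φ.oX (rep6 n) x := rfl

theorem lMap_one (n : Fin 6) (hn : n = 1 ∨ n = 4 ∨ n = 5) :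
    (Φ.lMap hf π hrange n hn).a 1 = Φ.oX (rep6 n) (1 : K) :=
  congrArg (Φ.oX (rep6 n)) (map_one _)

theorem sMap_conj {n : Fin 6} (hn : n = 0 ∨ n = 2 ∨ n = 3) {c : Fin chevD4.rank → Kˣ}
    (hc : c ∈ Φ.fixC) (x : K) :
    torC chevD4 c * (Φ.sMap π hrange n hn).a x * (torC chevD4 c)⁻¹ =
      (Φ.sMap π hrange n hn).a ((ChevSimple.chi c (rep6 n) : K) * x) :=
  Φ.torC_conj_oX hc _ _

theorem lMap_conj {n : Fin 6} (hn : n = 1 ∨ n = 4 ∨ n = 5) {c : Fin chevD4.rank → Kˣ}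
    (hc : c ∈ Φ.fixC) (x : ZMod 2) :
    torC chevD4 c * (Φ.lMap hf π hrange n hn).a x * (torC chevD4 c)⁻¹ =
      (Φ.lMap hf π hrange n hn).a (1 * x) := by
  rw [one_mul]
  refine (Φ.torC_conj_oX hc _ _).trans ?_
  rw [Φ.chi_long hf hc hn, Units.val_one, one_mul]
  rfl

variable (hc : π.ker ≤ Subgroup.center Γ)
include hf hK hrange hc

/-- The equivariant lift of a short root group. -/
theorem exists_shortLift (n : Fin 6) (hn : n = 0 ∨ n = 2 ∨ n = 3) :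
    ∃ ã : K → Γ, (∀ x, π (ã x) = (Φ.sMap π hrange n hn).a x) ∧
      (∀ x y, ã (x + y) = ã x * ã y) ∧
      ∀ k : Γ, π k ∈ (Φ.H₀ : Set (GL chevD4.Idx K)) → ∀ μ : K,
        (∀ x, π k * (Φ.sMap π hrange n hn).a x * (π k)⁻¹ = (Φ.sMap π hrange n hn).a (μ * x)) →
        ∀ x, k * ã x * k⁻¹ = ã (μ * x) := by
  obtain ⟨μ, hμ, hμ5, hμ0, hμne⟩ := exists_generic hK
  have hfull : ∀ ν : Kˣ, ∃ c ∈ Φ.fixC, ChevSimple.chi c (rep6 n) = ν := fun ν => by
    rcases hn with rfl | rfl | rfl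
    · obtain ⟨c, h, e, -, -⟩ := Φ.exists_mu hf hK ν
      exact ⟨c, h, e⟩
    · obtain ⟨c, h, -, e, -⟩ := Φ.exists_mu hf hK ν
      exact ⟨c, h, e⟩
    · obtain ⟨c, h, -, -, e⟩ := Φ.exists_mu hf hK (ν ^ 3)
      exact ⟨c, h, by rw [e, ← pow_mul, show 3 * 5 = 7 * 2 + 1 from rfl, pow_succ, pow_mul,
        pow_seven hK, one_pow, one_mul]⟩
  obtain ⟨c₀, hc₀, he₀⟩ := hfull μ
  refine exists_rootLift hc Φ.H₀_comm _ (fun g g' x y hg hg' => ?_) (h₀ := torC chevD4 c₀)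
    ⟨c₀, hc₀, rfl⟩ (hrange (Φ.H₀_le_tG ⟨c₀, hc₀, rfl⟩)) (Φ.sMap_conj π hrange hn hc₀) ?_
  · refine commute_self_of_full hc _ (fun ν hν => ?_) (c := (μ : K)) μ.ne_zero hμ0 hμne hg hg'
    obtain ⟨c, hcf, he⟩ := hfull (Units.mk0 ν hν)
    refine ⟨torC chevD4 c, ⟨c, hcf, rfl⟩, hrange (Φ.H₀_le_tG ⟨c, hcf, rfl⟩), fun z => ?_⟩
    rw [Φ.sMap_conj π hrange hn hcf, he]
    rfl
  · rw [he₀]
    exact fun e => hμ (Units.ext e)

/-- Lifts of a long and a short root element commute. -/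
theorem lift_commute {m n : Fin 6} (hm : m = 1 ∨ m = 4 ∨ m = 5) (hn : n = 0 ∨ n = 2 ∨ n = 3)
    (hne : ¬(m = 1 ∧ n = 0)) {l g : Γ} {x : K} (hl : π l = Φ.oX (rep6 m) (1 : K))
    (hg : π g = Φ.oX (rep6 n) x) : Commute l g := by
  obtain ⟨μ, hμ, hμ5, -, -⟩ := exists_generic hK
  obtain ⟨c, hcf, e0, e2, e3⟩ := Φ.exists_mu hf hK μ
  refine commute_of_sep hc (Φ.lMap hf π hrange m hm) (Φ.sMap π hrange n hn)
    (fun a b => Φ.commute_long_short hm hn hne _ _) (h := torC chevD4 c) ⟨c, hcf, rfl⟩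
    (hrange (Φ.H₀_le_tG ⟨c, hcf, rfl⟩)) (Φ.lMap_conj hf π hrange hm hcf)
    (Φ.sMap_conj π hrange hn hcf) (Or.inl ⟨rfl, ?_⟩)
    (x := 1) (hl.trans (Φ.lMap_one hf π hrange m hm).symm) hg
  intro e
  rcases hn with rfl | rfl | rfl
  · exact hμ (Units.ext (by rw [e0] at e; exact e))
  · exact hμ (Units.ext (by rw [e2] at e; exact e))
  · exact hμ5 (Units.ext (by rw [e3] at e; exact e))

/-- The lift of a long root group given by an involution. -/
theorem exists_longLift {n : Fin 6} (hn : n = 1 ∨ n = 4 ∨ n = 5) {l : Γ}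
    (hl : π l = Φ.oX (rep6 n) (1 : K)) (hsq : l * l = 1) :
    ∃ ã : ZMod 2 → Γ, ã 1 = l ∧ (∀ x, π (ã x) = (Φ.lMap hf π hrange n hn).a x) ∧
      (∀ x y, ã (x + y) = ã x * ã y) ∧
      ∀ k : Γ, π k ∈ (Φ.H₀ : Set (GL chevD4.Idx K)) → ∀ μ : ZMod 2,
        (∀ x, π k * (Φ.lMap hf π hrange n hn).a x * (π k)⁻¹ =
          (Φ.lMap hf π hrange n hn).a (μ * x)) →
        ∀ x, k * ã x * k⁻¹ = ã (μ * x) := by
  have h01 : ∀ x : ZMod 2, x = 0 ∨ x = 1 := by decide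
  refine ⟨fun x => if x = 0 then 1 else l, by simp, fun x => ?_, fun x y => ?_,
    fun k hk μ hμ x => ?_⟩
  · rcases h01 x with rfl | rfl
    · simp [RootMap.a_zero]
    · simpa using hl.trans (Φ.lMap_one hf π hrange n hn).symm
  · rcases h01 x with rfl | rfl <;> rcases h01 y with rfl | rfl <;>
      simp [hsq, show (1 : ZMod 2) + 1 = 0 from by decide]
  · obtain ⟨c, hcf, hc'⟩ := hk
    have h1 := hμ 1
    rw [← hc', show torHom chevD4 K c = torC chevD4 c from rfl,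
      Φ.lMap_conj hf π hrange hn hcf, one_mul, mul_one] at h1
    have hμ1 : μ = 1 := by
      rcases h01 μ with rfl | rfl
      · rw [RootMap.a_zero, lMap_one] at h1
        have := Φ.oX_injective (setupD4.rep_pos _) (h1.trans (Φ.oX_zero _).symm)
        exact absurd this one_ne_zero
      · rfl
    rw [hμ1, one_mul]
    rcases h01 x with rfl | rfl
    · simp
    · have hkl : Commute k l := commute_of_pow_seven hc
        (by rw [← hc']; exact Φ.torus_pow_seven hK ⟨c, hcf, rfl⟩) hsq (by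
          rw [← hc', hl, show torHom chevD4 K c = torC chevD4 c from rfl]
          have := Φ.lMap_conj hf π hrange hn hcf 1
          rw [one_mul, lMap_one, mul_inv_eq_iff_eq_mul] at this
          exact this)
      simp [hkl.eq]

end FieldTwist

end CfsgLib.GraphTwist
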