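import Cfsg.Agent.SchurBN.TwistSect
import Cfsg.Agent.SchurBN.TwistWeights

/-!
# Commutators of orbit root elements in characteristic two, for `³D₄`
-/

set_option autoImplicit false
set_option linter.style.haveILetI false
set_option linter.unusedSectionVars false
set_option maxRecDepth 8000

namespace CfsgLib.GraphTwist

open Cfsg.Lie CfsgLib.Chevalley CfsgLib.SchurBN
open scoped MatrixGroups commutatorElement

/-- A commutator of products whose pairwise commutators commute with everything in sight. -/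
theorem comm_list {M ι κ : Type*} [Group M] (p : ι → M) (q : κ → M) (w : ι → κ → M) (Q : List κ) :
    ∀ P : List ι, (∀ i ∈ P, ∀ j ∈ Q, ⁅p i, q j⁆ = w i j) →
      (∀ i ∈ P, ∀ j ∈ Q, ∀ i' ∈ P, Commute (p i') (w i j)) →
      (∀ i ∈ P, ∀ j ∈ Q, ∀ j' ∈ Q, Commute (q j') (w i j)) →
      (∀ i ∈ P, ∀ j ∈ Q, ∀ i' ∈ P, ∀ j' ∈ Q, Commute (w i' j') (w i j)) →
      ⁅(P.map p).prod, (Q.map q).prod⁆ = (P.map fun i => (Q.map (w i)).prod).prod
  | [], _, _, _, _ => by simp
  | i :: P, hw, hp, hq, hww => by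
    have ih := comm_list p q w Q P
      (fun a ha => hw a (List.mem_cons_of_mem _ ha))
      (fun a ha b hb a' ha' => hp a (List.mem_cons_of_mem _ ha) b hb a' (List.mem_cons_of_mem _ ha'))
      (fun a ha => hq a (List.mem_cons_of_mem _ ha))
      (fun a ha b hb a' ha' => hww a (List.mem_cons_of_mem _ ha) b hb a'
        (List.mem_cons_of_mem _ ha'))
    have hrow : ∀ L : List κ, (∀ j ∈ L, j ∈ Q) →
        ⁅p i, (L.map q).prod⁆ = (L.map (w i)).prod := by
      intro L
      induction L with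
      | nil => simp
      | cons j L ihL =>
        intro hL
        have hj := hL j List.mem_cons_self
        have hL' : ∀ b ∈ L, b ∈ Q := fun b hb => hL b (List.mem_cons_of_mem _ hb)
        simp only [List.map_cons, List.prod_cons]
        rw [CfsgLib.SchurBound.commutator_mul_right, hw i List.mem_cons_self j hj, ihL hL']
        rw [ihL hL']
        refine Commute.list_prod_right _ _ fun x hx => ?_
        obtain ⟨b, hb, rfl⟩ := List.mem_map.1 hx
        exact hq i List.mem_cons_self b (hL' b hb) j hj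
    simp only [List.map_cons, List.prod_cons]
    rw [CfsgLib.SchurBound.commutator_mul_left, ih, hrow Q fun _ h => h]
    · refine (Commute.list_prod_left _ _ fun x hx => Commute.list_prod_right _ _ fun y hy => ?_).eq
      obtain ⟨a, ha, rfl⟩ := List.mem_map.1 hx
      obtain ⟨b, hb, rfl⟩ := List.mem_map.1 hy
      refine Commute.list_prod_left _ _ fun z hz => ?_
      obtain ⟨c, hc, rfl⟩ := List.mem_map.1 hz
      exact hww i List.mem_cons_self b hb a (List.mem_cons_of_mem _ ha) c hc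
    · rw [ih]
      refine Commute.list_prod_right _ _ fun x hx => ?_
      obtain ⟨a, ha, rfl⟩ := List.mem_map.1 hx
      refine Commute.list_prod_right _ _ fun z hz => ?_
      obtain ⟨c, hc, rfl⟩ := List.mem_map.1 hz
      exact hp a (List.mem_cons_of_mem _ ha) c hc i List.mem_cons_self

/-- The representative with a given number. -/
def rep6 (n : Fin 6) : Root chevD4 := setupD4.rep ⟨n.1, n.2.trans_eq (by decide)⟩

theorem sgn_D4 : ∀ r : Root chevD4,
    setupD4.cfg.S.sgn r = 1 ∨ setupD4.cfg.S.sgn r = -1 := by decide +kernel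

theorem commTerms_D4 : ∀ r s : Root chevD4, ∀ c ∈ chevD4.commTerms r s,
    (c.2.1 = 1 ∨ c.2.1 = -1) ∧ c.2.2.1 = 1 ∧ c.2.2.2 = 1 := by decide +kernel

variable {K : Type*} [Field K] [CharP K 2]

theorem neg_two (x : K) : -x = x := CharTwo.neg_eq x

theorem int_unit_two {c : ℤ} (h : c = 1 ∨ c = -1) : (c : K) = 1 := by
  rcases h with rfl | rfl
  · simp
  · simp [neg_two]

theorem X_inv_two (r : Root chevD4) (t : K) :
    (X setupD4.good.good r t)⁻¹ = X setupD4.good.good r t := by
  rw [X_inv, neg_two]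

theorem X_commute_two {r s : Root chevD4} (hne : s ≠ r.rev) (h : chevD4.commTerms r s = [])
    (t u : K) : Commute (X setupD4.good.good r t) (X setupD4.good.good s u) := by
  rcases eq_or_ne s r with rfl | hsr
  · rw [Commute, SemiconjBy, X_mul, X_mul, add_comm]
  have := X_comm setupD4.good.toGoodComm r s hsr hne t u
  rw [commRhs, h] at this
  simpa [wordGL, Commute, SemiconjBy] using this.symm

theorem X_bracket_two {r s k : Root chevD4} (hsr : s ≠ r) (hne : s ≠ r.rev)
    (h : (chevD4.commTerms r s).map Prod.fst = [(k : ℕ)]) (t u : K) :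
    ⁅X setupD4.good.good r t, X setupD4.good.good s u⁆ = X setupD4.good.good k (t * u) := by
  have h1 := X_comm setupD4.good.toGoodComm r s hsr hne t u
  obtain ⟨⟨k', C, a, b⟩, hc, hk⟩ := List.map_eq_singleton_iff.1 h
  obtain ⟨hC, rfl, rfl⟩ : (C = 1 ∨ C = -1) ∧ a = 1 ∧ b = 1 :=
    commTerms_D4 r s (k', C, a, b) (by rw [hc]; exact List.mem_singleton_self _)
  subst hk
  have h2 : commRhs setupD4.good.good r s t u = X setupD4.good.good k (t * u) := by
    rw [commRhs, hc, wordGL]
    simp only [List.map_cons, List.map_nil, List.prod_cons, List.prod_nil, mul_one, pow_one,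
      dif_pos k.2, int_unit_two hC, one_mul, neg_two]
  have h3 : ⁅X setupD4.good.good s u, X setupD4.good.good r t⁆ =
      commRhs setupD4.good.good r s t u := by
    calc ⁅X setupD4.good.good s u, X setupD4.good.good r t⁆
        = (X setupD4.good.good r t * X setupD4.good.good s u)⁻¹ *
            (X setupD4.good.good s u * X setupD4.good.good r t) := by
          rw [commutatorElement_def, mul_inv_rev, X_inv_two, X_inv_two, mul_assoc]
      _ = _ := by rw [h1, inv_mul_cancel_left]
  rw [← commutatorElement_inv, h3, h2, X_inv_two]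

namespace FieldTwist

variable (Φ : FieldTwist setupD4 K)

theorem tw_two : ∀ (j : ℕ) (r : Root chevD4) (t : K), Φ.tw j r t = Φ.f^[j] t
  | 0, _, _ => rfl
  | j + 1, r, t => by
    rw [tw, tw_two j, int_unit_two (sgn_D4 _), one_mul, Function.iterate_succ_apply']

theorem oX_three {r : Root chevD4} (h : setupD4.osize r = 3) (t : K) :
    Φ.oX r t = ([0, 1, 2].map fun j : ℕ =>
      X setupD4.good.good ((setupD4.σR ^ j) r) (Φ.f^[j] t)).prod := by
  rw [oX, h]
  exact congrArg List.prod (List.map_congr_left fun j _ => by rw [Ψ_pow_X, tw_two])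

theorem oX_long {r : Root chevD4} (h : setupD4.osize r = 1) (t : K) :
    Φ.oX r t = X setupD4.good.good r t := by
  rw [oX, h]
  simp

theorem iterate_f_one (j : ℕ) : Φ.f^[j] (1 : K) = 1 := Function.iterate_fixed (map_one _) j

/-- The long root appearing in the commutator of two short orbit elements. -/
theorem oX_bracket_one {r s k : Root chevD4} (hr : setupD4.osize r = 3) (hs : setupD4.osize s = 3)
    (hk : setupD4.osize k = 1) (m : ℕ → ℕ)
    (hne : ∀ i < 3, ∀ j < 3, (setupD4.σR ^ j) s ≠ (setupD4.σR ^ i) r ∧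
      (setupD4.σR ^ j) s ≠ ((setupD4.σR ^ i) r).rev)
    (hcase : ∀ i < 3, ∀ j < 3,
      if j = m i then
        (chevD4.commTerms ((setupD4.σR ^ i) r : Root chevD4)
          ((setupD4.σR ^ j) s : Root chevD4)).map Prod.fst = [(k : ℕ)]
      else chevD4.commTerms ((setupD4.σR ^ i) r : Root chevD4)
        ((setupD4.σR ^ j) s : Root chevD4) = [])
    (hm : ∀ i < 3, m i < 3)
    (hnr : ∀ i < 3, k ≠ ((setupD4.σR ^ i) r).rev ∧
      chevD4.commTerms ((setupD4.σR ^ i) r : Root chevD4) k = [])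
    (hns : ∀ i < 3, k ≠ ((setupD4.σR ^ i) s).rev ∧
      chevD4.commTerms ((setupD4.σR ^ i) s : Root chevD4) k = []) :
    ⁅Φ.oX r 1, Φ.oX s 1⁆ = Φ.oX k 1 := by
  rw [Φ.oX_three hr, Φ.oX_three hs, Φ.oX_long hk]
  simp only [Φ.iterate_f_one]
  have hmem : ∀ i ∈ [0, 1, 2], i < 3 := by decide
  rw [comm_list _ _ (fun i j => if j = m i then X setupD4.good.good k (1 : K) else 1) [0, 1, 2]
    [0, 1, 2]
    (fun i hi j hj => by
      have h := hcase i (hmem i hi) j (hmem j hj)
      have h' := hne i (hmem i hi) j (hmem j hj)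
      split_ifs at h ⊢ with e
      · rw [X_bracket_two h'.1 h'.2 h, mul_one]
      · rw [commutatorElement_eq_one_iff_commute]
        exact X_commute_two h'.2 h _ _)
    (fun i _ j _ a ha => by
      have h := hnr a (hmem a ha)
      split_ifs
      · exact X_commute_two h.1 h.2 _ _
      · exact Commute.one_right _)
    (fun i _ j _ a ha => by
      have h := hns a (hmem a ha)
      split_ifs
      · exact X_commute_two h.1 h.2 _ _
      · exact Commute.one_right _)
    (fun i _ j _ a _ b _ => by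
      split_ifs
      · exact Commute.refl _
      · exact Commute.one_right _
      · exact Commute.one_left _
      · exact Commute.refl _)]
  have hrow : ∀ i < 3, ([0, 1, 2].map fun j => if j = m i then X setupD4.good.good k (1 : K)
      else 1).prod = X setupD4.good.good k (1 : K) := fun i hi => by
    have := hm i hi
    rcases (show m i = 0 ∨ m i = 1 ∨ m i = 2 by omega) with e | e | e <;> simp [e]
  simp only [List.map_cons, List.map_nil, List.prod_cons, List.prod_nil, mul_one] at hrow ⊢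
  rw [hrow 0 (by norm_num), hrow 1 (by norm_num), hrow 2 (by norm_num), X_mul, X_mul,
    CharTwo.add_self_eq_zero, add_zero]

theorem bracket03 : ⁅Φ.oX (rep6 0) 1, Φ.oX (rep6 3) 1⁆ = Φ.oX (rep6 4) (1 : K) :=
  Φ.oX_bracket_one (by decide +kernel) (by decide +kernel) (by decide +kernel)
    (fun i => [2, 0, 1].getD i 0) (by decide +kernel) (by decide +kernel) (by decide +kernel)
    (by decide +kernel) (by decide +kernel)

theorem bracket23 : ⁅Φ.oX (rep6 2) 1, Φ.oX (rep6 3) 1⁆ = Φ.oX (rep6 5) (1 : K) :=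
  Φ.oX_bracket_one (by decide +kernel) (by decide +kernel) (by decide +kernel)
    (fun i => [2, 0, 1].getD i 0) (by decide +kernel) (by decide +kernel) (by decide +kernel)
    (by decide +kernel) (by decide +kernel)

theorem bracket_neg : ⁅Φ.oX (setupD4.spR (0 : Fin 2)).rev 1, Φ.oX (rep6 2) 1⁆ =
    Φ.oX (rep6 1) (1 : K) :=
  Φ.oX_bracket_one (by decide +kernel) (by decide +kernel) (by decide +kernel)
    (fun i => [1, 2, 0].getD i 0) (by decide +kernel) (by decide +kernel) (by decide +kernel)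
    (by decide +kernel) (by decide +kernel)

theorem commute_oX_14 {b : Fin 6} (hb : b = 2 ∨ b = 3) (x y : K) :
    Commute (Φ.oX (rep6 1) x) (Φ.oX (rep6 b) y) := by
  have h1 : setupD4.osize (rep6 1) = 1 ∧ ∀ b : Fin 6, b = 2 ∨ b = 3 →
      setupD4.osize (rep6 b) = 3 ∧ ∀ j < 3, (setupD4.σR ^ j) (rep6 b) ≠ (rep6 1).rev ∧
        chevD4.commTerms (rep6 1) ((setupD4.σR ^ j) (rep6 b) : Root chevD4) = [] := by
    decide +kernel
  obtain ⟨hb3, h⟩ := h1.2 b hb
  rw [Φ.oX_long h1.1, Φ.oX_three hb3]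
  refine Commute.list_prod_right _ _ fun z hz => ?_
  obtain ⟨j, hj, rfl⟩ := List.mem_map.1 hz
  have := h j ((by decide : ∀ j ∈ [0, 1, 2], j < 3) j hj)
  exact X_commute_two this.1 this.2 _ _

/-- The short component of the commutator of the first and third orbit. -/
theorem bracket02_mod (a b : K) :
    (Φ.oX (rep6 3) (a * Φ.f (Φ.f b) + Φ.f (Φ.f a) * b))⁻¹ *
        ⁅Φ.oX (rep6 0) a, Φ.oX (rep6 2) b⁆ ∈
      setupD4.uT K 4 := by
  let U : Subgroup (GL chevD4.Idx K) := chevD4.posUnipotent K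
  haveI : ((setupD4.uT K 4).subgroupOf U).Normal :=
    Subgroup.normal_subgroupOf_of_le_normalizer (setupD4.pos_le_normalizer_uT _)
  let q := QuotientGroup.mk' ((setupD4.uT K 4).subgroupOf U)
  have hU : ∀ {r : Root chevD4}, half chevD4 ≤ (r : ℕ) → ∀ t : K,
      X setupD4.good.good r t ∈ U := fun {r} hr t => by
    show _ ∈ chevD4.posUnipotent K
    rw [posUnipotent_eq_rootGen setupD4.good.good]
    exact X_mem_rootGen _ hr t
  have hpos : ∀ (n : Fin 6) (i : ℕ), half chevD4 ≤ ((setupD4.σR ^ i) (rep6 n) : ℕ) := fun n i =>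
    (setupD4.σR_pow_pos i _).2 (setupD4.rep_pos _)
  let el : Fin 6 → ℕ → K → ↥U ⧸ (setupD4.uT K 4).subgroupOf U := fun n i t =>
    q ⟨_, hU (hpos n i) t⟩
  have el_add : ∀ n i t u, el n i t * el n i u = el n i (t + u) := fun n i t u => by
    simp only [el, ← map_mul]
    exact congrArg q (Subtype.ext (X_mul setupD4.good.good _ _ _))
  have hcen : ∀ (i : ℕ) (t : K) (n : Fin 6) (j : ℕ) (u : K),
      Commute (el 3 i t) (el n j u) := by
    intro i t n j u
    have h3 : setupD4.cfg.orbPos ((setupD4.σR ^ i) (rep6 3) : Root chevD4) = 3 :=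
      setupD4.orbPos_eq (i := ⟨3, by decide⟩) (setupD4.mem_orb_iff.2 ⟨i, rfl⟩)
    have h1 := setupD4.comm_X_mem_uT (hpos 3 i) (hpos n j) (i := 3) h3.ge u t
    have h2 : q ((⟨_, hU (hpos 3 i) t⟩ : ↥U)⁻¹ * ((⟨_, hU (hpos n j) u⟩ : ↥U) *
        ⟨_, hU (hpos 3 i) t⟩ * (⟨_, hU (hpos n j) u⟩ : ↥U)⁻¹)) = 1 :=
      (QuotientGroup.eq_one_iff _).2 h1
    rw [map_mul, map_mul, map_mul, map_inv, map_inv, inv_mul_eq_one, eq_mul_inv_iff_mul_eq] at h2
    exact h2
  have hosize : ∀ n : Fin 6, n = 0 ∨ n = 2 ∨ n = 3 → setupD4.osize (rep6 n) = 3 := by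
    decide +kernel
  have hoU : ∀ (n : Fin 6) (t : K), Φ.oX (rep6 n) t ∈ U := fun n t =>
    Φ.oX_mem_pos (setupD4.rep_pos _) t
  have he : ∀ (n : Fin 6) (t : K) (h : n = 0 ∨ n = 2 ∨ n = 3),
      q ⟨_, hoU n t⟩ = ([0, 1, 2].map fun i => el n i (Φ.f^[i] t)).prod := fun n t h => by
    simp only [el, List.map_cons, List.map_nil, List.prod_cons, List.prod_nil, mul_one, ← map_mul]
    refine congrArg q (Subtype.ext ?_)
    show Φ.oX (rep6 n) t = _
    rw [Φ.oX_three (hosize n h)]
    simp [mul_assoc]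
  have htab : ∀ i < 3, ∀ j < 3,
      (setupD4.σR ^ j) (rep6 2) ≠ (setupD4.σR ^ i) (rep6 0) ∧
      (setupD4.σR ^ j) (rep6 2) ≠ ((setupD4.σR ^ i) (rep6 0)).rev ∧
      if i = j then chevD4.commTerms ((setupD4.σR ^ i) (rep6 0) : Root chevD4)
          ((setupD4.σR ^ j) (rep6 2) : Root chevD4) = []
      else (chevD4.commTerms ((setupD4.σR ^ i) (rep6 0) : Root chevD4)
          ((setupD4.σR ^ j) (rep6 2) : Root chevD4)).map Prod.fst =
        [((setupD4.σR ^ ([[0, 1, 0], [1, 0, 2], [0, 2, 0]].getD i []).getD j 0) (rep6 3) : ℕ)] := by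
    decide +kernel
  let m : ℕ → ℕ → ℕ := fun i j => ([[0, 1, 0], [1, 0, 2], [0, 2, 0]].getD i []).getD j 0
  have hmem : ∀ i ∈ [0, 1, 2], i < 3 := by decide
  have key := comm_list (fun i => el 0 i (Φ.f^[i] a)) (fun j => el 2 j (Φ.f^[j] b))
    (fun i j => if i = j then 1 else el 3 (m i j) (Φ.f^[i] a * Φ.f^[j] b)) [0, 1, 2] [0, 1, 2]
    (fun i hi j hj => by
      obtain ⟨h1, h2, h3⟩ := htab i (hmem i hi) j (hmem j hj)
      simp only [el, ← map_commutatorElement]
      split_ifs at h3 ⊢ with e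
      · rw [← map_one q]
        exact congrArg q (Subtype.ext (commutatorElement_eq_one_iff_commute.2
          (X_commute_two h2 h3 _ _)))
      · refine congrArg q (Subtype.ext ?_)
        refine (map_commutatorElement U.subtype _ _).trans ?_
        show ⁅X setupD4.good.good _ _, X setupD4.good.good _ _⁆ = X setupD4.good.good _ _
        rw [X_bracket_two h1 h2 h3])
    (fun i _ j _ b _ => by split_ifs; exacts [Commute.one_right _, (hcen _ _ _ _ _).symm])
    (fun i _ j _ b _ => by split_ifs; exacts [Commute.one_right _, (hcen _ _ _ _ _).symm])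
    (fun i _ j _ b _ c _ => by
      split_ifs
      · exact Commute.one_left _
      · exact Commute.one_left _
      · exact Commute.one_right _
      · exact hcen _ _ _ _ _)
  rw [← he 0 a (by simp), ← he 2 b (by simp)] at key
  have hfin : ([0, 1, 2].map fun i => ([0, 1, 2].map fun j => if i = j then 1 else
      el 3 (m i j) (Φ.f^[i] a * Φ.f^[j] b)).prod).prod =
      q ⟨_, hoU 3 (a * Φ.f (Φ.f b) + Φ.f (Φ.f a) * b)⟩ := by
    have hper : Φ.f (Φ.f (Φ.f a)) = a := Φ.periodic a
    have hperb : Φ.f (Φ.f (Φ.f b)) = b := Φ.periodic b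
    rw [he 3 _ (by simp)]
    simp only [List.map_cons, List.map_nil, List.prod_cons, List.prod_nil, mul_one, one_mul, m,
      List.getD_cons_zero, List.getD_cons_succ, Function.iterate_succ_apply',
      Function.iterate_zero_apply, map_add, map_mul, hper, hperb, Nat.zero_ne_one, Nat.one_ne_zero, OfNat.zero_ne_ofNat,
      OfNat.ofNat_ne_zero, OfNat.one_ne_ofNat, OfNat.ofNat_ne_one, if_true, if_false, ← el_add]
    simp only [mul_assoc]
    have hl : ∀ i t j u z, el 3 i t * (el 3 j u * z) = el 3 j u * (el 3 i t * z) :=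
      fun i t j u z => (hcen i t 3 j u).left_comm z
    rw [hl 1 (a * Φ.f b) 0 (a * Φ.f (Φ.f b)),
      hl 2 (Φ.f a * Φ.f (Φ.f b)) 0 (Φ.f (Φ.f a) * b),
      hl 1 (Φ.f a * b) 0 (Φ.f (Φ.f a) * b), hl 1 (a * Φ.f b) 0 (Φ.f (Φ.f a) * b),
      hl 1 (a * Φ.f b) 1 (Φ.f a * b),
      (hcen 2 (Φ.f a * Φ.f (Φ.f b)) 3 2 (Φ.f (Φ.f a) * Φ.f b)).eq]
  rw [hfin, ← map_commutatorElement] at key
  refine Subgroup.mem_subgroupOf.1 (show
    (⟨_, hoU 3 (a * Φ.f (Φ.f b) + Φ.f (Φ.f a) * b)⟩ : ↥U)⁻¹ *
      ⁅(⟨_, hoU 0 a⟩ : ↥U), ⟨_, hoU 2 b⟩⁆ ∈ (setupD4.uT K 4).subgroupOf U from ?_)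
  rw [← QuotientGroup.eq_one_iff]
  show q (_⁻¹ * _) = 1
  rw [map_mul, map_inv, key, inv_mul_cancel]

end FieldTwist

end CfsgLib.GraphTwist
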