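import Cfsg.Agent.SchurBN.TwoD4Aux

/-!
# `³D₄(2)`: an equivariant section over the unipotent group
-/

set_option autoImplicit false
set_option linter.style.haveILetI false
set_option linter.unusedSectionVars false
set_option maxRecDepth 8000

namespace CfsgLib.GraphTwist

open Cfsg.Lie CfsgLib.Chevalley CfsgLib.SchurBN
open scoped MatrixGroups commutatorElement

namespace FieldTwist

variable {K : Type*} [Field K] [CharP K 2] [Finite K] (Φ : FieldTwist setupD4 K)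

theorem oX6_mem_U1 (n : Fin 6) {x : K} (h : Φ.Adm (rep6 n) x) : Φ.oX (rep6 n) x ∈ Φ.U1 :=
  ⟨Φ.oX_mem_pos (setupD4.rep_pos _) _, Φ.oX_mem_fix h⟩

theorem norm_u1 {g : GL chevD4.Idx K} (hg : g ∈ Φ.U1) (j : ℕ) : Norm (Φ.u1 j) g := fun u hu =>
  ⟨(Subgroup.mem_normalizer_iff.1 (setupD4.pos_le_normalizer_uT j hg.1) u).1 hu.1,
    Φ.conj_mem_fix hg.2 hu.2⟩

theorem norm_H₀ (j : ℕ) : ∀ h ∈ (Φ.H₀ : Set (GL chevD4.Idx K)), Norm (Φ.u1 j) h :=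
  fun _ hh _ hu => Φ.H₀_conj_u1 hh hu

theorem u1_six {u : GL chevD4.Idx K} (hu : u ∈ Φ.u1 6) : u = 1 :=
  Subgroup.mem_bot.1 (setupD4.uT_norb (K := K) ▸
    (show (6 : ℕ) = setupD4.norb by decide) ▸ hu.1)

theorem comm_step (m n : Fin 6) {x y : K} (hx : Φ.Adm (rep6 m) x) (hy : Φ.Adm (rep6 n) y) :
    (Φ.oX (rep6 n) y)⁻¹ * (Φ.oX (rep6 m) x * Φ.oX (rep6 n) y * (Φ.oX (rep6 m) x)⁻¹) ∈
      Φ.u1 (n.1 + 1) := by
  refine Subgroup.mem_inf.2 ⟨?_, mul_mem (inv_mem (Φ.oX_mem_fix hy))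
    (Φ.conj_mem_fix (Φ.oX_mem_fix hx) (Φ.oX_mem_fix hy))⟩
  have := Φ.oX_comm_mem_uT (r := rep6 n) (s := rep6 m) (setupD4.rep_pos _) (setupD4.rep_pos _) x y
  have e : setupD4.cfg.orbPos (rep6 n : Root chevD4) = n.1 :=
    setupD4.orbPos_eq (i := ⟨n.1, n.2.trans_eq (by decide)⟩) (setupD4.self_mem_orb _)
  rwa [e] at this

variable {Γ : Type*} [Group Γ] {π : Γ →* GL chevD4.Idx K} (hc : π.ker ≤ Subgroup.center Γ)

omit [Finite K] in
theorem dev_one_left {P : Subgroup (GL chevD4.Idx K)} (S : Sect π (Φ.H₀ : Set _) P)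
    (u : GL chevD4.Idx K) : S.dev 1 u = 1 := by
  rw [Sect.dev_eq_one_iff]
  simp

include hc

/-- Descending the layers. -/
theorem dev_layer {P : Subgroup (GL chevD4.Idx K)} (S : Sect π (Φ.H₀ : Set _) P) (n : Fin 6)
    (hP : Φ.u1 n.1 ≤ P) {l : Γ} (hl : Norm P (π l))
    (hnext : ∀ u ∈ Φ.u1 (n.1 + 1), S.dev l u = 1)
    (hgen : ∀ y, Φ.Adm (rep6 n) y → S.dev l (Φ.oX (rep6 n) y) = 1) :
    ∀ u ∈ Φ.u1 n.1, S.dev l u = 1 := by
  intro u hu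
  obtain ⟨y, hy, b, hb, rfl⟩ := Φ.exists_split_u1 ⟨n.1, n.2.trans_eq (by decide)⟩ hu
  show S.dev l (Φ.oX (rep6 n) y * b) = 1
  rw [S.dev_mul hc hl (hP (Φ.oX6_mem_u1 n hy)) (hP (Φ.u1_anti (Nat.le_succ _) hb))]
  rw [hgen y hy, hnext b hb, one_mul]

/-- One extension step. -/
theorem extend_step (n : Fin 6) (S : Sect π (Φ.H₀ : Set (GL chevD4.Idx K)) (Φ.u1 (n.1 + 1)))
    {F : Type*} [Field F] (A : RootMap π (Φ.H₀ : Set (GL chevD4.Idx K)) F) (e : F →+* K)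
    (hA : ∀ x, A.a x = Φ.oX (rep6 n) (e x)) (hadm : ∀ x, Φ.Adm (rep6 n) (e x))
    (hcov : ∀ y, Φ.Adm (rep6 n) y → ∃ x, e x = y) {ã : F → Γ} (hã : ∀ x, π (ã x) = A.a x)
    (hadd : ∀ x y, ã (x + y) = ã x * ã y)
    (heq : ∀ k : Γ, π k ∈ (Φ.H₀ : Set (GL chevD4.Idx K)) → ∀ μ : F,
      (∀ x, π k * A.a x * (π k)⁻¹ = A.a (μ * x)) → ∀ x, k * ã x * k⁻¹ = ã (μ * x))
    (hact : ∀ x, ∀ u ∈ Φ.u1 (n.1 + 1), S.dev (ã x) u = 1) :
    ∃ S' : Sect π (Φ.H₀ : Set (GL chevD4.Idx K)) (Φ.u1 n.1),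
      (∀ u ∈ Φ.u1 (n.1 + 1), S'.s u = S.s u) ∧ ∀ x, S'.s (A.a x) = ã x := by
  have hU : ∀ x, A.a x ∈ Φ.U1 := fun x => hA x ▸ Φ.oX6_mem_U1 n (hadm x)
  obtain ⟨S', hS'⟩ := S.extend (Q := Φ.u1 n.1) A hã hadd heq
    (fun x => Φ.norm_u1 (hU x) _)
    (fun x u hu => by
      have := (S.dev_eq_one_iff (ã x) u).1 (hact x u hu)
      rwa [hã] at this)
    (Φ.norm_H₀ _)
    (fun g hg => by
      obtain ⟨y, hy, b, hb, rfl⟩ := Φ.exists_split_u1 ⟨n.1, n.2.trans_eq (by decide)⟩ hg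
      obtain ⟨x, hx⟩ := hcov y hy
      exact ⟨x, b, hb, by rw [hA, hx]; rfl⟩)
    (fun x hx => by
      rw [hA] at hx
      have h1 := setupD4.orb_inf_tail ⟨n.1, n.2.trans_eq (by decide)⟩
        (Φ.oX_mem_rootGen _ _) hx.1
      have h2 := Φ.oX_injective (setupD4.rep_pos _) (h1.trans (Φ.oX_zero _).symm)
      exact e.injective (h2.trans (map_zero e).symm))
  have h0 : ã 0 = 1 := by
    have := hadd 0 0
    rwa [add_zero, eq_comm, mul_eq_left] at this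
  refine ⟨S', fun u hu => ?_, fun x => ?_⟩
  · have := hS' 0 u hu
    rwa [A.a_zero, one_mul, h0, one_mul] at this
  · have := hS' x 1 (one_mem _)
    rwa [mul_one, S.s_one, mul_one] at this

variable (hf : ∀ x, Φ.f x = x ^ 2) (hK : Nat.card K = 8) (hrange : Φ.tG ≤ π.range)
include hf hK

theorem exists_sep : ∃ c ∈ Φ.fixC, ∀ n : Fin 6, n = 0 ∨ n = 2 ∨ n = 3 →
    (ChevSimple.chi c (rep6 n) : K) ≠ 1 := by
  obtain ⟨μ, hμ, hμ5, -, -⟩ := exists_generic hK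
  obtain ⟨c, hcf, e0, e2, e3⟩ := Φ.exists_mu hf hK μ
  refine ⟨c, hcf, ?_⟩
  rintro n (rfl | rfl | rfl) e <;> rw [Units.val_eq_one] at e
  · exact hμ (e0 ▸ e)
  · exact hμ (e2 ▸ e)
  · exact hμ5 (e3 ▸ e)

/-- Separated weights: a short root lift on a long root group, or the other way round. -/
theorem dev_short_long {P : Subgroup (GL chevD4.Idx K)} (S : Sect π (Φ.H₀ : Set _) P)
    (hHP : ∀ h ∈ (Φ.H₀ : Set (GL chevD4.Idx K)), Norm P h)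
    {n m : Fin 6} (hn : n = 0 ∨ n = 2 ∨ n = 3) (hm : m = 1 ∨ m = 4 ∨ m = 5)
    (hP : Φ.u1 m.1 ≤ P) (hnorm : ∀ x, Norm P (Φ.oX (rep6 n) x)) {ã : K → Γ}
    (hã : ∀ x, π (ã x) = (Φ.sMap π hrange n hn).a x)
    (hadd : ∀ x y, ã (x + y) = ã x * ã y)
    (heq : ∀ k : Γ, π k ∈ (Φ.H₀ : Set (GL chevD4.Idx K)) → ∀ μ : K,
      (∀ x, π k * (Φ.sMap π hrange n hn).a x * (π k)⁻¹ = (Φ.sMap π hrange n hn).a (μ * x)) →
      ∀ x, k * ã x * k⁻¹ = ã (μ * x))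
    (hnext : ∀ x, ∀ u ∈ Φ.u1 (m.1 + 1), S.dev (ã x) u = 1) (x : K) :
    ∀ u ∈ Φ.u1 m.1, S.dev (ã x) u = 1 := by
  refine Φ.dev_layer hc S m hP ((hã x).symm ▸ hnorm x) (hnext x) fun y hy => ?_
  obtain ⟨c, hcf, hne⟩ := Φ.exists_sep hc hf hK
  obtain ⟨hl, hr, hinv⟩ := S.dev_pairing hc (Φ.sMap π hrange n hn) hã hadd heq hnorm hHP
    (Φ.lMap hf π hrange m hm) (fun z => hP (Φ.oX6_mem_u1 m (by
      rcases (by decide : ∀ x : ZMod 2, x = 0 ∨ x = 1) z with rfl | rfl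
      · rw [map_zero]; exact Φ.adm_zero _
      · rw [map_one]; exact Φ.adm_one _)))
    (fun a b z => hnext b _ (Φ.comm_step n m (Φ.adm_short hn a) (by
      rcases (by decide : ∀ x : ZMod 2, x = 0 ∨ x = 1) z with rfl | rfl
      · rw [map_zero]; exact Φ.adm_zero _
      · rw [map_one]; exact Φ.adm_one _)))
  have := pairing_sep (fun a z => S.dev (ã a) ((Φ.lMap hf π hrange m hm).a z)) hl hr
    (hinv (torC chevD4 c) ⟨c, hcf, rfl⟩ (hrange (Φ.H₀_le_tG ⟨c, hcf, rfl⟩)) _ _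
      (Φ.sMap_conj π hrange hn hcf) (Φ.lMap_conj hf π hrange hm hcf)) (Or.inr ⟨hne n hn, rfl⟩) x 1
  rcases Φ.adm_long hf hm hy with rfl | rfl
  · rw [oX_zero, S.dev_one_right]
  · rwa [Φ.lMap_one hf π hrange m hm] at this

/-- A long root lift on a short root group with which it commutes. -/
theorem dev_long_short {P : Subgroup (GL chevD4.Idx K)} (S : Sect π (Φ.H₀ : Set _) P)
    (hHP : ∀ h ∈ (Φ.H₀ : Set (GL chevD4.Idx K)), Norm P h)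
    {n m : Fin 6} (hn : n = 0 ∨ n = 2 ∨ n = 3) (hm : m = 1 ∨ m = 4 ∨ m = 5)
    (hne : ¬(m = 1 ∧ n = 0)) (hP : Φ.u1 n.1 ≤ P)
    (hnorm : ∀ x, Norm P ((Φ.lMap hf π hrange m hm).a x)) {ã : ZMod 2 → Γ}
    (hã : ∀ x, π (ã x) = (Φ.lMap hf π hrange m hm).a x)
    (hadd : ∀ x y, ã (x + y) = ã x * ã y)
    (heq : ∀ k : Γ, π k ∈ (Φ.H₀ : Set (GL chevD4.Idx K)) → ∀ μ : ZMod 2,
      (∀ x, π k * (Φ.lMap hf π hrange m hm).a x * (π k)⁻¹ =
        (Φ.lMap hf π hrange m hm).a (μ * x)) →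
      ∀ x, k * ã x * k⁻¹ = ã (μ * x))
    (y : K) : S.dev (ã 1) (Φ.oX (rep6 n) y) = 1 := by
  obtain ⟨c, hcf, hne'⟩ := Φ.exists_sep hc hf hK
  obtain ⟨hl, hr, hinv⟩ := S.dev_pairing hc (Φ.lMap hf π hrange m hm) hã hadd heq hnorm hHP
    (Φ.sMap π hrange n hn) (fun z => hP (Φ.oX6_mem_u1 n (Φ.adm_short hn z)))
    (fun a b z => by
      show S.dev (ã b) ((Φ.oX (rep6 n) z)⁻¹ *
        (Φ.oX (rep6 m) _ * Φ.oX (rep6 n) z * (Φ.oX (rep6 m) _)⁻¹)) = 1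
      rw [(Φ.commute_long_short hm hn hne _ z).eq, mul_inv_cancel_right, inv_mul_cancel,
        S.dev_one_right])
  exact pairing_sep (fun a z => S.dev (ã a) ((Φ.sMap π hrange n hn).a z)) hl hr
    (hinv (torC chevD4 c) ⟨c, hcf, rfl⟩ (hrange (Φ.H₀_le_tG ⟨c, hcf, rfl⟩)) _ _
      (Φ.lMap_conj hf π hrange hm hcf) (Φ.sMap_conj π hrange hn hcf))
    (Or.inl ⟨rfl, hne' n hn⟩) 1 y

/-- The pairing of weights `μ`, `μ⁵` vanishes once it kills `1` and the elements of trace zero. -/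
theorem dev_short_three {P : Subgroup (GL chevD4.Idx K)} (S : Sect π (Φ.H₀ : Set _) P)
    (hHP : ∀ h ∈ (Φ.H₀ : Set (GL chevD4.Idx K)), Norm P h)
    {n : Fin 6} (hn : n = 0 ∨ n = 2) (hP : Φ.u1 3 ≤ P)
    (hnorm : ∀ x, Norm P (Φ.oX (rep6 n) x)) {ã : K → Γ}
    (hã : ∀ x, π (ã x) = (Φ.sMap π hrange n (hn.imp id Or.inl)).a x)
    (hadd : ∀ x y, ã (x + y) = ã x * ã y)
    (heq : ∀ k : Γ, π k ∈ (Φ.H₀ : Set (GL chevD4.Idx K)) → ∀ μ : K,
      (∀ x, π k * (Φ.sMap π hrange n (hn.imp id Or.inl)).a x * (π k)⁻¹ =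
        (Φ.sMap π hrange n (hn.imp id Or.inl)).a (μ * x)) →
      ∀ x, k * ã x * k⁻¹ = ã (μ * x))
    (hnext : ∀ x, ∀ u ∈ Φ.u1 4, S.dev (ã x) u = 1)
    (hone : S.dev (ã 1) (Φ.oX (rep6 3) 1) = 1)
    (htr : ∀ a : K, S.dev (ã 1) (Φ.oX (rep6 3) (a + Φ.f (Φ.f a))) = 1) (x : K) :
    ∀ u ∈ Φ.u1 3, S.dev (ã x) u = 1 := by
  refine Φ.dev_layer hc S 3 hP ((hã x).symm ▸ hnorm x) (hnext x) fun y _ => ?_
  obtain ⟨hl, hr, hinv⟩ := S.dev_pairing hc (Φ.sMap π hrange n (hn.imp id Or.inl)) hã hadd heq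
    hnorm hHP (Φ.sMap π hrange 3 (by simp))
    (fun z => hP (Φ.oX6_mem_u1 3 (Φ.adm_short (by simp) z)))
    (fun a b z => hnext b _
      (Φ.comm_step n 3 (Φ.adm_short (hn.imp id Or.inl) a) (Φ.adm_short (by simp) z)))
  have h1 : ∀ z : K, S.dev (ã 1) (Φ.oX (rep6 3) z) = 1 := by
    intro z
    have h8 : z ^ 8 = z := by
      rcases eq_or_ne z 0 with rfl | hz
      · exact zero_pow (by norm_num)
      · have := congrArg Units.val (pow_seven hK (Units.mk0 z hz))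
        rw [Units.val_pow_eq_pow_val, Units.val_mk0, Units.val_one] at this
        rw [pow_succ, this, one_mul]
    set a := z ^ 4 with ha
    set T := z + z ^ 2 + z ^ 4 with hT
    have h2 : (2 : K) = 0 := CharTwo.two_eq_zero
    have hz : z = (a + Φ.f (Φ.f a)) + T := by
      rw [hf, hf, ha, hT]
      linear_combination -(z ^ 8 + z) * h8 - (z ^ 4 + z ^ 2) * h2
    have hTT : T = 0 ∨ T = 1 := by
      have : T * T = T := by
        rw [hT]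
        linear_combination h8 + (z ^ 3 + z ^ 5 + z ^ 6) * h2
      rcases eq_or_ne T 0 with e | e
      · exact Or.inl e
      · exact Or.inr (mul_right_cancel₀ e (by rw [this, one_mul]))
    rw [hz]
    have := hr 1 (a + Φ.f (Φ.f a)) T
    simp only [sMap_a] at this
    rw [this, htr a, one_mul]
    rcases hTT with e | e <;> rw [e]
    · rw [oX_zero, S.dev_one_right]
    · exact hone
  rcases eq_or_ne x 0 with rfl | hx
  · have := hl 0 0 y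
    rw [add_zero] at this
    simp only [sMap_a] at this
    exact mul_eq_left.1 this.symm
  · obtain ⟨c, hcf, e0, e2, e3⟩ := Φ.exists_mu hf hK (Units.mk0 x hx)
    have hcn : (ChevSimple.chi c (rep6 n) : K) = x := by
      rcases hn with rfl | rfl
      · rw [e0]; rfl
      · rw [e2]; rfl
    have hc3 : (ChevSimple.chi c (rep6 3) : K) = x ^ 5 := by
      rw [e3, Units.val_pow_eq_pow_val]; rfl
    have h := hinv (torC chevD4 c) ⟨c, hcf, rfl⟩ (hrange (Φ.H₀_le_tG ⟨c, hcf, rfl⟩)) _ _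
      (Φ.sMap_conj π hrange (hn.imp id Or.inl) hcf) (Φ.sMap_conj π hrange (by simp) hcf)
      1 (y / x ^ 5)
    simp only [sMap_a] at h
    rw [hcn, hc3, mul_one, mul_div_cancel₀ y (pow_ne_zero 5 hx), h1] at h
    exact h

end FieldTwist

end CfsgLib.GraphTwist
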